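import Cfsg.Agent.H113.QS.DatZ
import Cfsg.Agent.S0928
import Cfsg.Agent.H48.OreFi.Frame
import Cfsg.Agent.H201.O8.Fin_m3
import Cfsg.Agent.KFacts.FiTF.QuasiBInst_mg_m3
import Cfsg.Agent.H48.OreFi.WFour
import Cfsg.Agent.H713.TC.FiCl
import Cfsg.Agent.S2055
import Cfsg.Agent.Lib.PermNetFast
import Cfsg.Agent.H843.Ore.R11
import Cfsg.Agent.H256.Sep.FiData
import Cfsg.Agent.H856.F23.Deg_m3
import Cfsg.Agent.H253.TwoComm.Cent
import Cfsg.Agent.KFacts.FiTF.FixZ_m3
import Cfsg.Agent.S2054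
import Cfsg.Agent.LThreeFi23.Base
import Cfsg.Agent.H75.QO.Red_m3
import Cfsg.Agent.H841.TwG_m3
import Cfsg.Agent.H48.OreFi.WOne_mg_m3
import Cfsg.Agent.H841.SevT
import Mathlib.GroupTheory.Perm.Cycle.Type
import Cfsg.Agent.H834.U5Main
import Cfsg.Agent.SylowU5.Iso_m3
import Cfsg.Agent.H933.R7.Perm
import Cfsg.Agent.H840.Width
import Cfsg.Agent.H935.Fi23.Deg_m3
import Cfsg.Agent.H830.Con24
import Cfsg.Agent.H840.NormX
import Cfsg.Agent.OddHalf.D4.Spor.FiTF_m3
import Cfsg.Agent.LThreeFi24.Row24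
import Cfsg.Agent.LThreeFi24.Red24
import Cfsg.Agent.FastGrp
import Cfsg.Agent.Prune
set_option linter.all false

section
prune_inst 0x7fbcfefb8facbddfdfff7e3faed8dffc11c00fffe6dff94b7fe0ebbf0b9f03a50bc56b870de050fe8e56e09410b87853f97eca3fe86bdc7ffffd5ff41ffbee0fe5f6350951d4983407bc2fff03f07f8a6a3fff7efffffffffffffffffffffffffffffbfeffff

-- part: H611/QF/Sieve
section
prune_inst 0x81000000000000000000000000000004010000
set_option linter.all false
open scoped Cfsg.Agent.FastGrp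

-- part: H611/QF/SieveAll
section
/-!
# The split sieve in a central extension for all elements (helper611, for S2491, S2492)

`π : L →* K` onto with central kernel, `K` simple, `p` an exact self-centralizing prime of `K`, `p ∤ |ker π|`.

* `res_L` : a character of `L` of degree prime to `p` has degree `≡ ± 1` or `± e` modulo `p`; `res_K` the same for `K`;
* `card_of_dvd` : `p ∣ |g|` gives `|C_K(π g)| ≤ p`;
* `prd_all` : `H113.QS.prd_split` without the hypothesis `¬ p ∣ |g|`; `comm_all` : the commutator.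
-/

set_option autoImplicit false

namespace Cfsg.Agent.H611.QF

open Cfsg Cfsg.Agent.Characters Subgroup Cfsg.Agent.H65.Ore Cfsg.Agent.H113.QS
open Cfsg.Agent.SmallSimple.ThetaSetup

universe u v

variable {L : Type u} [Group L] [Finite L]

/-- a character that vanishes at the elements of order `p` has degree divisible by `p` -/
theorem dvd_deg {p : ℕ} (hp : p.Prime) (hL : p ∣ Nat.card L) (χ : IrrCharacter L)
    (h : ∀ x : L, orderOf x = p → (χ : L → ℂ) x = 0) : p ∣ charDegree (χ : L → ℂ) := by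
  have : Fact p.Prime := ⟨hp⟩
  have h1 := S0928.result p χ h
  have h2 : 1 ≤ (Nat.card L).factorization p := (hp.dvd_iff_one_le_factorization Nat.card_pos.ne').1 hL
  rw [← h1] at h2
  exact (hp.dvd_iff_one_le_factorization (charDegree_ne_zero χ.2)).2 h2

variable {K : Type v} [Group K] [Finite K] {π : L →* K}

/-- the degrees prime to `p` -/
theorem res_L [IsSimpleGroup K] (hK : ¬ IsMulCommutative K) (hs : Function.Surjective π) (hc : π.ker ≤ center L)
    {p : ℕ} (hp : p.Prime) {N : ℕ} (hN : Nat.card K = N) {x₀ : K} (hx : orderOf x₀ = p)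
    (hcx : Nat.card (centralizer ({x₀} : Set K)) = p) (hZ : ¬ p ∣ Nat.card π.ker) (e t S : ℕ)
    (hchk : chkSC N p e t S = true) (χ : IrrCharacter L) (h : ¬ p ∣ charDegree (χ : L → ℂ)) :
    (charDegree (χ : L → ℂ) % p = 1 ∨ charDegree (χ : L → ℂ) % p = p - 1) ∨
      (charDegree (χ : L → ℂ) % p = e ∨ charDegree (χ : L → ℂ) % p = p - e) := by
  obtain ⟨θ, hθ⟩ := exists_lies hc χ
  obtain ⟨NE, X, hD⟩ := exists_datZ hK hs hc hp hN hx hcx hZ e t S hchk θ
  by_cases h1 : χ ∈ NE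
  · exact Or.inl (hD.ne_deg χ h1)
  by_cases h2 : χ ∈ X
  · exact Or.inr (hD.x_deg χ h2)
  obtain ⟨x, hxo, -⟩ := exists_lift hs hp hZ hx
  exact absurd (dvd_deg hp (by rw [← hxo]; exact orderOf_dvd_natCard x) χ (hD.off χ hθ h1 h2)) h

/-- the degrees of `K` prime to `p` -/
theorem res_K [IsSimpleGroup K] (hK : ¬ IsMulCommutative K)
    {p : ℕ} (hp : p.Prime) {N : ℕ} (hN : Nat.card K = N) {x₀ : K} (hx : orderOf x₀ = p)
    (hcx : Nat.card (centralizer ({x₀} : Set K)) = p) (e t S : ℕ)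
    (hchk : chkSC N p e t S = true) (χ : IrrCharacter K) (h : ¬ p ∣ charDegree (χ : K → ℂ)) :
    (charDegree (χ : K → ℂ) % p = 1 ∨ charDegree (χ : K → ℂ) % p = p - 1) ∨
      (charDegree (χ : K → ℂ) % p = e ∨ charDegree (χ : K → ℂ) % p = p - e) := by
  obtain ⟨NE, X, hD⟩ := exists_dat hK hp hN hx hcx e t S hchk
  by_cases h1 : χ ∈ NE
  · exact Or.inl (hD.ne_deg χ h1)
  by_cases h2 : χ ∈ X
  · exact Or.inr (hD.x_deg χ h2)
  exact absurd (dvd_deg hp (by rw [← hx]; exact orderOf_dvd_natCard x₀) χ (hD.off χ h1 h2)) h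

/-- an element of order divisible by `p` has a centralizer of order `p` in `K` -/
theorem card_of_dvd [IsSimpleGroup K] (hK : ¬ IsMulCommutative K) (hs : Function.Surjective π) (hc : π.ker ≤ center L)
    {p : ℕ} (hp : p.Prime) {N : ℕ} (hN : Nat.card K = N) {x₀ : K} (hx : orderOf x₀ = p)
    (hcx : Nat.card (centralizer ({x₀} : Set K)) = p) (hZ : ¬ p ∣ Nat.card π.ker) (e t S : ℕ)
    (hchk : chkSC N p e t S = true) {g : L} (hg : p ∣ orderOf g) :
    Nat.card (centralizer ({π g} : Set K)) ≤ p := by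
  obtain ⟨-, -, hcy, -⟩ := setupZ hK hs hc hp hN hx hcx hZ e t S hchk
  have h1 : orderOf g ∣ orderOf (π g) * Nat.card π.ker := by
    apply orderOf_dvd_of_pow_eq_one
    have h2 : g ^ orderOf (π g) ∈ π.ker := by rw [MonoidHom.mem_ker, map_pow, pow_orderOf_eq_one]
    have h3 : (⟨_, h2⟩ : π.ker) ^ Nat.card π.ker = 1 := pow_card_eq_one'
    rw [pow_mul]
    exact congrArg Subtype.val h3
  have h2 : p ∣ orderOf (π g) := by
    rcases (Nat.Prime.dvd_mul hp).1 (hg.trans h1) with h | h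
    · exact h
    · exact absurd h hZ
  obtain ⟨k, hk⟩ := h2
  have hk0 : 0 < k := by
    rcases Nat.eq_zero_or_pos k with h0 | h0
    · rw [h0, mul_zero] at hk
      exact absurd hk (orderOf_pos (π g)).ne'
    · exact h0
  have hgk : orderOf ((π g) ^ k) = p := by
    rw [orderOf_pow' _ hk0.ne', hk, Nat.gcd_eq_right (dvd_mul_left k p), Nat.mul_div_cancel _ hk0]
  have h3 := hcy _ hgk
  rw [← h3]
  exact card_centralizer_pow_le (π g) k

/-- **the split sieve for all elements** -/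
theorem prd_all [IsSimpleGroup K] (hK : ¬ IsMulCommutative K) (hs : Function.Surjective π) (hc : π.ker ≤ center L)
    {p : ℕ} (hp : p.Prime) {N : ℕ} (hN : Nat.card K = N) {x₀ : K} (hx₀ : orderOf x₀ = p)
    (hcx : Nat.card (centralizer ({x₀} : Set K)) = p) (hZ : ¬ p ∣ Nat.card π.ker) (e t S : ℕ)
    (hchk : chkSC N p e t S = true) {x y g : L} (hx : orderOf x = p) (hy : orderOf y = p)
    {DN DX DN' DX' c m : ℕ} (hm : Nat.card π.ker ≤ m)
    (hDN : ∀ ψ : IrrCharacter K, (ψ : K → ℂ) ≠ 1 →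
      (charDegree (ψ : K → ℂ) % p = 1 ∨ charDegree (ψ : K → ℂ) % p = p - 1) → DN ≤ charDegree (ψ : K → ℂ))
    (hDX : ∀ ψ : IrrCharacter K, (ψ : K → ℂ) ≠ 1 →
      (charDegree (ψ : K → ℂ) % p = e ∨ charDegree (ψ : K → ℂ) % p = p - e) → DX ≤ charDegree (ψ : K → ℂ))
    (hDN' : ∀ χ : IrrCharacter L, (∃ z ∈ π.ker, (χ : L → ℂ) z ≠ (χ : L → ℂ) 1) →
      (charDegree (χ : L → ℂ) % p = 1 ∨ charDegree (χ : L → ℂ) % p = p - 1) → DN' ≤ charDegree (χ : L → ℂ))
    (hDX' : ∀ χ : IrrCharacter L, (∃ z ∈ π.ker, (χ : L → ℂ) z ≠ (χ : L → ℂ) 1) →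
      (charDegree (χ : L → ℂ) % p = e ∨ charDegree (χ : L → ℂ) % p = p - e) → DX' ≤ charDegree (χ : L → ℂ))
    (hcard : Nat.card (centralizer ({π g} : Set K)) ≤ c) (r r' : ℚ)
    (hpos : 0 < DN ∧ 0 < DX ∧ 0 < DN' ∧ 0 < DX' ∧ 1 < e ∧ e + 1 < p ∧ 0 ≤ r ∧ 0 ≤ r')
    (hr : (((e : ℚ) - 1) / DN ^ 2 + ((p : ℚ) - e) ^ 2 / (t * DX ^ 2)) * c ≤ r ^ 2)
    (hr' : ((e : ℚ) / DN' ^ 2 + ((p : ℚ) - e) ^ 2 / (t * DX' ^ 2)) * c ≤ r' ^ 2)
    (hsum : r + ((m : ℚ) - 1) * r' < 1) (A B : ℕ)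
    (hnum : (S - 1) * (p - 1) ≤ A ^ 2 ∧ S * p ≤ B ^ 2 ∧
      A * min DN' DX' + (m - 1) * B * min DN DX < min DN DX * min DN' DX' ∧ 1 ≤ S) : Prd x y g := by
  by_cases hg : p ∣ orderOf g
  · have hsz := (SZ.lift hK hs hc hp hN hx₀ hcx hZ e t S hchk).1
    refine hsz.prd_two hs hc hx hy (m := m) (d₁ := min DN DX) (d₂ := min DN' DX') (c := p) A B hm ?_ ?_
      (card_of_dvd hK hs hc hp hN hx₀ hcx hZ e t S hchk hg) hnum
    · intro ψ h1 h2
      rcases res_K hK hp hN hx₀ hcx e t S hchk ψ h2 with h | h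
      · exact (min_le_left _ _).trans (hDN ψ h1 h)
      · exact (min_le_right _ _).trans (hDX ψ h1 h)
    · intro χ h1 h2
      rcases res_L hK hs hc hp hN hx₀ hcx hZ e t S hchk χ h2 with h | h
      · exact (min_le_left _ _).trans (hDN' χ h1 h)
      · exact (min_le_right _ _).trans (hDX' χ h1 h)
  · exact prd_split hK hs hc hp hN hx₀ hcx hZ e t S hchk hx hy hg hm hDN hDX hDN' hDX' hcard r r' hpos hr hr' hsum

/-- **all elements with a small centralizer are commutators** -/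
theorem comm_all [IsSimpleGroup K] (hK : ¬ IsMulCommutative K) (hs : Function.Surjective π) (hc : π.ker ≤ center L)
    {p : ℕ} (hp : p.Prime) {N : ℕ} (hN : Nat.card K = N) {x₀ : K} (hx₀ : orderOf x₀ = p)
    (hcx : Nat.card (centralizer ({x₀} : Set K)) = p) (hZ : ¬ p ∣ Nat.card π.ker) (e t S : ℕ)
    (hchk : chkSC N p e t S = true) {g : L}
    {DN DX DN' DX' c m : ℕ} (hm : Nat.card π.ker ≤ m)
    (hDN : ∀ ψ : IrrCharacter K, (ψ : K → ℂ) ≠ 1 →
      (charDegree (ψ : K → ℂ) % p = 1 ∨ charDegree (ψ : K → ℂ) % p = p - 1) → DN ≤ charDegree (ψ : K → ℂ))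
    (hDX : ∀ ψ : IrrCharacter K, (ψ : K → ℂ) ≠ 1 →
      (charDegree (ψ : K → ℂ) % p = e ∨ charDegree (ψ : K → ℂ) % p = p - e) → DX ≤ charDegree (ψ : K → ℂ))
    (hDN' : ∀ χ : IrrCharacter L, (∃ z ∈ π.ker, (χ : L → ℂ) z ≠ (χ : L → ℂ) 1) →
      (charDegree (χ : L → ℂ) % p = 1 ∨ charDegree (χ : L → ℂ) % p = p - 1) → DN' ≤ charDegree (χ : L → ℂ))
    (hDX' : ∀ χ : IrrCharacter L, (∃ z ∈ π.ker, (χ : L → ℂ) z ≠ (χ : L → ℂ) 1) →
      (charDegree (χ : L → ℂ) % p = e ∨ charDegree (χ : L → ℂ) % p = p - e) → DX' ≤ charDegree (χ : L → ℂ))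
    (hcard : Nat.card (centralizer ({π g} : Set K)) ≤ c) (r r' : ℚ)
    (hpos : 0 < DN ∧ 0 < DX ∧ 0 < DN' ∧ 0 < DX' ∧ 1 < e ∧ e + 1 < p ∧ 0 ≤ r ∧ 0 ≤ r')
    (hr : (((e : ℚ) - 1) / DN ^ 2 + ((p : ℚ) - e) ^ 2 / (t * DX ^ 2)) * c ≤ r ^ 2)
    (hr' : ((e : ℚ) / DN' ^ 2 + ((p : ℚ) - e) ^ 2 / (t * DX' ^ 2)) * c ≤ r' ^ 2)
    (hsum : r + ((m : ℚ) - 1) * r' < 1) (A B : ℕ)
    (hnum : (S - 1) * (p - 1) ≤ A ^ 2 ∧ S * p ≤ B ^ 2 ∧
      A * min DN' DX' + (m - 1) * B * min DN DX < min DN DX * min DN' DX' ∧ 1 ≤ S) :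
    ∃ a b : L, g = a * b * a⁻¹ * b⁻¹ := by
  obtain ⟨x, hx, -⟩ := exists_lift hs hp hZ hx₀
  exact (prd_all hK hs hc hp hN hx₀ hcx hZ e t S hchk hx (by rw [orderOf_inv, hx]) hm hDN hDX hDN' hDX' hcard r r'
    hpos hr hr' hsum A B hnum).comm

end Cfsg.Agent.H611.QF
end

-- part: H611/QF/Sieve
section
/-!
# The sieve in `3.Fi24'` (helper611, for S2491, S2492; step R8 of the row `Fi24'`)

`p : L →* Fi24'` onto with central kernel of order 3. `Deg p DN' DX'` : the bounds of the degrees of the characters of `L` that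
are not trivial on the kernel; `DegK DN DX` : the degrees of `Fi24'` (`H26.Ore.Fi24Deg`: `57477`, `125120`).

* `good_of` : the sieve with a numerical check;
* `good_of_cent` : `57477`, `125120`, `45747`, `201825`: `|C(k)| ≤ 11000000` gives `Good p k`;
* `good_of_cent'` : `57477`, `125120`, `64584`, `201825`: `|C(k)| ≤ 14500000` gives `Good p k`.
-/

set_option autoImplicit false
set_option maxRecDepth 100000

namespace Cfsg.Agent.H611.QF

open Cfsg Cfsg.Agent.Characters Subgroup Cfsg.Agent.H265.TF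

universe u

/-- the bounds of the degrees of `Fi24'` -/
def DegK (DN DX : ℕ) : Prop :=
  (∀ ψ : IrrCharacter Spor.Fi24', (ψ : Spor.Fi24' → ℂ) ≠ 1 →
      (charDegree (ψ : Spor.Fi24' → ℂ) % 29 = 1 ∨ charDegree (ψ : Spor.Fi24' → ℂ) % 29 = 28) →
        DN ≤ charDegree (ψ : Spor.Fi24' → ℂ)) ∧
  (∀ ψ : IrrCharacter Spor.Fi24', (ψ : Spor.Fi24' → ℂ) ≠ 1 →
      (charDegree (ψ : Spor.Fi24' → ℂ) % 29 = 14 ∨ charDegree (ψ : Spor.Fi24' → ℂ) % 29 = 15) →
        DX ≤ charDegree (ψ : Spor.Fi24' → ℂ))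

/-- the bounds of the degrees of the characters that are not trivial on the kernel -/
def DegL {L : Type u} [Group L] (π : L →* Spor.Fi24') (DN DX : ℕ) : Prop :=
  (∀ χ : IrrCharacter L, (∃ z ∈ π.ker, (χ : L → ℂ) z ≠ (χ : L → ℂ) 1) →
      (charDegree (χ : L → ℂ) % 29 = 1 ∨ charDegree (χ : L → ℂ) % 29 = 28) → DN ≤ charDegree (χ : L → ℂ)) ∧
  (∀ χ : IrrCharacter L, (∃ z ∈ π.ker, (χ : L → ℂ) z ≠ (χ : L → ℂ) 1) →
      (charDegree (χ : L → ℂ) % 29 = 14 ∨ charDegree (χ : L → ℂ) % 29 = 15) → DX ≤ charDegree (χ : L → ℂ))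

/-- **the sieve with a numerical check** -/
theorem good_of {L : Type u} [Group L] [Finite L] {π : L →* Spor.Fi24'} (hs : Function.Surjective π)
    (hc : π.ker ≤ center L) (hk : Nat.card π.ker = 3) {DN DX DN' DX' c : ℕ} (hK : DegK DN DX) (hL : DegL π DN' DX')
    (r r' : ℚ) (hpos : 0 < DN ∧ 0 < DX ∧ 0 < DN' ∧ 0 < DX' ∧ 0 ≤ r ∧ 0 ≤ r')
    (hr : ((13 : ℚ) / DN ^ 2 + 225 / (2 * DX ^ 2)) * c ≤ r ^ 2)
    (hr' : ((14 : ℚ) / DN' ^ 2 + 225 / (2 * DX' ^ 2)) * c ≤ r' ^ 2) (hsum : r + 2 * r' < 1)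
    (hnum : 63 * min DN' DX' + 2 * 64 * min DN DX < min DN DX * min DN' DX') {k : Spor.Fi24'}
    (hcard : Nat.card (centralizer ({k} : Set Spor.Fi24')) ≤ c) : Good π k := by
  rintro g rfl
  have := H48.OreFi.finite'
  have : IsSimpleGroup Spor.Fi24' := Cfsg.Agent.S1698.result.1
  obtain ⟨x, -, hx, hC, -⟩ := Cfsg.Agent.H30.IMFi24.exists_x
  obtain ⟨h1, h2, h3, h4, h5, h6⟩ := hpos
  refine comm_all H48.OreFi.not_comm hs hc (p := 29) (by norm_num) Cfsg.Agent.R08.FiTwentyFour.card_commutator hx hC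
    (by rw [hk]; norm_num) 14 2 141 (by decide +kernel) (DN := DN) (DX := DX) (DN' := DN') (DX' := DX') (c := c) (m := 3)
    hk.le hK.1 hK.2 hL.1 hL.2 hcard r r' ⟨h1, h2, h3, h4, by norm_num, by norm_num, h5, h6⟩ ?_ ?_ ?_ 63 64 ?_
  · refine le_trans (le_of_eq ?_) hr
    norm_num
  · refine le_trans (le_of_eq ?_) hr'
    norm_num
  · refine lt_of_le_of_lt (le_of_eq ?_) hsum
    norm_num
  · exact ⟨by norm_num, by norm_num, hnum, by norm_num⟩

/-- **the sieve**: `64584`, `201825` -/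
theorem good_of_cent' {L : Type u} [Group L] [Finite L] {π : L →* Spor.Fi24'} (hs : Function.Surjective π)
    (hc : π.ker ≤ center L) (hk : Nat.card π.ker = 3) (hK : DegK 57477 125120) (hL : DegL π 64584 201825)
    {k : Spor.Fi24'} (hcard : Nat.card (centralizer ({k} : Set Spor.Fi24')) ≤ 14500000) : Good π k :=
  good_of hs hc hk hK hL (4016 / 10000) (2979 / 10000) (by norm_num) (by norm_num) (by norm_num) (by norm_num)
    (by norm_num) hcard

end Cfsg.Agent.H611.QF
end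
end

-- part: H29/TF/Omega
section
prune_inst 0x420100605002202000004051250003ea3df000190002b0801d1440e440784af0309028720f08016081102a22400380028135c0079420000002a000400411d01a098a86282b248a18404000f80b007595c00081000000000000000000000000000004010000
set_option linter.all false
open scoped Cfsg.Agent.FastGrp

-- part: H29/TF/Dat
section
/-!
# `Fi24'`: the centralizer of a `2B` involution, codes: data and kernel checks (helper29)

Codes `c < 4096` of the elements of `R/⟨z⟩`; `om` is the multiplication by a primitive cube root of unity. Orbits of the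
stabilisers of the codes 6, 1 and 17; the frame `6, v 0, …, v 4` of norm 1 vectors.
-/

set_option autoImplicit false
set_option maxRecDepth 100000

namespace Cfsg.Agent.H29.TF.Dat

open Cfsg.Agent.KFacts.FiTF Cfsg.Agent.KFacts.FiTF.Orb Cfsg.Agent.KFacts.FiTF.OrbSys
open Cfsg.Agent.Lib.PermNetOrbit

def omL : List ℕ := [2, 3, 8, 12, 32, 48, 128, 192, 512, 768, 2048, 3072]

/-- multiplication by `ω` -/
def om (c : ℕ) : ℕ := lf omL c

def L6 : List (List ℕ) := [[22], [19, 31, 26, 3, 11, 16, 3, 8]]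

def L17 : List (List ℕ) := [[11], [18, 31, 12, 29, 8, 23, 3, 11, 16]]

def MA26 : ℕ := 0x40002000000000004004081804210240400408100001024000002008042102420180200000010242018408180420800201840810000080000000200804200002018020080420000201840810100102420184081804210240000020001001024040000008042102404000000010008000400000080420800000000000100201810248042408104000000804240812018000080420200040010240000020020181024010000000400000001000000201800000100408104001024000040812018080080420000040010248042000020181024804240810400080000004081000008000100408100001024010040810000102401000200000008000000020040818042102420184081804208000000408101001024000000000100080020184081804200000400408180421024201840810100000020180000010010240400020080420000201802008042102400000200010000000000000001001024201802000000102404000200000008002018020000001024201800000000080004000100000000000800804240810000080080420000201808000100408120180000804240810000080000000200000008000000408120180800804202002018000080420000201808000000408120180800000000000400080080424081040000000100408120180000804202002018000080424081040000000100020004000000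

def NA26 : ℕ := 0x1c101e5703d5c1b5f05170079b04c500e50046740e97059a012f1040e0134b0691c1a0006b600ad80257c07dc002c401dd025d017fe065b01452011481231008c4112e06594193a0034c1ee303b8c1479011e4132700c9c161505dc00770004fc01310650013f800fe006f002124150d0241c1be2006b811f6007d81a730653815e1017841ee405edc18ac04f2c1ae5075b40d6d023ac1f3205bf806fe069600a580677c072806b881cfc0629408a505adc15cd07c0419ba026e8125d0579805e6075f016a601a98059505d701bfd02ff410ee07a9010930439c19d1027441d5704bd802f602dd01f9e0534804d202888168d06bcc0af3028381b9104874021d06e1c0b87037901d410651c0947077041f8103e041ebc06c940b250733c1d72035c816440667c0bdf06c880b22056701f7503dd4196202588070d05fbc0e8107678131d00c741da307cf00f3c068e814dc013701f1906e581aec02bb01bba002d811d30074c1d880765c0d9705b841f8f05c0c1f5e03d7814ca05134044d040a41ef203bc809910590c12cb0535404d5073040cc103a781fea03fa813b103d401dc6071040c41065f4097d052e41d4f0353c1484012101b9f02e7c149b07ad40eb5041b8006e0187011940452c17af01ebc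1d5e035781260009800ea307ac81aba02ae81fd903f64199602658186202ce817c4059f8067e030201f350783c0e0f02bd01cbc05828060a04aa402a905af814830120c1f06067ac1c7b0545417f7001c41d190311805280494c19000240005b90758c13a700e9c17a101e84107605c6c071b04a2c15920435000d4074f0182b078ec16b0073c80cf207c3c15030140c19a202688150401410186c075d40d75061941d08034200efc07ab417be01ef81e8603a18195105a540695051541dd9037641f7204c4c0313067cc1e630398c188e04ce0033800ed819d605848061207df00f7c0693817b001ec01e8f03a3c148d059dc19ac026b019a5026941956076b40dad06dcc107f001fc0b510633807d5074c80d32065cc097306f380bce07bb41bd602f581bc705e9807a602438106005934064d01ddc1d6406d580b5606fcc0bf305b281b8e02e3815f9076400d900484c1ded037b418870221c1e1904b8002e006a601a7d029f40e6405abc140a0102814f9013e4121400d4c12e707b640ed90626008980544816ef01bbc169c04d5003540419c006704480169201a48151c014701d4604e8003a0057bc1cc60331815af016bc115a04068001a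

private noncomputable def _root_.Cfsg.Agent.KO82eca77.oEq.{ku} (α : Sort ku) (a b : Nat) (f t : α) : α := @Decidable.rec (a = b) (fun _ => α) (fun _ => f) (fun _ => t) (Nat.decEq a b)
private noncomputable def _root_.Cfsg.Agent.KO82eca77.k0.{ku} (α : Sort ku) (a b : Nat) (f t : α) : α := @Bool.rec (fun _ => α) f t (Nat.beq a b)
private theorem _root_.Cfsg.Agent.KO82eca77.e0.{ku} : @_root_.Cfsg.Agent.KO82eca77.oEq.{ku} = @_root_.Cfsg.Agent.KO82eca77.k0.{ku} := funext fun α => funext fun a => funext fun b => funext fun f => funext fun t => by delta _root_.Cfsg.Agent.KO82eca77.oEq _root_.Cfsg.Agent.KO82eca77.k0; cases h : Nat.beq a b <;> cases Nat.decEq a b <;> rename_i g <;> first | rfl | exact absurd g (Nat.ne_of_beq_eq_false h) | exact absurd (Nat.eq_of_beq_eq_true h) g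
private theorem _root_.Cfsg.Agent.KO82eca77.e1.{ku} {M : Nat → Sort ku} (φ : ∀ n, M n) {z : M Nat.zero} {s : ∀ n, M n → M (Nat.succ n)} (h0 : φ Nat.zero = z) (hs : ∀ n, φ (Nat.succ n) = s n (φ n)) (n : Nat) : φ n = @Nat.rec M z s n := Nat.rec h0 (fun n ih => (hs n).trans (congrArg (s n) ih)) n
private noncomputable def _root_.Cfsg.Agent.KO82eca77.k2 : (by first | exact type_of% @Cfsg.Agent.KFacts.FiTF.Orb.orb | exact Unit : Sort _) := by first | (refine @Subtype.val _ (fun g => @Cfsg.Agent.KFacts.FiTF.Orb.orb = @g) (@Subtype.mk _ _ (@(fun x0 x1 x2 x3 x4 => @Nat.rec.{1} @(fun x5 => ℕ → ℕ → @Bool) @(fun x5 x6 => @Nat.beq @x6 @x1) @(fun x5 x6 x7 x8 => @Bool.rec.{1} @(fun x9 => @Bool) @Bool.false (@x6 (@Nat.div @x7 (nat_lit 262144)) (@Nat.lor @x8 (@Nat.pow (nat_lit 2) (@x0 (@Nat.mod (@Nat.div @x7 (nat_lit 4096)) (nat_lit 64)) (@Nat.mod @x7 (nat_lit 4096)))))) (@Bool.rec.{1} @(fun x9 => @Bool) @Bool.true @Bool.false (@Cfsg.Agent.KO82eca77.k0.{1}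 @Bool (@Nat.land (nat_lit 1) (@Nat.shiftRight @x8 (@Nat.mod @x7 (nat_lit 4096)))) (nat_lit 0) @Bool.false @Bool.true))) @x2 @x3 @x4)) ?_); rewrite [← Cfsg.Agent.KO82eca77.e0.{1}]; funext a0 a1 a2 a3 a4; refine (congrFun (congrFun (_root_.Cfsg.Agent.KO82eca77.e1 (fun a2 a3 a4 => @Cfsg.Agent.KFacts.FiTF.Orb.orb a0 a1 a2 a3 a4) ?_ (fun c0 => ?_) a2) a3) a4 :) <;> (rfl')) | exact @Cfsg.Agent.KFacts.FiTF.Orb.orb | exact ()
private theorem _root_.Cfsg.Agent.KO82eca77.e2 : (by first | exact @Cfsg.Agent.KFacts.FiTF.Orb.orb = @_root_.Cfsg.Agent.KO82eca77.k2 | exact True : Prop) := by first | (delta _root_.Cfsg.Agent.KO82eca77.k2; exact @Subtype.property _ (fun g => @Cfsg.Agent.KFacts.FiTF.Orb.orb = @g) _) | rfl | trivial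
private theorem _root_.Cfsg.Agent.KO82eca77.e3.{ku, kv} {α : Type kv} {M : List α → Sort ku} (φ : ∀ l, M l) {z : M List.nil} {s : ∀ a l, M l → M (List.cons a l)} (h0 : φ List.nil = z) (hs : ∀ a l, φ (List.cons a l) = s a l (φ l)) (l : List α) : φ l = @List.rec α M z s l := List.rec h0 (fun a l ih => (hs a l).trans (congrArg (s a l) ih)) l
private noncomputable def _root_.Cfsg.Agent.KO82eca77.k4 : (by first | exact type_of% @Cfsg.Agent.KFacts.FiTF.Orb.lf | exact Unit : Sort _) := by first | (refine @Subtype.val _ (fun g => @Cfsg.Agent.KFacts.FiTF.Orb.lf = @g) (@Subtype.mk _ _ (@(fun x0 x1 => @List.rec.{1, 0} ℕ @(fun x2 => ℕ → ℕ) @(fun x2 => nat_lit 0) @(fun x2 x3 x4 x5 => @Nat.xor (@Nat.mul (@Nat.mod @x5 (nat_lit 2)) @x2) (@x4 (@Nat.div @x5 (nat_lit 2)))) @x0 @x1)) ?_); funext a0 a1; refine (congrFun (_root_.Cfsg.Agent.KO82eca77.e3 (fun a0 a1 => @Cfsg.Agent.KFacts.FiTF.Orb.lf a0 a1) ?_ (fun c0 c1 => ?_) a0) a1 :) <;> (rfl')) | exact @Cfsg.Agent.KFacts.FiTF.Orb.lf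 | exact ()
private theorem _root_.Cfsg.Agent.KO82eca77.e4 : (by first | exact @Cfsg.Agent.KFacts.FiTF.Orb.lf = @_root_.Cfsg.Agent.KO82eca77.k4 | exact True : Prop) := by first | (delta _root_.Cfsg.Agent.KO82eca77.k4; exact @Subtype.property _ (fun g => @Cfsg.Agent.KFacts.FiTF.Orb.lf = @g) _) | rfl | trivial
private noncomputable def _root_.Cfsg.Agent.KO82eca77.k6.{ku0} : type_of% @List.get?Internal.{ku0} := @(fun x0 x1 x2 => @List.rec.{(ku0+1), ku0} @x0 @(fun x3 => ℕ → @Option.{ku0} @x0) @(fun x3 => @Option.none.{ku0} _) @(fun x3 x4 x5 x6 => @Nat.rec.{(ku0+1)} @(fun x7 => @Option.{ku0} @x0) (@Option.some.{ku0} _ @x3) @(fun x7 x8 => @x5 @x7) @x6) @x1 @x2)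
private theorem _root_.Cfsg.Agent.KO82eca77.e6.{ku0} : @List.get?Internal.{ku0} = @_root_.Cfsg.Agent.KO82eca77.k6.{ku0} := by delta _root_.Cfsg.Agent.KO82eca77.k6; funext a0 a1 a2; refine (congrFun (_root_.Cfsg.Agent.KO82eca77.e3 (fun a1 a2 => @List.get?Internal.{ku0} a0 a1 a2) ?_ (fun c0 c1 => ?_) a1) a2 :) <;> [(funext b0; (rfl')); (funext b0; (cases b0 with | @zero  => (rfl') | @succ b0_0 => (rfl')))]
private noncomputable def _root_.Cfsg.Agent.KO82eca77.k7 : (by first | exact type_of% @Cfsg.Agent.KFacts.FiTF.Orb.YL | exact Unit : Sort _) := by first | (refine @Subtype.val _ (fun g => @Cfsg.Agent.KFacts.FiTF.Orb.YL = @g) (@Subtype.mk _ _ (@(fun x0 => @Option.rec.{1, 0} (@List.{0} ℕ) @(fun x1 => @List.{0} ℕ) [] @(fun x1 => @x1) (@Cfsg.Agent.KO82eca77.k6.{0} _ (((nat_lit 1) :: ((nat_lit 2) :: ((nat_lit 5) :: ((nat_lit 10) :: ((nat_lit 16) :: ((nat_lit 32) :: ((nat_lit 64) :: ((nat_lit 128) :: ((nat_lit 256) :: ((nat_lit 512) :: ((nat_lit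 1024) :: ((nat_lit 2048) :: [])))))))))))) :: (((nat_lit 5) :: ((nat_lit 10) :: ((nat_lit 4) :: ((nat_lit 8) :: ((nat_lit 20) :: ((nat_lit 40) :: ((nat_lit 64) :: ((nat_lit 128) :: ((nat_lit 256) :: ((nat_lit 512) :: ((nat_lit 1028) :: ((nat_lit 2056) :: [])))))))))))) :: (((nat_lit 1) :: ((nat_lit 2) :: ((nat_lit 20) :: ((nat_lit 40) :: ((nat_lit 16) :: ((nat_lit 32) :: ((nat_lit 80) :: ((nat_lit 160) :: ((nat_lit 272) :: ((nat_lit 544) :: ((nat_lit 1024) :: ((nat_lit 2048) :: [])))))))))))) :: (((nat_lit 1) :: ((nat_lit 2) :: ((nat_lit 4) :: ((nat_lit 8) :: ((nat_lit 80) :: ((nat_lit 160) :: ((nat_lit 64) :: ((nat_lit 128) :: ((nat_lit 256) :: ((nat_lit 512) :: ((nat_lit 1216) :: ((nat_lit 2112) :: [])))))))))))) :: (((nat_lit 1) :: ((nat_lit 2) :: ((nat_lit 4) :: ((nat_lit 8) :: ((nat_lit 272) :: ((nat_lit 544) :: ((nat_lit 64) :: ((nat_lit 128) :: ((nat_lit 256) :: ((nat_lit 512) :: ((nat_lit 1536) :: ((nat_lit 2816) :: []))))))))))))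 :: (((nat_lit 1) :: ((nat_lit 2) :: ((nat_lit 1028) :: ((nat_lit 2056) :: ((nat_lit 16) :: ((nat_lit 32) :: ((nat_lit 2112) :: ((nat_lit 3200) :: ((nat_lit 3328) :: ((nat_lit 1536) :: ((nat_lit 1024) :: ((nat_lit 2048) :: [])))))))))))) :: [])))))) @x0))) ?_); rewrite [← Cfsg.Agent.KO82eca77.e6.{0}]; rfl') | exact @Cfsg.Agent.KFacts.FiTF.Orb.YL | exact ()
private theorem _root_.Cfsg.Agent.KO82eca77.e7 : (by first | exact @Cfsg.Agent.KFacts.FiTF.Orb.YL = @_root_.Cfsg.Agent.KO82eca77.k7 | exact True : Prop) := by first | (delta _root_.Cfsg.Agent.KO82eca77.k7; exact @Subtype.property _ (fun g => @Cfsg.Agent.KFacts.FiTF.Orb.YL = @g) _) | rfl | trivial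
private noncomputable def _root_.Cfsg.Agent.KO82eca77.k8 : (by first | exact type_of% @Cfsg.Agent.KFacts.FiTF.Orb.ff | exact Unit : Sort _) := by first | (refine @Subtype.val _ (fun g => @Cfsg.Agent.KFacts.FiTF.Orb.ff = @g) (@Subtype.mk _ _ (@(fun x0 x1 => @Cfsg.Agent.KO82eca77.k4 (@Cfsg.Agent.KO82eca77.k7 (@Nat.mod (@Nat.div @x0 (nat_lit 6)) (nat_lit 6))) (@Cfsg.Agent.KO82eca77.k4 (@Cfsg.Agent.KO82eca77.k7 (@Nat.mod @x0 (nat_lit 6))) @x1))) ?_); rewrite [← Cfsg.Agent.KO82eca77.e7, ← Cfsg.Agent.KO82eca77.e4]; (try delta Cfsg.Agent.KFacts.FiTF.Orb.ff); (try generalize @Cfsg.Agent.KFacts.FiTF.Orb.lf = g0); (try generalize @Cfsg.Agent.KFacts.FiTF.Orb.YL = g1); rfl') | exact @Cfsg.Agent.KFacts.FiTF.Orb.ff | exact ()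
private theorem _root_.Cfsg.Agent.KO82eca77.e8 : (by first | exact @Cfsg.Agent.KFacts.FiTF.Orb.ff = @_root_.Cfsg.Agent.KO82eca77.k8 | exact True : Prop) := by first | (delta _root_.Cfsg.Agent.KO82eca77.k8; exact @Subtype.property _ (fun g => @Cfsg.Agent.KFacts.FiTF.Orb.ff = @g) _) | rfl | trivial
private noncomputable def _root_.Cfsg.Agent.KO82eca77.k9 : (by first | exact type_of% @Cfsg.Agent.KFacts.FiTF.OrbSys.wa | exact Unit : Sort _) := by first | (refine @Subtype.val _ (fun g => @Cfsg.Agent.KFacts.FiTF.OrbSys.wa = @g) (@Subtype.mk _ _ (@(fun x0 x1 => @List.rec.{1, 0} ℕ @(fun x2 => ℕ → ℕ) @(fun x2 => @x2) @(fun x2 x3 x4 x5 => @Cfsg.Agent.KO82eca77.k8 @x2 (@x4 @x5)) @x0 @x1)) ?_); rewrite [← Cfsg.Agent.KO82eca77.e8]; funext a0 a1; refine (congrFun (_root_.Cfsg.Agent.KO82eca77.e3 (fun a0 a1 => @Cfsg.Agent.KFacts.FiTF.OrbSys.wa a0 a1) ?_ (fun c0 c1 => ?_) a0) a1 :) <;> ((try delta Cfsg.Agent.KFacts.FiTF.OrbSys.wa Cfsg.Agent.KFacts.FiTF.OrbSys.wa._f);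 (try generalize @Cfsg.Agent.KFacts.FiTF.Orb.ff = g0); rfl')) | exact @Cfsg.Agent.KFacts.FiTF.OrbSys.wa | exact ()
private theorem _root_.Cfsg.Agent.KO82eca77.e9 : (by first | exact @Cfsg.Agent.KFacts.FiTF.OrbSys.wa = @_root_.Cfsg.Agent.KO82eca77.k9 | exact True : Prop) := by first | (delta _root_.Cfsg.Agent.KO82eca77.k9; exact @Subtype.property _ (fun g => @Cfsg.Agent.KFacts.FiTF.OrbSys.wa = @g) _) | rfl | trivial
private noncomputable def _root_.Cfsg.Agent.KO82eca77.k10.{ku0} : type_of% @List.getD.{ku0} := @(fun x0 x1 x2 x3 => @Option.rec.{(ku0+1), ku0} @x0 @(fun x4 => @x0) @x3 @(fun x4 => @x4) (@Cfsg.Agent.KO82eca77.k6.{ku0} _ @x1 @x2))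
private theorem _root_.Cfsg.Agent.KO82eca77.e10.{ku0} : @List.getD.{ku0} = @_root_.Cfsg.Agent.KO82eca77.k10.{ku0} := by delta _root_.Cfsg.Agent.KO82eca77.k10; rewrite [← Cfsg.Agent.KO82eca77.e6.{ku0}]; rfl'

theorem orbA26 : orb (fun i a => wa (L6.getD i []) a) MA26 404 NA26 (2 ^ 26) = true := by (first | (rewrite [Cfsg.Agent.KO82eca77.e2, Cfsg.Agent.KO82eca77.e9, Cfsg.Agent.KO82eca77.e10.{0}]; decide +kernel) | decide +kernel)

theorem ltA26 : MA26 < 2 ^ 2 ^ 12 := by decide +kernel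

theorem pcA26 : pc 12 MA26 = 405 := by decide +kernel

def MA28 : ℕ := 0x100080000000000010000142028104181000014200000418000080000281041808248000000004180824014202812000082401420000200000008000028100000824800002810000082401424000041808240142028104180000800040000418100000000281041810000000400020001000000002812000000000004000082404180281014210000000028101420824000002818000100004180000800008240418400000001000000040000000082400004000014210000418000001420824200002810000100004180281000008240418028101421000200000000142000020004000014200000418400001420000041840008000000020000000800001420281041808240142028120000000014240000418000000004000200008240142028100001000014202810418082401424000000008240000400004181000800002810000082480000281041800008000400000000000000040000418082480000000041810008000000020000824800000000418082400000000200010004000000000002000028101420000200002810000082420004000014208240000028101420000200000008000000020000000014208242000028180000824000002810000082420000000014208242000000000001000200002810142100000004000014208240000028180000824000002810142100000004000800010000000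

def NA28 : ℕ := 0x1c081e5103d441b5905168079d04c480e560466c0e91059b812f7040f8134d069041a0606b780ade0256407da002dc01db025c817f8065a81454011501237008dc11280658c193c003541ee503b94147f011fc132100c84161305dd80776004e401370651813fe00ff806f60213c150b024041be4006a011f0007c01a750652015e70179c1ee205ec418aa04f341ae3075ac0d6b023b41f3405be006f8069780a5e06764072e06b901cfa0628c08a305ac415cb07c1c19bc026f0125b0578005e0075e816a001a80059305d681bfb02fec10e807a8810950438419d70275c1d5104bc002f002dc81f980535004d402890168b06bd40af5028201b970486c021b06e040b81037881d470650409410771c1f8703e1c1eba06c8c0b23073241d74035d01642066640bd906c900b24056681f7303dcc196402590070b05fa40e8707660131b00c6c1da507ce80f3a068f014da013681f1f06e401aea02ba81bbc002c011d5007541d8e076440d9105b9c1f8905c141f5803d6014cc0512c044b040bc1ef403bd009970591412cd0534c04d30731c0cc703a601fec03fb013b703d581dc00711c0c47065ec097b052fc1d49035241482012081b9902e64149d07acc0eb3041a000680186811920453417a901ea4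1d58035601266009980ea507ad01abc02af01fdf03f7c199002640186402cf017c2059e00678030381f33078240e0902bc81cba05830060c04abc02af05ae01485012141f00067b41c7d0544c17f1001dc1d1f03100052e0495419060241805bf0759413a100e8417a701e9c107005c74071d04a3415940434800d2074e8182d078f416b6073d00cf407c2415050141419a402690150201408186a075cc0d730618c1d0e034380efa07aac17b801ee01e8003a00195705a4c06930514c1ddf0377c1f7404c540315067d41e6503994188804cf8033e00ec019d005850061407de80f7a0692017b601ed81e8903a24148b059c419aa026a819a30268c1950076ac0dab06dd41079001e40b570632007d3074d00d34065d4097506f200bc807bac1bd002f401bc105e8007a00242010660592c064b01dc41d6206d400b5006fd40bf505b301b8802e2015ff076580d96048541deb037ac1881022041e1f04b9802e606a781a7b029ec0e6205aa4140c0103014ff013fc121200d5412e107b7c0edf06278089e0545016e901ba4169a04d48035204184006104498169401a50151a014681d4004e9803a6057a41cc00330015a9016a4115c04070001c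

theorem orbA28 : orb (fun i a => wa (L6.getD i []) a) MA28 404 NA28 (2 ^ 28) = true := by (first | (rewrite [Cfsg.Agent.KO82eca77.e2, Cfsg.Agent.KO82eca77.e9, Cfsg.Agent.KO82eca77.e10.{0}]; decide +kernel) | decide +kernel)

theorem ltA28 : MA28 < 2 ^ 2 ^ 12 := by decide +kernel

theorem pcA28 : pc 12 MA28 = 405 := by decide +kernel

def MA75 : ℕ := 0x800000000000100080000000000000000000000000001000000040000000000000000000000010000000000000000000000000000000100000020180000000008000000000000000800000000000000000000000000000000002018000000000000000002000000000000004081000000000000408100000000040002000000000000000000000000000800000000000000080000000000000000008042000000000000000002000000080000000200000008000000000000000000010000000000000000000200000000000000020000000000000000000000000080420000201800000000000004000000000000002018000000000000040000000100000000000000000000000000000000000400000000000000040040810000000000000000000008000000000000000000000000000000080000004081000000000000000000000800000000000000000004000000000008000400020000000000000000008042000000000000804200000000000001000000000002000100000000000000020004000000000000000400000000000200000000000000000000000800000000000400000001000000040000000100000000000000000000000000080000000200000000000100000000000000010002000000000000000000000008000000000000000800000000000000080000000000000008000000000000000000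

def NA75 : ℕ := 0x1737030a8174a0706404e104da41cd90314002da0162803e9078b40fc8062e8163e007a4108b06444183a0442c1c5e0725c0c9706a240a89034b4165b05cf8073e04ae002b8021f41e2302dac0b11064580873050a00c9e06c581dfb0576c05db0556c14e6013981d230348c1f4804a68029a05e281630018c00468074901fbb03eec16db01b6c1b1f07b200ec805528054a069ac1e24038901dbb06b240ac90247c127806eac0bab07fec0ffb053bc11b8006e01874052bc04af063d008f4050e41539014e4104b

theorem orbA75 : orb (fun i a => wa (L6.getD i []) a) MA75 89 NA75 (2 ^ 75) = true := by (first | (rewrite [Cfsg.Agent.KO82eca77.e2, Cfsg.Agent.KO82eca77.e9, Cfsg.Agent.KO82eca77.e10.{0}]; decide +kernel) | decide +kernel)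

theorem ltA75 : MA75 < 2 ^ 2 ^ 12 := by decide +kernel

theorem pcA75 : pc 12 MA75 = 90 := by decide +kernel

def MA77 : ℕ := 0x2000000000004000200000000000000000000000000040000000100000000000000000000000400000000000000000000000000000004000000008240000000020000000000000002000000000000000000000000000000000000824000000000000000080000000000000000142000000000000014200000000100080000000000000000000000000002000000000000000200000000000000000000281000000000000000080000000200000008000000020000000000000000000400000000000000000008000000000000000800000000000000000000000000002810000082400000000000010000000000000000824000000000000100000004000000000000000000000000000000000001000000000000000100001420000000000000000000020000000000000000000000000000000200000000142000000000000000000002000000000000000000010000000000020001000800000000000000000000281000000000000028100000000000040000000000080004000000000000000800010000000000000001000000000008000000000000000000000002000000000001000000040000000100000004000000000000000000000000000200000008000000000004000000000000000400080000000000000000000000020000000000000002000000000000000200000000000000020000000000000000000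

def NA77 : ℕ := 0x1731030b0174c0707c04e704dbc1cdf0315802dc0163003ef078ac0fce062f01638007bc108d0645c183c044341c58072440c9106a3c0a8f034ac165d05ce0073804af802be021ec1e2502db40b17064400875050b80c9806c401dfd0577405dd0557414e0013801d25034941f4e04a70029c05e301636018d8046e074881fbd03ef416dd01b741b1907b380ece05530054c069b41e22038881dbd06b3c0acf02464127e06eb40bad07ff40ffd053a411be006f81872052a404a9063c808f2050fc153f014fc104d

theorem orbA77 : orb (fun i a => wa (L6.getD i []) a) MA77 89 NA77 (2 ^ 77) = true := by (first | (rewrite [Cfsg.Agent.KO82eca77.e2, Cfsg.Agent.KO82eca77.e9, Cfsg.Agent.KO82eca77.e10.{0}]; decide +kernel) | decide +kernel)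

theorem ltA77 : MA77 < 2 ^ 2 ^ 12 := by decide +kernel

theorem pcA77 : pc 12 MA77 = 90 := by decide +kernel

def MB4 : ℕ := 0x3000000000000000000000000000000000000000000000000000c0000000000000000000000000000000000000000000c000c00000000000000000000000000000000000000000000000000000000000c000000000000000000000000000000030003000000000000000300000000000000000000000000000000000000030000000000000000000000000000000300000003000000000000000c00000000000000000000000000000000000000000000000000000000000000000000000000000000000000000000000000000000000000030000000c0000000c00000000000000000000000c00000000000000000000000000000000000000000000000000000003000000000000000000000003000000030000000000000000000300000000000000000000000000000000000300000000000300000000000000000000000000000000000c000c000000000000000c0000000000000003000000030000000300030000000c000000000000000000000003000300000000000000000000000000000003000000000000000000000000000000000000000000000003000000000000000000000000000000000000000000000000000000000000000000000000000000000000000000030003000000000003000000000000000000000000000000000000000000000003000000000000000300030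

def NB4 : ℕ := 0x479506cd01b35115d82ca40b29424760785c28d60db10479401e50152612c500b14124502914091dc4c94032504c54071501e16118d428d70db1444e51181406051131424c501314241505054471501c5444950925404950b49c49150a45441150c4541876131541c551055401551015430550815446040181044c40931004c40901014040c05024140505041140c45001141015030540815000540901414050c01400050c0542015040543004040100004

theorem orbB4 : orb (fun i a => wa (W1.getD i []) a) MB4 79 NB4 (2 ^ 4) = true := by (first | (rewrite [Cfsg.Agent.KO82eca77.e2, Cfsg.Agent.KO82eca77.e9, Cfsg.Agent.KO82eca77.e10.{0}]; decide +kernel) | decide +kernel)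

theorem ltB4 : MB4 < 2 ^ 2 ^ 12 := by decide +kernel

theorem pcB4 : pc 12 MB4 = 80 := by decide +kernel

def MC193 : ℕ := 0x6ac00a3905c9653000000000000000000000000000000000053695c09a300ac600000000000000000000000000000000053695c09a300ac6000000000000000000000000000000006ac00a3905c9653000000000000000000000000000000000000000000000000000000000000000000000000000000000000000000000000060060000000060060000000000000000000000000000000095c005360ac69a30000000000000000000000000000000000a396ac0653005c90000000000000000000000000000000000009009900900000000000000000000000000000000000000000000000000000000000000000000000000000000000000000000000000000000900990090000000000000000000000000000000000009a300ac6053695c00000000000000000000000000000000005c965306ac00a390000000000000000000000000000000060060000000060060000000000000000000000000000000000000000000000000000000000000000000000000000000000000000000000000ac69a3095c00536000000000000000000000000000000000ac69a3095c00536000000000000000000000000000000000ac69a3095c00536000000000000000000000000000000000ac69a3095c00536000000000000000000000000000000000000000000000000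

def NC193 : ℕ := 0x1a5904368171f026cc10d6069a0199400cac124101cb01e55079b01a64029901a7c04328027b059e4067903c4c10c200308031c0796415a807ce4026f03c380f16029dc1a61029841198073380cce06944130204920024807c940f25056c005b00792c0e4b069140a4505c4c0f20056100584079981b3d0634c08d3049e41f1703c5c19b0056a81e78039e0125a00604067b016781e75039d4131700c5c0258043a41f1a073340655006901e470391c19980569405a507c280f0a00c5811b20696c165a073801e49029e810dc07c100f04043c800f2043ec1a78066780325076040d81036e01a65029940d86056cc05b3053f8119f0067c1ce5076bc0a6a06cc40b310334c1e71039c41db4036d01d9905c4000d7079701a56029581ceb053c404f10797c132c076d40db5066ac11b70462001880796c164a0695c0a57073140cc5076b00dac04c0406470365009ad079d00e74046d801b6056e8158b0162c1cd8069480a5203390199d049d80276016901f0803c201cfb033ec1e420390811af07c401589016241a44076080d82073f80cfe0565c05970669c09a7073a4127200cc41cc4059d406750665409950637c08df04c1406520638c08e3073f40cfd07c900f240769c0da70566c059b06620098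8079180e460660c14cd013341f0503c14119c006701f230661c1dba036e80583049580256076540d95076a00da80599c1646019181f1803c601a4c029301cf6033d815ad046ac01ab069d80a760432000c805674059d06c040b01043bc00ef07cdc1d870465c0197049080242073400cd006c340b0d07cac0f2b076c80db2043b01599016641e670399c15ae0491002440469401a5079e80e7a069241f0d03c341f3b03cec19a60269811b90436000d805c8c07230439000e4079bc0e6f07cf819a9026a4124500914133700cdc11b1006c41e6a063b008ec04cd80336079040e41066e409b9019981b3202cc810c5069880a620530404c10430400c1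

theorem orbC193 : orb (fun i a => wa (L17.getD i []) a) MC193 319 NC193 (2 ^ 193) = true := by (first | (rewrite [Cfsg.Agent.KO82eca77.e2, Cfsg.Agent.KO82eca77.e9, Cfsg.Agent.KO82eca77.e10.{0}]; decide +kernel) | decide +kernel)

theorem ltC193 : MC193 < 2 ^ 2 ^ 12 := by decide +kernel

theorem pcC193 : pc 12 MC193 = 320 := by decide +kernel

theorem fix6 : ∀ w ∈ L6, wa w 6 = 6 := by decide +kernel

theorem fix17 : ∀ w ∈ L17, wa w 17 = 17 := by decide +kernel

theorem pcM2 : pc 12 M2 = 2016 := by decide +kernel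

/-! ### `om` -/

theorem om_basis : ∀ j < 12, om (om (2 ^ j)) ^^^ om (2 ^ j) ^^^ 2 ^ j = 0 := by decide +kernel

theorem om_basis3 : ∀ j < 12, om (om (om (2 ^ j))) = 2 ^ j := by decide +kernel

theorem om_YL : ∀ t < 6, ∀ j < 12, lf (YL t) (om (2 ^ j)) = om (lf (YL t) (2 ^ j)) := by decide +kernel

def ckOM (c : ℕ) : Bool := !(Om.OM.testBit c) || Om.OM.testBit (om c)

private noncomputable def _root_.Cfsg.Agent.KO82eca77.k11 : type_of% @Decidable.decide := @(fun x0 x1 => @Decidable.rec.{1} _ @(fun x2 => @Bool) @(fun x2 => @Bool.false) @(fun x2 => @Bool.true) @x1)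
private theorem _root_.Cfsg.Agent.KO82eca77.e11 : @Decidable.decide = @_root_.Cfsg.Agent.KO82eca77.k11 := by delta _root_.Cfsg.Agent.KO82eca77.k11; rfl'
private noncomputable def _root_.Cfsg.Agent.KO82eca77.k12l (n : Nat) (P : ∀ k, k < n → Prop) (H : ∀ k h, Decidable (P k h)) (m : Nat) : m ≤ n → Bool := @Nat.rec (fun m => m ≤ n → Bool) (fun _ => true) (fun k ih h => @Decidable.rec (P k h) (fun _ => Bool) (fun _ => false) (fun _ => ih (Nat.le_of_succ_le h)) (H k h)) m
private theorem _root_.Cfsg.Agent.KO82eca77.k12ls (n : Nat) (P : ∀ k, k < n → Prop) (H : ∀ k h, Decidable (P k h)) (m : Nat) : ∀ h : m ≤ n, _root_.Cfsg.Agent.KO82eca77.k12l n P H m h = true ↔ ∀ k (g : k < m), P k (Nat.lt_of_lt_of_le g h) := by induction m with | zero => exact fun _ => ⟨fun _ _ g => absurd g (Nat.not_lt_zero _), fun _ => rfl⟩ | succ m ih => intro h; show @Decidable.rec (P m h) (fun _ => Bool) (fun _ => false) (fun _ => _root_.Cfsg.Agent.KO82eca77.k12l n P H m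 (Nat.le_of_succ_le h)) (H m h) = true ↔ _; cases H m h with | isFalse q => exact ⟨fun g => absurd g Bool.false_ne_true, fun g => absurd (g m (Nat.lt_succ_self m)) q⟩ | isTrue q => exact ⟨fun g k hk => (Nat.lt_succ_iff_lt_or_eq.1 hk).elim ((ih _).1 g k) fun e => by subst e; exact q, fun g => (ih _).2 fun k hk => g k (Nat.lt_succ_of_lt hk)⟩
private noncomputable def _root_.Cfsg.Agent.KO82eca77.k12 (n : Nat) (P : ∀ k, k < n → Prop) (H : ∀ k h, Decidable (P k h)) : Decidable (∀ k h, P k h) := @Bool.rec (fun b => _root_.Cfsg.Agent.KO82eca77.k12l n P H n (Nat.le_refl n) = b → Decidable (∀ k h, P k h)) (fun g => isFalse fun q => Bool.false_ne_true (g.symm.trans ((_root_.Cfsg.Agent.KO82eca77.k12ls n P H n _).2 fun k h => q k h))) (fun g => isTrue fun k h => (_root_.Cfsg.Agent.KO82eca77.k12ls n P H n _).1 g k h) (_root_.Cfsg.Agent.KO82eca77.k12l n P H n (Nat.le_refl n)) rfl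
private theorem _root_.Cfsg.Agent.KO82eca77.e12 : @Nat.decidableBallLT = @_root_.Cfsg.Agent.KO82eca77.k12 := funext fun _ => funext fun _ => funext fun _ => Subsingleton.elim _ _
private noncomputable def _root_.Cfsg.Agent.KO82eca77.k16 : type_of% @Bool.decEq := @(fun x0 x1 => @Bool.rec.{1} @(fun x2 => @Decidable (@Eq.{1} _ @x2 @x1)) (@Bool.rec.{1} @(fun x2 => @Decidable (@Eq.{1} _ @Bool.false @x2)) (@Decidable.isTrue _ (@rfl.{1} _ _)) (@Decidable.isFalse _ @(fun x2 => @Bool.noConfusion.{0} _ _ _ @x2)) @x1) (@Bool.rec.{1} @(fun x2 => @Decidable (@Eq.{1} _ @Bool.true @x2)) (@Decidable.isFalse _ @(fun x2 => @Bool.noConfusion.{0} _ _ _ @x2)) (@Decidable.isTrue _ (@rfl.{1} _ _)) @x1) @x0)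
private theorem _root_.Cfsg.Agent.KO82eca77.e16 : @Bool.decEq = @_root_.Cfsg.Agent.KO82eca77.k16 := by delta _root_.Cfsg.Agent.KO82eca77.k16; rfl'
private noncomputable def _root_.Cfsg.Agent.KO82eca77.k17 : type_of% @instDecidableEqBool := @Cfsg.Agent.KO82eca77.k16
private theorem _root_.Cfsg.Agent.KO82eca77.e17 : @instDecidableEqBool = @_root_.Cfsg.Agent.KO82eca77.k17 := by delta _root_.Cfsg.Agent.KO82eca77.k17; rewrite [← Cfsg.Agent.KO82eca77.e16]; rfl'
private noncomputable def _root_.Cfsg.Agent.KO82eca77.k18 : (by first | exact type_of% @Cfsg.Agent.H29.TF.Dat.ckOM | exact Unit : Sort _) := by first | (refine @Subtype.val _ (fun g => @Cfsg.Agent.H29.TF.Dat.ckOM = @g) (@Subtype.mk _ _ (@(fun x0 => @Bool.rec.{1} @(fun x1 => @Bool) (@Bool.rec.{1} @(fun x1 => @Bool) @Bool.true @Bool.false (@Cfsg.Agent.KO82eca77.k0.{1} @Bool (@Nat.land (nat_lit 1) (@Nat.shiftRight @Cfsg.Agent.KFacts.FiTF.Om.OM (@Cfsg.Agent.KO82eca77.k4 @Cfsg.Agent.H29.TF.Dat.omL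 @x0))) (nat_lit 0) @Bool.false @Bool.true)) @Bool.true (@Bool.rec.{1} @(fun x1 => @Bool) @Bool.true @Bool.false (@Bool.rec.{1} @(fun x1 => @Bool) @Bool.true @Bool.false (@Cfsg.Agent.KO82eca77.k0.{1} @Bool (@Nat.land (nat_lit 1) (@Nat.shiftRight @Cfsg.Agent.KFacts.FiTF.Om.OM @x0)) (nat_lit 0) @Bool.false @Bool.true))))) ?_); rewrite [← Cfsg.Agent.KO82eca77.e4, ← Cfsg.Agent.KO82eca77.e0.{1}]; (try delta Cfsg.Agent.H29.TF.Dat.ckOM Cfsg.Agent.H29.TF.Dat.om); (try generalize @Cfsg.Agent.KFacts.FiTF.Om.OM = g0); (try generalize @Cfsg.Agent.KFacts.FiTF.Orb.lf = g1); (try generalize @Cfsg.Agent.H29.TF.Dat.omL = g2); rfl') | exact @Cfsg.Agent.H29.TF.Dat.ckOM | exact ()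
private theorem _root_.Cfsg.Agent.KO82eca77.e18 : (by first | exact @Cfsg.Agent.H29.TF.Dat.ckOM = @_root_.Cfsg.Agent.KO82eca77.k18 | exact True : Prop) := by first | (delta _root_.Cfsg.Agent.KO82eca77.k18; exact @Subtype.property _ (fun g => @Cfsg.Agent.H29.TF.Dat.ckOM = @g) _) | rfl | trivial

theorem om_OM_aux : ∀ a < 64, ∀ b < 64, ckOM (64 * a + b) = true := by (first | (refine of_decide_eq_true ?_; rewrite [Cfsg.Agent.KO82eca77.e11, Cfsg.Agent.KO82eca77.e12, Cfsg.Agent.KO82eca77.e17, Cfsg.Agent.KO82eca77.e18]; decide +kernel) | decide +kernel)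

/-! ### The suborbits of 6 -/

def ckA (c : ℕ) : Bool := !(M2.testBit c && M2.testBit (6 ^^^ c)) || (Nat.beq c 11 || (Nat.beq c 13 ||
  (MA26.testBit c || (MA28.testBit c || (MA75.testBit c || MA77.testBit c)))))

private noncomputable def _root_.Cfsg.Agent.KO82eca77.k19 : (by first | exact type_of% @Cfsg.Agent.H29.TF.Dat.ckA | exact Unit : Sort _) := by first | (refine @Subtype.val _ (fun g => @Cfsg.Agent.H29.TF.Dat.ckA = @g) (@Subtype.mk _ _ (@(fun x0 => @Bool.rec.{1} @(fun x1 => @Bool) (@Bool.rec.{1} @(fun x1 => @Bool) (@Bool.rec.{1} @(fun x1 => @Bool) (@Bool.rec.{1} @(fun x1 => @Bool) (@Bool.rec.{1} @(fun x1 => @Bool) (@Bool.rec.{1} @(fun x1 => @Bool) (@Bool.rec.{1} @(fun x1 => @Bool) @Bool.true @Bool.false (@Cfsg.Agent.KO82eca77.k0.{1} @Bool (@Nat.land (nat_lit 1) (@Nat.shiftRight @Cfsg.Agent.H29.TF.Dat.MA77 @x0)) (nat_lit 0) @Bool.false @Bool.true)) @Bool.true (@Bool.rec.{1} @(fun x1 => @Bool) @Bool.true @Bool.false (@Cfsg.Agent.KO82eca77.k0.{1}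 @Bool (@Nat.land (nat_lit 1) (@Nat.shiftRight @Cfsg.Agent.H29.TF.Dat.MA75 @x0)) (nat_lit 0) @Bool.false @Bool.true))) @Bool.true (@Bool.rec.{1} @(fun x1 => @Bool) @Bool.true @Bool.false (@Cfsg.Agent.KO82eca77.k0.{1} @Bool (@Nat.land (nat_lit 1) (@Nat.shiftRight @Cfsg.Agent.H29.TF.Dat.MA28 @x0)) (nat_lit 0) @Bool.false @Bool.true))) @Bool.true (@Bool.rec.{1} @(fun x1 => @Bool) @Bool.true @Bool.false (@Cfsg.Agent.KO82eca77.k0.{1} @Bool (@Nat.land (nat_lit 1) (@Nat.shiftRight @Cfsg.Agent.H29.TF.Dat.MA26 @x0)) (nat_lit 0) @Bool.false @Bool.true))) @Bool.true (@Nat.beq @x0 (nat_lit 13))) @Bool.true (@Nat.beq @x0 (nat_lit 11))) @Bool.true (@Bool.rec.{1} @(fun x1 => @Bool) @Bool.true @Bool.false (@Bool.rec.{1} @(fun x1 => @Bool) @Bool.false (@Bool.rec.{1} @(fun x1 => @Bool) @Bool.true @Bool.false (@Cfsg.Agent.KO82eca77.k0.{1} @Bool (@Nat.land (nat_lit 1) (@Nat.shiftRight @Cfsg.Agent.KFacts.FiTF.Orb.M2 (@Nat.xor (nat_lit 6) @x0))) (nat_lit 0) @Bool.false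 @Bool.true)) (@Bool.rec.{1} @(fun x1 => @Bool) @Bool.true @Bool.false (@Cfsg.Agent.KO82eca77.k0.{1} @Bool (@Nat.land (nat_lit 1) (@Nat.shiftRight @Cfsg.Agent.KFacts.FiTF.Orb.M2 @x0)) (nat_lit 0) @Bool.false @Bool.true)))))) ?_); rewrite [← Cfsg.Agent.KO82eca77.e0.{1}]; (try delta Cfsg.Agent.H29.TF.Dat.ckA); (try generalize @Cfsg.Agent.H29.TF.Dat.MA77 = g0); (try generalize @Cfsg.Agent.H29.TF.Dat.MA75 = g1); (try generalize @Cfsg.Agent.H29.TF.Dat.MA28 = g2); (try generalize @Cfsg.Agent.H29.TF.Dat.MA26 = g3); (try generalize @Cfsg.Agent.KFacts.FiTF.Orb.M2 = g4); rfl') | exact @Cfsg.Agent.H29.TF.Dat.ckA | exact ()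
private theorem _root_.Cfsg.Agent.KO82eca77.e19 : (by first | exact @Cfsg.Agent.H29.TF.Dat.ckA = @_root_.Cfsg.Agent.KO82eca77.k19 | exact True : Prop) := by first | (delta _root_.Cfsg.Agent.KO82eca77.k19; exact @Subtype.property _ (fun g => @Cfsg.Agent.H29.TF.Dat.ckA = @g) _) | rfl | trivial

theorem ckA_aux : ∀ a < 64, ∀ b < 64, ckA (64 * a + b) = true := by (first | (refine of_decide_eq_true ?_; rewrite [Cfsg.Agent.KO82eca77.e11, Cfsg.Agent.KO82eca77.e12, Cfsg.Agent.KO82eca77.e17, Cfsg.Agent.KO82eca77.e19]; decide +kernel) | decide +kernel)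

/-! ### The frame -/

/-- the vectors of the frame (the first one is 6) -/
def v (i : ℕ) : ℕ := ([7, 1187, 1251, 1586, 1842] : List ℕ).getD i 0

def F15 : List ℕ := [7, 9, 14, 1187, 1251, 1586, 1842, 2161, 2289, 2323, 2835, 3154, 3218, 3361, 3617]

def ckF (c : ℕ) : Bool := !(Om.OM.testBit (6 ^^^ c) && (Om.OM.testBit (6 ^^^ om c) && Om.OM.testBit (6 ^^^ om (om c)))) ||
  F15.elem c

private noncomputable def _root_.Cfsg.Agent.KO82eca77.k20.{ku0} : type_of% @List.elem.{ku0} := @(fun x0 x1 x2 x3 => @List.rec.{1, ku0} @x0 @(fun x4 => @Bool) @Bool.false @(fun x4 x5 x6 => @Bool.rec.{1} @(fun x7 => @Bool) @x6 @Bool.true (@BEq.beq.{ku0} _ @x1 @x2 @x4)) @x3)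
private theorem _root_.Cfsg.Agent.KO82eca77.e20.{ku0} : @List.elem.{ku0} = @_root_.Cfsg.Agent.KO82eca77.k20.{ku0} := by delta _root_.Cfsg.Agent.KO82eca77.k20; funext a0 a1 a2 a3; refine (_root_.Cfsg.Agent.KO82eca77.e3 (fun a3 => @List.elem.{ku0} a0 a1 a2 a3) ?_ (fun c0 c1 => ?_) a3 :) <;> (rfl')
private noncomputable def _root_.Cfsg.Agent.KO82eca77.k21 : (by first | exact type_of% @Cfsg.Agent.H29.TF.Dat.ckF | exact Unit : Sort _) := by first | (refine @Subtype.val _ (fun g => @Cfsg.Agent.H29.TF.Dat.ckF = @g) (@Subtype.mk _ _ (@(fun x0 => @Bool.rec.{1} @(fun x1 => @Bool) (@Cfsg.Agent.KO82eca77.k20.{0} _ (@BEq.mk.{0} _ @(fun x1 x2 => @Cfsg.Agent.KO82eca77.k0.{1} @Bool @x1 @x2 @Bool.false @Bool.true)) @x0 @Cfsg.Agent.H29.TF.Dat.F15) @Bool.true (@Bool.rec.{1} @(fun x1 => @Bool) @Bool.true @Bool.false (@Bool.rec.{1} @(fun x1 => @Bool) @Bool.false (@Bool.rec.{1} @(fun x1 => @Bool) @Bool.false (@Bool.rec.{1} @(fun x1 => @Bool) @Bool.true @Bool.false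 (@Cfsg.Agent.KO82eca77.k0.{1} @Bool (@Nat.land (nat_lit 1) (@Nat.shiftRight @Cfsg.Agent.KFacts.FiTF.Om.OM (@Nat.xor (nat_lit 6) (@Cfsg.Agent.KO82eca77.k4 @Cfsg.Agent.H29.TF.Dat.omL (@Cfsg.Agent.KO82eca77.k4 @Cfsg.Agent.H29.TF.Dat.omL @x0))))) (nat_lit 0) @Bool.false @Bool.true)) (@Bool.rec.{1} @(fun x1 => @Bool) @Bool.true @Bool.false (@Cfsg.Agent.KO82eca77.k0.{1} @Bool (@Nat.land (nat_lit 1) (@Nat.shiftRight @Cfsg.Agent.KFacts.FiTF.Om.OM (@Nat.xor (nat_lit 6) (@Cfsg.Agent.KO82eca77.k4 @Cfsg.Agent.H29.TF.Dat.omL @x0)))) (nat_lit 0) @Bool.false @Bool.true))) (@Bool.rec.{1} @(fun x1 => @Bool) @Bool.true @Bool.false (@Cfsg.Agent.KO82eca77.k0.{1} @Bool (@Nat.land (nat_lit 1) (@Nat.shiftRight @Cfsg.Agent.KFacts.FiTF.Om.OM (@Nat.xor (nat_lit 6) @x0))) (nat_lit 0) @Bool.false @Bool.true)))))) ?_); rewrite [← Cfsg.Agent.KO82eca77.e4, ← Cfsg.Agent.KO82eca77.e0.{1}, ← Cfsg.Agent.KO82eca77.e20.{0}]; (try delta Cfsg.Agent.H29.TF.Dat.ckF Cfsg.Agent.H29.TF.Dat.om);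 (try generalize @Cfsg.Agent.H29.TF.Dat.F15 = g0); (try generalize @Cfsg.Agent.KFacts.FiTF.Om.OM = g1); (try generalize @Cfsg.Agent.KFacts.FiTF.Orb.lf = g2); (try generalize @Cfsg.Agent.H29.TF.Dat.omL = g3); rfl') | exact @Cfsg.Agent.H29.TF.Dat.ckF | exact ()
private theorem _root_.Cfsg.Agent.KO82eca77.e21 : (by first | exact @Cfsg.Agent.H29.TF.Dat.ckF = @_root_.Cfsg.Agent.KO82eca77.k21 | exact True : Prop) := by first | (delta _root_.Cfsg.Agent.KO82eca77.k21; exact @Subtype.property _ (fun g => @Cfsg.Agent.H29.TF.Dat.ckF = @g) _) | rfl | trivial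

theorem ckF_aux : ∀ a < 64, ∀ b < 64, ckF (64 * a + b) = true := by (first | (refine of_decide_eq_true ?_; rewrite [Cfsg.Agent.KO82eca77.e11, Cfsg.Agent.KO82eca77.e12, Cfsg.Agent.KO82eca77.e17, Cfsg.Agent.KO82eca77.e21]; decide +kernel) | decide +kernel)

theorem F15_OM : ∀ w ∈ F15, Om.OM.testBit (6 ^^^ w) = true ∧ om w ∈ F15 := by decide +kernel

theorem v_mem : ∀ i < 5, v i ∈ F15 := by decide +kernel

/-- is `w` a multiple of `v`? -/
def mlt (v w : ℕ) : Bool := Nat.beq w v || (Nat.beq w (om v) || Nat.beq w (om (om v)))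

def ckG (v w w' : ℕ) : Bool := mlt v w || (M2.testBit (6 ^^^ (v ^^^ w)) &&
  (!(Nat.beq (11 ^^^ (w ^^^ w')) (om (6 ^^^ (v ^^^ w)))) && !(Nat.beq (11 ^^^ (w ^^^ w')) (om (om (6 ^^^ (v ^^^ w)))))))

theorem ckG_all : ∀ i < 5, ∀ w ∈ F15, ∀ w' ∈ F15, ckG (v i) w w' = true := by decide +kernel

/-- powers of `om` -/
def omp (k : ℕ) (c : ℕ) : ℕ := Nat.rec c (fun _ x => om x) k

/-- the image of the root `6 + v 0 + … + v 4` -/
def rt (a b c d e : ℕ) : ℕ := 11 ^^^ (omp a (v 0) ^^^ (omp b (v 1) ^^^ (omp c (v 2) ^^^ (omp d (v 3) ^^^ omp e (v 4)))))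

theorem root : Om.OM.testBit (6 ^^^ (v 0 ^^^ (v 1 ^^^ (v 2 ^^^ (v 3 ^^^ v 4))))) = true := by decide +kernel

theorem rt_sum : ∀ a b c d e : Fin 3, Om.OM.testBit (rt a b c d e) = true →
    (1 + a.1 + b.1 + c.1 + d.1 + e.1) % 3 = 0 := by decide +kernel

/-- the basis in the frame: `2 ^ j` is the sum of the members of `fb` at the bits of `ex j` -/
def fb (i : ℕ) : ℕ := ([6, 11, 7, 9, 1187, 2289, 1251, 2161, 1586, 2835, 1842, 2323] : List ℕ).getD i 0

def ex (j : ℕ) : ℕ := ([5, 10, 11, 13, 2997, 3546, 80, 160, 1280, 2560, 3429, 1722] : List ℕ).getD j 0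


/-! ### Words taking `6 + v i` to `1` -/

def gA (i : ℕ) : List ℕ := ([[], [1, 32, 20], [11, 20], [6, 34, 32], [6, 32, 26]] : List (List ℕ)).getD i []

theorem gA_spec : ∀ i < 5, Om.OM.testBit (6 ^^^ v i) = true ∧ wa (gA i) (6 ^^^ v i) = 1 ∧
    MB4.testBit (wa (gA i) (11 ^^^ om (om (v i)))) = true := by decide +kernel

/-! ### Three coordinates multiplied by `ω` -/

/-- coefficient: 0 or `ω ^ (k - 1)` -/
def cf (k w : ℕ) : ℕ := Nat.rec 0 (fun k _ => omp k w) k

/-- a combination of the frame, with the `a`-th vector multiplied by `om ^ e a` -/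
def comb (e k : ℕ → ℕ) : ℕ := cf (k 0) (omp (e 0) 6) ^^^ (cf (k 1) (omp (e 1) (v 0)) ^^^ (cf (k 2) (omp (e 2) (v 1)) ^^^
  (cf (k 3) (omp (e 3) (v 2)) ^^^ (cf (k 4) (omp (e 4) (v 3)) ^^^ cf (k 5) (omp (e 5) (v 4))))))

/-- 1 at the places 0, `i + 1`, `j + 1` -/
def eij (i j a : ℕ) : ℕ := if a = 0 ∨ a = i + 1 ∨ a = j + 1 then 1 else 0

def kB (i j a : ℕ) : ℕ := ((([[[], [0, 0, 3, 2, 3, 2], [0, 0, 3, 2, 3, 2], [0, 0, 3, 2, 3, 2], [0, 0, 3, 2, 3, 2]], [[], [], [1, 1, 0, 0, 1, 1], [2, 2, 1, 1, 1, 3], [2, 2, 1, 1, 1, 3]], [[], [], [], [2, 2, 1, 1, 1, 3], [2, 2, 1, 1, 1, 3]], [[], [], [], [], [1, 1, 0, 0, 1, 1]], [[], [], [], [], []]] : List (List (List ℕ))).getD i []).getD j []).getD a 0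

def gB (i j : ℕ) : List ℕ := (([[[], [], [], [], []], [[], [], [26], [23], [23]], [[], [], [], [23], [23]], [[], [], [], [], [26]], [[], [], [], [], []]] : List (List (List ℕ))).getD i []).getD j []

theorem gB_spec : ∀ i < 5, ∀ j < 5, i < j → wa (gB i j) (comb (fun _ => 0) (kB i j)) = 17 ∧
    MC193.testBit (wa (gB i j) (comb (eij i j) (kB i j))) = true := by decide +kernel

/-- 64 combinations of the vectors `6, v i, v j` -/
def ls (i j : ℕ) : List ℕ := (List.range 64).map fun n => cf (n % 4) 6 ^^^ (cf (n / 4 % 4) (v i) ^^^ cf (n / 16) (v j))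

private noncomputable def _root_.Cfsg.Agent.KO82eca77.k13 : type_of% @Nat.decEq := @(fun x0 x1 => @Bool.rec.{1} @(fun x2 => (@Eq.{1} _ (@Nat.beq @x0 @x1) @x2) → @Decidable (@Eq.{1} _ @x0 @x1)) @(fun x2 => @Decidable.isFalse _ (@Nat.ne_of_beq_eq_false _ _ @x2)) @(fun x2 => @Decidable.isTrue _ (@Nat.eq_of_beq_eq_true _ _ @x2)) (@Nat.beq @x0 @x1) (@Eq.refl.{1} _ (@Nat.beq @x0 @x1)))
private theorem _root_.Cfsg.Agent.KO82eca77.e13 : @Nat.decEq = @_root_.Cfsg.Agent.KO82eca77.k13 := by delta _root_.Cfsg.Agent.KO82eca77.k13; rfl'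
private noncomputable def _root_.Cfsg.Agent.KO82eca77.k14 : type_of% @instDecidableEqNat := @Cfsg.Agent.KO82eca77.k13
private theorem _root_.Cfsg.Agent.KO82eca77.e14 : @instDecidableEqNat = @_root_.Cfsg.Agent.KO82eca77.k14 := by delta _root_.Cfsg.Agent.KO82eca77.k14; rewrite [← Cfsg.Agent.KO82eca77.e13]; rfl'
private noncomputable def _root_.Cfsg.Agent.KO82eca77.k22.{ku0} : type_of% @List.decidableBAll.{ku0} := @(fun x0 x1 x2 x3 => @List.rec.{1, ku0} @x0 @(fun x4 => @Decidable ((x5 : @x0) → (@Membership.mem.{ku0, ku0} _ _ _ @x4 @x5) → @x1 @x5)) (@Decidable.isTrue _ (@List.decidableBAll._proof_1.{ku0} _ @x1)) @(fun x4 x5 x6 => @Decidable.rec.{1} _ @(fun x7 => @Decidable ((x8 : @x0) → (@Membership.mem.{ku0, ku0} _ _ _ (@x4 :: @x5) @x8) → @x1 @x8)) @(fun x7 => @Decidable.isFalse _ (@List.decidableBAll._proof_4.{ku0} _ @x1 @x4 @x5 @x7)) @(fun x7 => @Decidable.rec.{1} _ @(fun x8 => @Decidable ((x9 : @x0) → (@Membership.mem.{ku0, ku0} _ _ _ (@x4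 :: @x5) @x9) → @x1 @x9)) @(fun x8 => @Decidable.isFalse _ (@List.decidableBAll._proof_3.{ku0} _ @x1 @x4 @x5 @x8)) @(fun x8 => @Decidable.isTrue _ (@List.decidableBAll._proof_2.{ku0} _ @x1 @x4 @x5 @x7 @x8)) @x6) (@x2 @x4)) @x3)
private theorem _root_.Cfsg.Agent.KO82eca77.e22.{ku0} : @List.decidableBAll.{ku0} = @_root_.Cfsg.Agent.KO82eca77.k22.{ku0} := by delta _root_.Cfsg.Agent.KO82eca77.k22; funext a0 a1 a2 a3; refine (_root_.Cfsg.Agent.KO82eca77.e3 (fun a3 => @List.decidableBAll.{ku0} a0 a1 a2 a3) ?_ (fun c0 c1 => ?_) a3 :) <;> (rfl')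
private noncomputable def _root_.Cfsg.Agent.KO82eca77.k25 : (by first | exact type_of% @Cfsg.Agent.H29.TF.Dat.v | exact Unit : Sort _) := by first | (refine @Subtype.val _ (fun g => @Cfsg.Agent.H29.TF.Dat.v = @g) (@Subtype.mk _ _ (@(fun x0 => @Option.rec.{1, 0} ℕ @(fun x1 => ℕ) (nat_lit 0) @(fun x1 => @x1) (@Cfsg.Agent.KO82eca77.k6.{0} _ ((nat_lit 7) :: ((nat_lit 1187) :: ((nat_lit 1251) :: ((nat_lit 1586) :: ((nat_lit 1842) :: []))))) @x0))) ?_); rewrite [← Cfsg.Agent.KO82eca77.e6.{0}]; rfl') | exact @Cfsg.Agent.H29.TF.Dat.v | exact ()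
private theorem _root_.Cfsg.Agent.KO82eca77.e25 : (by first | exact @Cfsg.Agent.H29.TF.Dat.v = @_root_.Cfsg.Agent.KO82eca77.k25 | exact True : Prop) := by first | (delta _root_.Cfsg.Agent.KO82eca77.k25; exact @Subtype.property _ (fun g => @Cfsg.Agent.H29.TF.Dat.v = @g) _) | rfl | trivial
private noncomputable def _root_.Cfsg.Agent.KO82eca77.k26 : type_of% @forall_prop_decidable := @(fun x0 x1 x2 x3 => @Decidable.rec.{1} _ @(fun x4 => @Decidable ((x5 : @x0) → @x1 @x5)) @(fun x4 => @Decidable.isTrue _ (@forall_prop_decidable._proof_2 _ @x1 @x4)) @(fun x4 => @Decidable.rec.{1} _ @(fun x5 => @Decidable ((x6 : @x0) → @x1 @x6)) @(fun x5 => @Decidable.isFalse _ (@decidable_of_decidable_of_iff._proof_1 _ _ (@forall_prop_decidable._proof_1 _ @x1 @x4) @x5)) @(fun x5 => @Decidable.isTrue _ (@Iff.mp _ _ (@forall_prop_decidable._proof_1 _ @x1 @x4) @x5)) (@x3 @x4)) @x2)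
private theorem _root_.Cfsg.Agent.KO82eca77.e26 : @forall_prop_decidable = @_root_.Cfsg.Agent.KO82eca77.k26 := by delta _root_.Cfsg.Agent.KO82eca77.k26; rfl'
private noncomputable def _root_.Cfsg.Agent.KO82eca77.k27 : type_of% @Nat.decLe := @(fun x0 x1 => @Decidable.rec.{1} _ @(fun x2 => @Decidable (@LE.le.{0} _ _ @x0 @x1)) @(fun x2 => @Decidable.isFalse _ (@Nat.not_le_of_not_ble_eq_true _ _ @x2)) @(fun x2 => @Decidable.isTrue _ (@Nat.le_of_ble_eq_true _ _ @x2)) (@Cfsg.Agent.KO82eca77.k16 (@Nat.ble @x0 @x1) @Bool.true))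
private theorem _root_.Cfsg.Agent.KO82eca77.e27 : @Nat.decLe = @_root_.Cfsg.Agent.KO82eca77.k27 := by delta _root_.Cfsg.Agent.KO82eca77.k27; rewrite [← Cfsg.Agent.KO82eca77.e16]; rfl'
private noncomputable def _root_.Cfsg.Agent.KO82eca77.k28 : type_of% @Nat.decLt := @(fun x0 x1 => @Cfsg.Agent.KO82eca77.k27 (@Nat.succ @x0) @x1)
private theorem _root_.Cfsg.Agent.KO82eca77.e28 : @Nat.decLt = @_root_.Cfsg.Agent.KO82eca77.k28 := by delta _root_.Cfsg.Agent.KO82eca77.k28; rewrite [← Cfsg.Agent.KO82eca77.e27]; rfl'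
private noncomputable def _root_.Cfsg.Agent.KO82eca77.k29.{ku0} : type_of% @List.instDecidablePairwise.{ku0} := @(fun x0 x1 x2 x3 => @List.rec.{1, ku0} @x0 @(fun x4 => @Decidable (@List.Pairwise.{ku0} _ @x1 @x4)) (@Decidable.isTrue _ (@List.Pairwise.nil.{ku0} _ _)) @(fun x4 x5 x6 => @Decidable.rec.{1} _ @(fun x7 => @Decidable (@List.Pairwise.{ku0} _ @x1 (@x4 :: @x5))) @(fun x7 => @Decidable.isFalse _ (@List.instDecidablePairwise._proof_3.{ku0} _ _ @x4 @x5 @x7)) @(fun x7 => @Decidable.rec.{1} _ @(fun x8 => @Decidable (@List.Pairwise.{ku0} _ @x1 (@x4 :: @x5))) @(fun x8 => @Decidable.isFalse _ (@List.instDecidablePairwise._proof_1.{ku0} _ _ @x4 @x5 @x8)) @(fun x8 => @Decidable.isTrue _ (@List.instDecidablePairwise._proof_2.{ku0} _ _ @x4 @x5 @x7 @x8)) (@Cfsg.Agent.KO82eca77.k22.{ku0} _ (@x1 @x4) (@x2 @x4) @x5)) @x6) @x3)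
private theorem _root_.Cfsg.Agent.KO82eca77.e29.{ku0} : @List.instDecidablePairwise.{ku0} = @_root_.Cfsg.Agent.KO82eca77.k29.{ku0} := by delta _root_.Cfsg.Agent.KO82eca77.k29; rewrite [← Cfsg.Agent.KO82eca77.e22.{ku0}]; funext a0 a1 a2 a3; refine (_root_.Cfsg.Agent.KO82eca77.e3 (fun a3 => @List.instDecidablePairwise.{ku0} a0 a1 a2 a3) ?_ (fun c0 c1 => ?_) a3 :) <;> (rfl')
private noncomputable def _root_.Cfsg.Agent.KO82eca77.k30.{ku0} : type_of% @List.nodupDecidable.{ku0} := @(fun x0 x1 => @Cfsg.Agent.KO82eca77.k29.{ku0} _ @(fun x2 x3 => @Ne.{(ku0+1)} _ @x2 @x3) @(fun x2 x3 => @Decidable.rec.{1} _ @(fun x4 => @Decidable (¬ (@Eq.{(ku0+1)} _ @x2 @x3))) @(fun x4 => @Decidable.isTrue _ @x4) @(fun x4 => @Decidable.isFalse _ (@absurd.{0} _ _ @x4)) (@x1 @x2 @x3)))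
private theorem _root_.Cfsg.Agent.KO82eca77.e30.{ku0} : @List.nodupDecidable.{ku0} = @_root_.Cfsg.Agent.KO82eca77.k30.{ku0} := by delta _root_.Cfsg.Agent.KO82eca77.k30; rewrite [← Cfsg.Agent.KO82eca77.e29.{ku0}]; rfl'
private noncomputable def _root_.Cfsg.Agent.KO82eca77.k31.{ku0, ku1} : type_of% @List.map.{ku0, ku1} := @(fun x0 x1 x2 x3 => @List.rec.{(ku1+1), ku0} @x0 @(fun x4 => @List.{ku1} @x1) [] @(fun x4 x5 x6 => (@x2 @x4) :: @x6) @x3)
private theorem _root_.Cfsg.Agent.KO82eca77.e31.{ku0, ku1} : @List.map.{ku0, ku1} = @_root_.Cfsg.Agent.KO82eca77.k31.{ku0, ku1} := by delta _root_.Cfsg.Agent.KO82eca77.k31; funext a0 a1 a2 a3; refine (_root_.Cfsg.Agent.KO82eca77.e3 (fun a3 => @List.map.{ku0, ku1} a0 a1 a2 a3) ?_ (fun c0 c1 => ?_) a3 :) <;> (rfl')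
private noncomputable def _root_.Cfsg.Agent.KO82eca77.k32 : type_of% @List.range.loop := @(fun x0 x1 => @Nat.rec.{1} @(fun x2 => (@List.{0} ℕ) → @List.{0} ℕ) @(fun x2 => @x2) @(fun x2 x3 x4 => @x3 (@x2 :: @x4)) @x0 @x1)
private theorem _root_.Cfsg.Agent.KO82eca77.e32 : @List.range.loop = @_root_.Cfsg.Agent.KO82eca77.k32 := by delta _root_.Cfsg.Agent.KO82eca77.k32; funext a0 a1; refine (congrFun (_root_.Cfsg.Agent.KO82eca77.e1 (fun a0 a1 => @List.range.loop a0 a1) ?_ (fun c0 => ?_) a0) a1 :) <;> (rfl')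
private noncomputable def _root_.Cfsg.Agent.KO82eca77.k33 : (by first | exact type_of% @Cfsg.Agent.H29.TF.Dat.ls | exact Unit : Sort _) := by first | (refine @Subtype.val _ (fun g => @Cfsg.Agent.H29.TF.Dat.ls = @g) (@Subtype.mk _ _ (@(fun x0 x1 => @Cfsg.Agent.KO82eca77.k31.{0, 0} _ _ @(fun x2 => @Nat.xor (@Nat.rec.{1} @(fun x3 => ℕ) (nat_lit 0) @(fun x3 x4 => @Nat.rec.{1} @(fun x5 => ℕ) (nat_lit 6) @(fun x5 x6 => @Cfsg.Agent.KO82eca77.k4 @Cfsg.Agent.H29.TF.Dat.omL @x6) @x3) (@Nat.mod @x2 (nat_lit 4))) (@Nat.xor (@Nat.rec.{1} @(fun x3 => ℕ) (nat_lit 0) @(fun x3 x4 => @Nat.rec.{1} @(fun x5 => ℕ) (@Cfsg.Agent.KO82eca77.k25 @x0) @(fun x5 x6 => @Cfsg.Agent.KO82eca77.k4 @Cfsg.Agent.H29.TF.Dat.omL @x6) @x3) (@Nat.mod (@Nat.div @x2 (nat_lit 4)) (nat_lit 4))) (@Nat.rec.{1} @(fun x3 => ℕ) (nat_lit 0) @(fun x3 x4 => @Nat.rec.{1} @(fun x5 => ℕ) (@Cfsg.Agent.KO82eca77.k25 @x1) @(fun x5 x6 => @Cfsg.Agent.KO82eca77.k4 @Cfsg.Agent.H29.TF.Dat.omL @x6) @x3)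 (@Nat.div @x2 (nat_lit 16))))) (@Cfsg.Agent.KO82eca77.k32 (nat_lit 64) []))) ?_); rewrite [← Cfsg.Agent.KO82eca77.e32, ← Cfsg.Agent.KO82eca77.e25, ← Cfsg.Agent.KO82eca77.e4, ← Cfsg.Agent.KO82eca77.e31.{0, 0}]; (try delta Cfsg.Agent.H29.TF.Dat.ls Cfsg.Agent.H29.TF.Dat.cf Cfsg.Agent.H29.TF.Dat.omp Cfsg.Agent.H29.TF.Dat.om); (try generalize @Cfsg.Agent.KFacts.FiTF.Orb.lf = g0); (try generalize @Cfsg.Agent.H29.TF.Dat.omL = g1); (try generalize @Cfsg.Agent.H29.TF.Dat.v = g2); rfl') | exact @Cfsg.Agent.H29.TF.Dat.ls | exact ()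
private theorem _root_.Cfsg.Agent.KO82eca77.e33 : (by first | exact @Cfsg.Agent.H29.TF.Dat.ls = @_root_.Cfsg.Agent.KO82eca77.k33 | exact True : Prop) := by first | (delta _root_.Cfsg.Agent.KO82eca77.k33; exact @Subtype.property _ (fun g => @Cfsg.Agent.H29.TF.Dat.ls = @g) _) | rfl | trivial

theorem ls_nodup : ∀ i < 5, ∀ j < 5, i < j → (ls i j).Nodup := by (first | (refine of_decide_eq_true ?_; rewrite [Cfsg.Agent.KO82eca77.e11, Cfsg.Agent.KO82eca77.e12, Cfsg.Agent.KO82eca77.e26, Cfsg.Agent.KO82eca77.e28, Cfsg.Agent.KO82eca77.e30.{0}, Cfsg.Agent.KO82eca77.e14, Cfsg.Agent.KO82eca77.e33]; decide +kernel) | decide +kernel)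

/-- `c` as a combination of the members of `fb` -/
def fbs (f : ℕ → ℕ) (b : ℕ) : ℕ → ℕ
  | 0 => 0
  | k + 1 => (b / 2 ^ k % 2 * f k) ^^^ fbs f b k

theorem fbs_ex : ∀ j < 12, fbs fb (ex j) 12 = 2 ^ j ∧ fbs (fun i => om (fb i)) (ex j) 12 = om (2 ^ j) := by
  decide +kernel

end Cfsg.Agent.H29.TF.Dat
end

-- part: H29/TF/Act
section
/-!
# `Fi24'`: the centralizer of a `2B` involution acting on the codes (helper29)

`ac g c`: the code of `g (cod c) g⁻¹`. `bound_K`, `bound_pairs`: lower bounds for the number of conjugates of an element.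
-/

set_option autoImplicit false
set_option maxRecDepth 100000

namespace Cfsg.Agent.H29.TF

open Cfsg Cfsg.Spor Subgroup
open Cfsg.Agent.KFacts.FiTF Cfsg.Agent.KFacts.FiTF.Defs
open Cfsg.Agent.KFacts.FiTF.Orb Cfsg.Agent.KFacts.FiTF.Lin
open Cfsg.Agent.KFacts.FiTF.OrbSys
open Cfsg.Agent.KFacts.Codes
open Cfsg.Agent.H98.Ex2 Cfsg.Agent.H98.Ex2.FiTwoB
open Cfsg.Agent.Lib.PermNetOrbit
open Cfsg.Agent.H29.TF.Dat

instance finF : Finite Spor.Fi24 := Cfsg.Agent.R08.FiTwentyFour.finite_Fi24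

/-- action on codes -/
noncomputable def ac (g : Spor.Fi24) (c : ℕ) : ℕ := Lin.pi 12 z x (g * cod 12 z x c * g⁻¹)

theorem ac_lt (g : Spor.Fi24) (c : ℕ) : ac g c < 4096 := RQ.sys.dt.pi_lt _

theorem norm {g : Spor.Fi24} (hg : g * z = z * g) {r : Spor.Fi24} (hr : r ∈ R) : g * r * g⁻¹ ∈ R :=
  frame.norm g hg r hr

theorem ac_spec {g : Spor.Fi24} (hg : g * z = z * g) (c : ℕ) :
    Ez z (g * cod 12 z x c * g⁻¹) (cod 12 z x (ac g c)) := RQ.sys.ez_pi (norm hg (cod_mem c))

theorem ac_eq {g : Spor.Fi24} {c d : ℕ} (hd : d < 4096) (h : Ez z (g * cod 12 z x c * g⁻¹) (cod 12 z x d)) :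
    ac g c = d := RQ.sys.pi_of hd h

theorem inv_z {g : Spor.Fi24} (hg : g * z = z * g) : g⁻¹ * z = z * g⁻¹ := by
  rw [inv_mul_eq_iff_eq_mul, ← mul_assoc, hg, mul_assoc, mul_inv_cancel, mul_one]

theorem mul_z {g h : Spor.Fi24} (hg : g * z = z * g) (hh : h * z = z * h) : g * h * z = z * (g * h) := by
  rw [mul_assoc, hh, ← mul_assoc, hg, mul_assoc]

theorem ac_mul {g h : Spor.Fi24} (hg : g * z = z * g) (hh : h * z = z * h) (c : ℕ) : ac (g * h) c = ac g (ac h c) := by
  apply ac_eq (ac_lt _ _)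
  have h1 := (ac_spec hh c).conj hg
  have h2 := h1.trans frame.zz (ac_spec hg _)
  have e : g * h * cod 12 z x c * (g * h)⁻¹ = g * (h * cod 12 z x c * h⁻¹) * g⁻¹ := by group
  rw [e]
  exact h2

theorem ac_xor {g : Spor.Fi24} (hg : g * z = z * g) (c d : ℕ) : ac g (c ^^^ d) = ac g c ^^^ ac g d := by
  have zz := frame.zz
  have hlt : ac g c ^^^ ac g d < 4096 := Nat.xor_lt_two_pow (n := 12) (ac_lt _ _) (ac_lt _ _)
  apply ac_eq hlt
  have h1 : Ez z (cod 12 z x (c ^^^ d)) (cod 12 z x c * cod 12 z x d) := (ez_mul RQ.sys.rel Om.tri c d).symm zz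
  have h2 := h1.conj hg
  have e : g * (cod 12 z x c * cod 12 z x d) * g⁻¹ = (g * cod 12 z x c * g⁻¹) * (g * cod 12 z x d * g⁻¹) := by group
  rw [e] at h2
  have h3 := (ac_spec hg c).mul zz (ac_spec hg d) (cod_comm_z RQ.sys.rel _)
  exact (h2.trans zz h3).trans zz (ez_mul RQ.sys.rel Om.tri _ _)

theorem ac_zero {g : Spor.Fi24} : ac g 0 = 0 := by
  apply ac_eq (by norm_num)
  left
  rw [cod_zero]; group

theorem ac_R {r : Spor.Fi24} (hr : r ∈ R) {c : ℕ} (hc : c < 4096) : ac r c = c := by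
  apply ac_eq hc
  exact sit.comm_cases hr (cod_mem c)

theorem ac_one {c : ℕ} (hc : c < 4096) : ac 1 c = c := ac_R R.one_mem hc

theorem ac_inv {g : Spor.Fi24} (hg : g * z = z * g) {c : ℕ} (hc : c < 4096) : ac g⁻¹ (ac g c) = c := by
  rw [← ac_mul (inv_z hg) hg, inv_mul_cancel, ac_one hc]

theorem ac_inv' {g : Spor.Fi24} (hg : g * z = z * g) {c : ℕ} (hc : c < 4096) : ac g (ac g⁻¹ c) = c := by
  rw [← ac_mul hg (inv_z hg), mul_inv_cancel, ac_one hc]

theorem ac_inv_eq {g : Spor.Fi24} (hg : g * z = z * g) {c d : ℕ} (hc : c < 4096) (h : ac g c = d) : ac g⁻¹ d = c := by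
  rw [← h, ac_inv hg hc]

theorem ac_inj {g : Spor.Fi24} (hg : g * z = z * g) {c d : ℕ} (hc : c < 4096) (hd : d < 4096) (h : ac g c = ac g d) :
    c = d := by
  rw [← ac_inv hg hc, h, ac_inv hg hd]

/-- conjugation -/
theorem ac_conj {g s : Spor.Fi24} (hg : g * z = z * g) (hs : s * z = z * s) {c : ℕ} (hc : c < 4096) :
    ac (g * s * g⁻¹) (ac g c) = ac g (ac s c) := by
  rw [ac_mul (mul_z hg hs) (inv_z hg), ac_mul hg hs, ac_inv hg hc]

/-! ### The masks -/

theorem m2_of_sq {c : ℕ} (hc : c < 4096) (h : cod 12 z x c * cod 12 z x c = z) : M2.testBit c = true := by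
  have hz1 := frame.z1
  by_cases h0 : c = 0
  · exfalso
    rw [h0, cod_zero, mul_one] at h
    exact hz1 h.symm
  have h3 : (2 ^ 4096 - 2 : ℕ).testBit c = true := testBit_full hc h0
  rw [← cover, Nat.testBit_or, Nat.testBit_or, Bool.or_eq_true, Bool.or_eq_true] at h3
  rcases h3 with (h3 | h3) | h3
  · exact absurd (h.symm.trans (sq1 h3)) hz1
  · exact h3
  · exact absurd (h.symm.trans (sq3 h3)) hz1

theorem ac_M2 {g : Spor.Fi24} (hg : g * z = z * g) {c : ℕ} (h : M2.testBit c = true) : M2.testBit (ac g c) = true := by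
  apply m2_of_sq (ac_lt _ _)
  rw [← ez_sq (ac_spec hg c) (cod_z _)]
  calc g * cod 12 z x c * g⁻¹ * (g * cod 12 z x c * g⁻¹) = g * (cod 12 z x c * cod 12 z x c) * g⁻¹ := by group
    _ = g * z * g⁻¹ := by rw [sq2 h]
    _ = z := by rw [hg]; group

theorem ac_OM {g : Spor.Fi24} (hg : g * z = z * g) {c : ℕ} (h : Om.OM.testBit c = true) :
    Om.OM.testBit (ac g c) = true := by
  have hc : c < 4096 := RQ.om_lt h
  have h1 : cod 12 z x c ∈ RQ.Om := by
    rw [RQ.Om, RQ.sys.dt.mem_Om (cod_mem c), RQ.sys.dt.pi_cod hc]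
    exact h
  have h2 := frame.OmC g hg _ h1
  rw [RQ.Om, RQ.sys.dt.mem_Om (norm hg (cod_mem c))] at h2
  exact h2

/-! ### Words in the even products -/

theorem wa_lt (w : List ℕ) {c : ℕ} (hc : c < 4096) : wa w c < 4096 := by
  cases w with
  | nil => exact hc
  | cons k w => exact ff_lt _ _

theorem gwd_E (w : List ℕ) : gwd y w ∈ E := RQ.sys.gwd_mem w

theorem E_z {g : Spor.Fi24} (hg : g ∈ E) : g * z = z * g := frame.Ez g hg

theorem C_z {g : Spor.Fi24} (hg : g ∈ C) : g * z = z * g := (mem_C.1 hg).2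

theorem ac_gwd (w : List ℕ) {c : ℕ} (hc : c < 4096) : ac (gwd y w) c = wa w c :=
  ac_eq (wa_lt w hc) (RQ.sys.gwd_ez w c)

/-! ### Additive functions -/

theorem mod_mul_xor (c d a : ℕ) : (c ^^^ d) % 2 * a = (c % 2 * a) ^^^ (d % 2 * a) := by
  have h : (c ^^^ d) % 2 = (c % 2) ^^^ (d % 2) := Nat.xor_mod_two_pow (n := 1)
  rw [h]
  rcases Nat.mod_two_eq_zero_or_one c with h1 | h1 <;> rcases Nat.mod_two_eq_zero_or_one d with h2 | h2 <;>
    rw [h1, h2] <;> simp

theorem lf_xor (l : List ℕ) : ∀ c d : ℕ, lf l (c ^^^ d) = lf l c ^^^ lf l d := by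
  induction l with
  | nil => intro c d; simp [lf]
  | cons a l ih =>
    intro c d
    show ((c ^^^ d) % 2 * a) ^^^ lf l ((c ^^^ d) / 2) = ((c % 2 * a) ^^^ lf l (c / 2)) ^^^ ((d % 2 * a) ^^^ lf l (d / 2))
    rw [mod_mul_xor, Nat.xor_div_two, ih]
    ac_rfl

theorem om_xor (c d : ℕ) : om (c ^^^ d) = om c ^^^ om d := lf_xor _ _ _

theorem split_top {k c : ℕ} (h : c < 2 ^ (k + 1)) (h' : ¬ c < 2 ^ k) : c = (c % 2 ^ k) ^^^ 2 ^ k := by
  have hb : c.testBit k = true := by
    rw [Nat.testBit_eq_decide_div_mod_eq, decide_eq_true_eq]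
    have h1 : c / 2 ^ k = 1 := by
      rw [Nat.div_eq_iff (Nat.two_pow_pos k)]
      rw [pow_succ] at h
      have := Nat.two_pow_pos k
      omega
    rw [h1]
  apply Nat.eq_of_testBit_eq
  intro i
  rw [Nat.testBit_xor, Nat.testBit_mod_two_pow, Nat.testBit_two_pow]
  rcases lt_trichotomy i k with h1 | h1 | h1
  · have : ¬ k = i := by omega
    simp [h1, this]
  · subst h1; simp [hb]
  · have h2 : c.testBit i = false := by
      apply Nat.testBit_lt_two_pow
      exact lt_of_lt_of_le h (Nat.pow_le_pow_right (by norm_num) (by omega))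
    have h3 : ¬ k = i := by omega
    simp [h2, h3]

theorem add_zero' {f : ℕ → ℕ} (hf : ∀ c d, f (c ^^^ d) = f c ^^^ f d) : f 0 = 0 := by
  have h := hf 0 0
  rw [Nat.xor_self, Nat.xor_self] at h
  exact h

theorem add_ext {f g : ℕ → ℕ} (hf : ∀ c d, f (c ^^^ d) = f c ^^^ f d) (hg : ∀ c d, g (c ^^^ d) = g c ^^^ g d)
    (h : ∀ j < 12, f (2 ^ j) = g (2 ^ j)) : ∀ k ≤ 12, ∀ c < 2 ^ k, f c = g c := by
  intro k
  induction k with
  | zero =>
    intro _ c hc
    have : c = 0 := by norm_num at hc; exact hc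
    rw [this, add_zero' hf, add_zero' hg]
  | succ k ih =>
    intro hk c hc
    by_cases h1 : c < 2 ^ k
    · exact ih (by omega) c h1
    · rw [split_top hc h1, hf, hg, ih (by omega) _ (Nat.mod_lt _ (Nat.two_pow_pos k)), h k (by omega)]

theorem add_ext' {f g : ℕ → ℕ} (hf : ∀ c d, f (c ^^^ d) = f c ^^^ f d) (hg : ∀ c d, g (c ^^^ d) = g c ^^^ g d)
    (h : ∀ j < 12, f (2 ^ j) = g (2 ^ j)) {c : ℕ} (hc : c < 4096) : f c = g c := add_ext hf hg h 12 le_rfl c hc

/-! ### `om` -/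

theorem omL_lt : ∀ a ∈ omL, a < 2 ^ 12 := by decide

theorem om_lt (c : ℕ) : om c < 4096 := lf_lt (n := 12) _ omL_lt _

theorem om3 {c : ℕ} (hc : c < 4096) : om (om (om c)) = c :=
  add_ext' (f := fun c => om (om (om c))) (g := fun c => c)
    (fun c d => by rw [om_xor, om_xor, om_xor]) (fun _ _ => rfl) om_basis3 hc

theorem om_sum {c : ℕ} (hc : c < 4096) : om (om c) ^^^ om c ^^^ c = 0 :=
  add_ext' (f := fun c => om (om c) ^^^ om c ^^^ c) (g := fun _ => 0)
    (fun c d => by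
      show om (om (c ^^^ d)) ^^^ om (c ^^^ d) ^^^ (c ^^^ d) = (om (om c) ^^^ om c ^^^ c) ^^^ (om (om d) ^^^ om d ^^^ d)
      rw [om_xor, om_xor]; ac_rfl) (fun _ _ => rfl) om_basis hc

theorem om2_eq {c : ℕ} (hc : c < 4096) : om (om c) = om c ^^^ c := by
  have h := om_sum hc
  rw [Nat.xor_assoc] at h
  exact Nat.xor_eq_zero_iff.1 h

theorem ac_y {t : ℕ} (ht : t < 6) (c : ℕ) : ac (y t) c = lf (YL t) c :=
  ac_eq (lf_lt (n := 12) _ (YL_lt _ ht) _) (RQ.sys.y1 ht c)

/-- commuting with `om` -/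
def Cm (g : Spor.Fi24) : Prop := g * z = z * g ∧ ∀ c < 4096, ac g (om c) = om (ac g c)

theorem Cm.mul {g h : Spor.Fi24} (hg : Cm g) (hh : Cm h) : Cm (g * h) :=
  ⟨mul_z hg.1 hh.1, fun c hc => by rw [ac_mul hg.1 hh.1, ac_mul hg.1 hh.1, hh.2 c hc, hg.2 _ (ac_lt _ _)]⟩

theorem Cm.inv {g : Spor.Fi24} (hg : Cm g) : Cm g⁻¹ :=
  ⟨inv_z hg.1, fun c hc => by
    apply ac_inj hg.1 (ac_lt _ _) (om_lt _)
    rw [ac_inv' hg.1 (om_lt _), hg.2 _ (ac_lt _ _), ac_inv' hg.1 hc]⟩

theorem Cm.ofR {r : Spor.Fi24} (hr : r ∈ R) : Cm r :=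
  ⟨C_z (sit.RC hr), fun c hc => by rw [ac_R hr (om_lt _), ac_R hr hc]⟩

theorem Cm.y {t : ℕ} (ht : t < 6) : Cm (y t) := by
  refine ⟨RQ.sys.yz t ht, fun c hc => ?_⟩
  rw [ac_y ht, ac_y ht]
  exact add_ext' (f := fun c => lf (YL t) (om c)) (g := fun c => om (lf (YL t) c))
    (fun c d => by
      show lf (YL t) (om (c ^^^ d)) = lf (YL t) (om c) ^^^ lf (YL t) (om d)
      rw [om_xor, lf_xor])
    (fun c d => by
      show om (lf (YL t) (c ^^^ d)) = om (lf (YL t) c) ^^^ om (lf (YL t) d)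
      rw [lf_xor, om_xor]) (om_YL t ht) hc

theorem Cm.W {w : Spor.Fi24} (hw : w ∈ RQ.W) : Cm w := by
  refine RQ.W_ind (p := Cm) (fun t ht => Cm.y ht) ?_ (Cm.ofR R.one_mem) (fun _ _ => Cm.mul) (fun _ => Cm.inv) hw
  rw [RQ.x0_mem]
  exact (Cm.y (by norm_num)).mul (Cm.ofR (RQ.x_mem (by norm_num)))

theorem Cm.E {g : Spor.Fi24} (hg : g ∈ E) : Cm g := by
  have hD : ∀ d ∈ Dz, Cm d := by
    intro d hd
    obtain ⟨w, hw, h⟩ := FixZ.tran d hd
    rw [← QuasiA.y_zero] at h
    rw [← h]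
    have h1 : Cm w := Cm.W hw
    exact (h1.mul (Cm.y (by norm_num))).mul h1.inv
  unfold Defs.E at hg
  induction hg using Subgroup.closure_induction with
  | mem g hg =>
    obtain ⟨e, he, f, hf, rfl⟩ := hg
    exact (hD e he).mul (hD f hf)
  | one => exact Cm.ofR R.one_mem
  | mul a b _ _ ha hb => exact ha.mul hb
  | inv a _ ha => exact ha.inv

end Cfsg.Agent.H29.TF
end

-- part: H29/TF/Count
section
/-!
# `Fi24'`: the centralizer of a `2B` involution, counting conjugates (helper29)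
-/

set_option autoImplicit false
set_option maxRecDepth 100000

namespace Cfsg.Agent.H29.TF

open Cfsg Cfsg.Spor Subgroup
open Cfsg.Agent.KFacts.FiTF Cfsg.Agent.KFacts.FiTF.Defs
open Cfsg.Agent.KFacts.FiTF.Orb Cfsg.Agent.KFacts.FiTF.Lin
open Cfsg.Agent.KFacts.FiTF.OrbSys
open Cfsg.Agent.KFacts.Codes
open Cfsg.Agent.H98.Ex2 Cfsg.Agent.H98.Ex2.FiTwoB
open Cfsg.Agent.Lib.PermNetOrbit
open Cfsg.Agent.H29.TF.Dat

/-- the action of `t` on the codes below 4096 -/
noncomputable def fa (t : Spor.Fi24) : Fin 4096 → ℕ := fun c => ac t c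

/-- `a = c + s c` -/
def InA (s : Spor.Fi24) (a : ℕ) : Prop := ∃ c < 4096, c ^^^ ac s c = a

theorem InA.lt {s : Spor.Fi24} {a : ℕ} (h : InA s a) : a < 4096 := by
  obtain ⟨c, hc, rfl⟩ := h
  exact Nat.xor_lt_two_pow (n := 12) hc (ac_lt _ _)

theorem InA.conj {s g : Spor.Fi24} (hs : s * z = z * s) (hg : g * z = z * g) {a : ℕ} (h : InA s a) :
    InA (g * s * g⁻¹) (ac g a) := by
  obtain ⟨c, hc, rfl⟩ := h
  refine ⟨ac g c, ac_lt _ _, ?_⟩
  rw [ac_conj hg hs hc, ← ac_xor hg]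

theorem fa_R {t : Spor.Fi24} (ht : t * z = z * t) {q : Spor.Fi24} (hq : q ∈ R) : fa (q * t * q⁻¹) = fa t := by
  have hqz : q * z = z * q := C_z (sit.RC hq)
  funext c
  show ac (q * t * q⁻¹) c = ac t c
  have h1 := ac_conj hqz ht (c := c) c.2
  rw [ac_R hq c.2, ac_R hq (ac_lt _ _)] at h1
  exact h1

/-- the `R`-class has at least as many elements as `[R, t]` modulo `z` -/
theorem card_A {t : Spor.Fi24} (ht : t ∈ C) {A : Finset ℕ} (hA : ∀ a ∈ A, InA t a) : A.card ≤ (cls R t).ncard := by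
  classical
  have htz := C_z ht
  choose! c hc hca using hA
  have key : ∀ a ∈ A, Lin.pi 12 z x ((cod 12 z x (c a) * t * (cod 12 z x (c a))⁻¹) * t⁻¹) = a := by
    intro a ha
    have zz := frame.zz
    have h1 : Ez z (t * cod 12 z x (c a) * t⁻¹) (cod 12 z x (ac t (c a))) := ac_spec htz _
    -- `t q⁻¹ t⁻¹ ~ t q t⁻¹`
    have hsq : ∀ q ∈ R, Ez z q⁻¹ q := by
      intro q hq
      rcases frame.sq q hq with h | h
      · left; exact inv_eq_of_mul_eq_one_left h
      · right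
        apply inv_eq_of_mul_eq_one_left
        rw [mul_assoc, h, frame.zz]
    have h2 : Ez z (t * (cod 12 z x (c a))⁻¹ * t⁻¹) (cod 12 z x (ac t (c a))) := by
      have e : t * (cod 12 z x (c a))⁻¹ * t⁻¹ = (t * cod 12 z x (c a) * t⁻¹)⁻¹ := by group
      rw [e]
      exact (hsq _ (norm htz (cod_mem _))).trans zz h1
    have h3 : Ez z (cod 12 z x (c a) * (t * (cod 12 z x (c a))⁻¹ * t⁻¹)) (cod 12 z x (c a ^^^ ac t (c a))) :=
      ((Ez.refl _).mul zz h2 (cod_comm_z RQ.sys.rel _)).trans zz (ez_mul RQ.sys.rel Om.tri _ _)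
    rw [hca a ha] at h3
    have e : cod 12 z x (c a) * t * (cod 12 z x (c a))⁻¹ * t⁻¹ = cod 12 z x (c a) * (t * (cod 12 z x (c a))⁻¹ * t⁻¹) := by
      group
    rw [e]
    refine RQ.sys.pi_of ?_ h3
    rw [← hca a ha]
    exact Nat.xor_lt_two_pow (n := 12) (hc a ha) (ac_lt _ _)
  rw [← Set.ncard_coe_finset]
  refine Set.ncard_le_ncard_of_injOn (fun a => cod 12 z x (c a) * t * (cod 12 z x (c a))⁻¹) ?_ ?_ (Set.toFinite _)
  · intro a _
    exact ⟨_, cod_mem _, rfl⟩
  · intro a ha b hb hab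
    have hab' : cod 12 z x (c a) * t * (cod 12 z x (c a))⁻¹ = cod 12 z x (c b) * t * (cod 12 z x (c b))⁻¹ := hab
    rw [← key a ha, ← key b hb, hab']

/-- each action has `|s ^ R|` elements of the class -/
theorem cls_mul {s : Spor.Fi24} (hs : s ∈ C) : ∃ S : Finset Spor.Fi24, (∀ t, t ∈ S ↔ ∃ g ∈ C, g * s * g⁻¹ = t) ∧
    S.card = (cls C s).ncard ∧ ∀ [DecidableEq (Fin 4096 → ℕ)], (cls R s).ncard * (S.image fa).card ≤ S.card := by
  classical
  have hf : Fintype Spor.Fi24 := Fintype.ofFinite _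
  refine ⟨(cls C s).toFinset, fun t => ?_, (Set.ncard_eq_toFinset_card' _).symm, ?_⟩
  · rw [Set.mem_toFinset]; exact Iff.rfl
  · intro _
    refine Finset.mul_card_image_le_card _ _ ?_
    intro b hb
    obtain ⟨t, ht, rfl⟩ := Finset.mem_image.1 hb
    rw [Set.mem_toFinset] at ht
    obtain ⟨g, hg, rfl⟩ := ht
    rw [← sit.cls_conj hg, Set.ncard_eq_toFinset_card']
    refine Finset.card_le_card ?_
    intro t ht
    rw [Set.mem_toFinset] at ht
    obtain ⟨q, hq, rfl⟩ := ht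
    rw [Finset.mem_filter, Set.mem_toFinset]
    refine ⟨⟨q * g, C.mul_mem (sit.RC hq) hg, by group⟩, ?_⟩
    exact fa_R (C_z (C.mul_mem (C.mul_mem hg hs) (C.inv_mem hg))) hq

/-- **the number of conjugates, a stabiliser orbit** -/
theorem bound_K {s : Spor.Fi24} (hs : s ∈ C) {r c M : ℕ} (hr : r < 4096) (hM : M < 2 ^ 2 ^ 12) (hc : ac s r = c)
    (h : ∀ b, M.testBit b = true → ∃ g ∈ C, ac g r = r ∧ ac g c = b) :
    (cls R s).ncard * pc 12 M ≤ (cls C s).ncard := by
  classical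
  obtain ⟨S, hS, hScard, hmul⟩ := cls_mul hs
  rw [← hScard]
  refine le_trans ?_ (hmul)
  apply Nat.mul_le_mul_left
  rw [pc_eq _ _ hM]
  have h1 : ∀ b ∈ bits (2 ^ 12) M, ∃ g ∈ C, ac g r = r ∧ ac g c = b := fun b hb => h b (mem_bits.1 hb).2
  choose! g hg hgr hgc using h1
  refine Finset.card_le_card_of_injOn (fun b => fa (g b * s * (g b)⁻¹)) ?_ ?_
  · intro b hb
    exact Finset.mem_coe.2 (Finset.mem_image_of_mem _ ((hS _).2 ⟨g b, hg b hb, rfl⟩))
  · have key : ∀ b ∈ bits (2 ^ 12) M, ac (g b * s * (g b)⁻¹) r = b := by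
      intro b hb
      have h2 := ac_conj (C_z (hg b hb)) (C_z hs) hr
      rw [hgr b hb, hc, hgc b hb] at h2
      exact h2
    intro b hb b' hb' he
    rw [← key b hb, ← key b' hb']
    exact congrFun he ⟨r, hr⟩

/-- **the number of conjugates, pairs** -/
theorem bound_P {s : Spor.Fi24} (hs : s ∈ C) {r c : ℕ} (hr : r < 4096) (hA : InA s r) (hc : ac s r = c)
    {T : Finset (ℕ × ℕ)} (hT : ∀ p ∈ T, ∃ g ∈ C, ac g r = p.1 ∧ ac g c = p.2) : T.card ≤ (cls C s).ncard := by
  classical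
  obtain ⟨S, hS, hScard, hmul⟩ := cls_mul hs
  rw [← hScard]
  refine le_trans ?_ (hmul)
  choose! g hg hgr hgc using hT
  have hmaps : ∀ p ∈ T, fa (g p * s * (g p)⁻¹) ∈ S.image fa := fun p hp =>
    Finset.mem_image_of_mem _ ((hS _).2 ⟨g p, hg p hp, rfl⟩)
  refine Finset.card_le_mul_card_image_of_maps_to (f := fun p => fa (g p * s * (g p)⁻¹)) hmaps _ ?_
  intro φ hφ
  obtain ⟨t, ht, rfl⟩ := Finset.mem_image.1 hφ
  obtain ⟨k, hk, rfl⟩ := (hS t).1 ht
  have hkC : k * s * k⁻¹ ∈ C := C.mul_mem (C.mul_mem hk hs) (C.inv_mem hk)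
  rw [← sit.cls_conj hk]
  -- the fibre
  have hfib : ∀ p ∈ T.filter (fun p => fa (g p * s * (g p)⁻¹) = fa (k * s * k⁻¹)),
      InA (k * s * k⁻¹) p.1 ∧ ac (k * s * k⁻¹) p.1 = p.2 := by
    intro p hp
    obtain ⟨hpT, hpf⟩ := Finset.mem_filter.1 hp
    have e : ∀ d < 4096, ac (g p * s * (g p)⁻¹) d = ac (k * s * k⁻¹) d := fun d hd => congrFun hpf ⟨d, hd⟩
    have h1 := hA.conj (C_z hs) (C_z (hg p hpT))
    have hlt := h1.lt
    rw [hgr p hpT] at h1 hlt
    constructor
    · obtain ⟨d, hd, h2⟩ := h1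
      exact ⟨d, hd, by rw [← e d hd]; exact h2⟩
    · rw [← e _ hlt]
      have h2 := ac_conj (C_z (hg p hpT)) (C_z hs) hr
      rw [hgr p hpT, hc, hgc p hpT] at h2
      exact h2
  have h1 : (T.filter (fun p => fa (g p * s * (g p)⁻¹) = fa (k * s * k⁻¹))).card =
      ((T.filter (fun p => fa (g p * s * (g p)⁻¹) = fa (k * s * k⁻¹))).image Prod.fst).card := by
    rw [Finset.card_image_of_injOn]
    intro p hp p' hp' he
    have e1 := (hfib p hp).2
    have e2 := (hfib p' hp').2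
    have he' : p.1 = p'.1 := he
    exact Prod.ext he' (by rw [← e1, ← e2, he'])
  rw [h1]
  refine card_A hkC ?_
  intro a ha
  obtain ⟨p, hp, rfl⟩ := Finset.mem_image.1 ha
  exact (hfib p hp).1

/-- orbit of a stabiliser -/
theorem stab_orb {Ls : List (List ℕ)} {r : ℕ} (hr : r < 4096) (hfix : ∀ w ∈ Ls, wa w r = r) {M k N c0 : ℕ}
    (hc0 : c0 < 4096) (ho : orb (fun i a => wa (Ls.getD i []) a) M k N (2 ^ c0) = true) :
    ∀ b, M.testBit b = true → b < 4096 ∧ ∃ g ∈ E, ac g r = r ∧ ac g c0 = b := by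
  refine orb_spec (P := fun b => b < 4096 ∧ ∃ g ∈ E, ac g r = r ∧ ac g c0 = b) ?_ k N _ ho ?_
  · rintro i a ⟨ha, g, hg, h1, h2⟩
    have hw : wa (Ls.getD i []) r = r := by
      rcases Nat.lt_or_ge i Ls.length with hi | hi
      · rw [List.getD_eq_getElem _ _ hi]
        exact hfix _ (List.getElem_mem hi)
      · rw [List.getD_eq_default _ _ hi]
        rfl
    refine ⟨wa_lt _ ha, gwd y (Ls.getD i []) * g, E.mul_mem (gwd_E _) hg, ?_, ?_⟩
    · rw [ac_mul (E_z (gwd_E _)) (E_z hg), h1, ac_gwd _ hr, hw]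
    · rw [ac_mul (E_z (gwd_E _)) (E_z hg), h2, ac_gwd _ ha]
  · intro b hb
    rw [Nat.testBit_two_pow, decide_eq_true_eq] at hb
    subst hb
    exact ⟨hc0, 1, E.one_mem, ac_one hr, ac_one hc0⟩

theorem stab_orb' {Ls : List (List ℕ)} {r : ℕ} (hr : r < 4096) (hfix : ∀ w ∈ Ls, wa w r = r) {M k N c0 : ℕ}
    (hc0 : c0 < 4096) (ho : orb (fun i a => wa (Ls.getD i []) a) M k N (2 ^ c0) = true) {c : ℕ}
    (hc : M.testBit c = true) : ∀ b, M.testBit b = true → ∃ g ∈ E, ac g r = r ∧ ac g c = b := by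
  intro b hb
  obtain ⟨hclt, g, hg, h1, h2⟩ := stab_orb hr hfix hc0 ho c hc
  obtain ⟨-, g', hg', h3, h4⟩ := stab_orb hr hfix hc0 ho b hb
  refine ⟨g' * g⁻¹, E.mul_mem hg' (E.inv_mem hg), ?_, ?_⟩
  · rw [ac_mul (E_z hg') (inv_z (E_z hg)), ac_inv_eq (E_z hg) hr h1, h3]
  · rw [ac_mul (E_z hg') (inv_z (E_z hg)), ac_inv_eq (E_z hg) hc0 h2, h4]

/-- transitivity of `E` on the codes of a mask -/
theorem reach {M k N r : ℕ} (hr : r < 4096) (ho : orb ff M k N (2 ^ r) = true) :
    ∀ b, M.testBit b = true → b < 4096 ∧ ∃ g ∈ E, ac g r = b := by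
  refine orb_spec (P := fun b => b < 4096 ∧ ∃ g ∈ E, ac g r = b) ?_ k N _ ho ?_
  · rintro i a ⟨ha, g, hg, h1⟩
    refine ⟨ff_lt _ _, y (i / 6 % 6) * y (i % 6) * g, E.mul_mem (RQ.sys.kE i) hg, ?_⟩
    rw [ac_mul (E_z (RQ.sys.kE i)) (E_z hg), h1]
    exact ac_eq (ff_lt _ _) (RQ.sys.ffk i a)
  · intro b hb
    rw [Nat.testBit_two_pow, decide_eq_true_eq] at hb
    subst hb
    exact ⟨hr, 1, E.one_mem, ac_one hr⟩

/-- **the number of conjugates, pairs in an orbit** -/
theorem bound_pairs {s : Spor.Fi24} (hs : s ∈ C) {r c : ℕ} (hr : r < 4096) (hA : InA s r) (hc : ac s r = c)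
    {M k N M' : ℕ} (ho : orb ff M k N (2 ^ r) = true) (hM : M < 2 ^ 2 ^ 12) (hM' : M' < 2 ^ 2 ^ 12)
    (h : ∀ b, M'.testBit b = true → ∃ g ∈ E, ac g r = r ∧ ac g c = b) : pc 12 M * pc 12 M' ≤ (cls C s).ncard := by
  classical
  have h1 : ∀ a ∈ bits (2 ^ 12) M, ∃ g ∈ E, ac g r = a := fun a ha => (reach hr ho a (mem_bits.1 ha).2).2
  choose! t ht htr using h1
  have hinj : Set.InjOn (fun p : ℕ × ℕ => (p.1, ac (t p.1) p.2))
      ((bits (2 ^ 12) M ×ˢ bits (2 ^ 12) M' : Finset (ℕ × ℕ)) : Set (ℕ × ℕ)) := by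
    rintro ⟨a, b⟩ hp ⟨a', b'⟩ hp' he
    simp only [Finset.coe_product, Set.mem_prod, Finset.mem_coe] at hp hp'
    simp only [Prod.mk.injEq] at he
    obtain ⟨rfl, he⟩ := he
    rw [ac_inj (E_z (ht a hp.1)) (mem_bits.1 hp.2).1 (mem_bits.1 hp'.2).1 he]
  have h2 := Finset.card_image_of_injOn hinj
  rw [Finset.card_product, ← pc_eq _ _ hM, ← pc_eq _ _ hM'] at h2
  rw [← h2]
  refine bound_P hs hr hA hc ?_
  intro p hp
  obtain ⟨⟨a, b⟩, hab, rfl⟩ := Finset.mem_image.1 hp
  rw [Finset.mem_product] at hab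
  obtain ⟨g, hg, h3, h4⟩ := h b (mem_bits.1 hab.2).2
  refine ⟨t a * g, C.mul_mem (E_C (ht a hab.1)) (E_C hg), ?_, ?_⟩
  · rw [ac_mul (E_z (ht a hab.1)) (E_z hg), h3, htr a hab.1]
  · rw [ac_mul (E_z (ht a hab.1)) (E_z hg), h4]

theorem cls_conj_C {s g : Spor.Fi24} (hg : g ∈ C) : cls C (g * s * g⁻¹) = cls C s := by
  ext t
  constructor
  · rintro ⟨k, hk, rfl⟩
    exact ⟨k * g, C.mul_mem hk hg, by group⟩
  · rintro ⟨k, hk, rfl⟩
    exact ⟨k * g⁻¹, C.mul_mem hk (C.inv_mem hg), by group⟩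

theorem cls_inv_C (s : Spor.Fi24) : (cls C s⁻¹).ncard = (cls C s).ncard := by
  have h : cls C s⁻¹ = (fun t => t⁻¹) '' cls C s := by
    ext t
    constructor
    · rintro ⟨k, hk, rfl⟩
      exact ⟨_, ⟨k, hk, rfl⟩, by group⟩
    · rintro ⟨_, ⟨k, hk, rfl⟩, rfl⟩
      exact ⟨k, hk, by group⟩
  rw [h, Set.ncard_image_of_injective _ inv_injective]

end Cfsg.Agent.H29.TF
end

-- part: H29/TF/TwoB
section
/-!
# `Fi24'`: elements of order 3 commuting with a `2B` involution have many conjugates (helper29)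

`many` : for `s ∈ C = C_K(z)` of order 3, `15929 ≤ |s ^ C|`, or a conjugate of `s` or `s⁻¹` acts on `R/⟨z⟩` as the scalar `ω`.
-/

set_option autoImplicit false
set_option maxRecDepth 100000

namespace Cfsg.Agent.H29.TF

open Cfsg Cfsg.Spor Subgroup
open Cfsg.Agent.KFacts.FiTF Cfsg.Agent.KFacts.FiTF.Defs
open Cfsg.Agent.KFacts.FiTF.Orb Cfsg.Agent.KFacts.FiTF.Lin
open Cfsg.Agent.KFacts.FiTF.OrbSys
open Cfsg.Agent.KFacts.Codes
open Cfsg.Agent.H98.Ex2 Cfsg.Agent.H98.Ex2.FiTwoB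
open Cfsg.Agent.Lib.PermNetOrbit
open Cfsg.Agent.H29.TF.Dat

theorem of64 {P : ℕ → Prop} (h : ∀ a < 64, ∀ b < 64, P (64 * a + b)) {c : ℕ} (hc : c < 4096) : P c := by
  have h1 := h (c / 64) (by omega) (c % 64) (Nat.mod_lt _ (by norm_num))
  rwa [Nat.div_add_mod] at h1

/-! ### `[R, s]` -/

theorem InA.xor {s : Spor.Fi24} (hs : s * z = z * s) {a b : ℕ} (ha : InA s a) (hb : InA s b) : InA s (a ^^^ b) := by
  obtain ⟨c, hc, rfl⟩ := ha
  obtain ⟨d, hd, rfl⟩ := hb
  refine ⟨c ^^^ d, Nat.xor_lt_two_pow (n := 12) hc hd, ?_⟩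
  rw [ac_xor hs]
  simp only [Nat.xor_assoc, Nat.xor_left_comm]

theorem InA.om {s : Spor.Fi24} (hs : Cm s) {a : ℕ} (ha : InA s a) : InA s (om a) := by
  obtain ⟨c, hc, rfl⟩ := ha
  exact ⟨Dat.om c, om_lt _, by rw [hs.2 c hc, om_xor]⟩

theorem ac_cube {s : Spor.Fi24} (hs : s * z = z * s) (h3 : s ^ 3 = 1) {c : ℕ} (hc : c < 4096) :
    ac s (ac s (ac s c)) = c := by
  rw [← ac_mul hs hs, ← ac_mul (mul_z hs hs) hs]
  have e : s * s * s = 1 := by rw [← h3]; simp only [pow_succ, pow_zero, one_mul]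
  rw [e, ac_one hc]

theorem InA.sum {s : Spor.Fi24} (hs : s * z = z * s) (h3 : s ^ 3 = 1) {a : ℕ} (ha : InA s a) :
    a ^^^ ac s a = ac s (ac s a) := by
  obtain ⟨c, hc, rfl⟩ := ha
  rw [ac_xor hs, ac_xor hs, ac_cube hs h3 hc]
  calc c ^^^ ac s c ^^^ (ac s c ^^^ ac s (ac s c)) = (ac s c ^^^ ac s c) ^^^ (c ^^^ ac s (ac s c)) := by
        simp only [Nat.xor_assoc, Nat.xor_left_comm]
    _ = _ := by rw [Nat.xor_self, Nat.zero_xor, Nat.xor_comm]

theorem comm_ez {t : Spor.Fi24} (ht : t * z = z * t) (c : ℕ) :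
    Ez z (cod 12 z x c * t * (cod 12 z x c)⁻¹ * t⁻¹) (cod 12 z x (c ^^^ ac t c)) := by
  have zz := frame.zz
  have h1 : Ez z (t * cod 12 z x c * t⁻¹) (cod 12 z x (ac t c)) := ac_spec ht _
  have hsq : ∀ q ∈ R, Ez z q⁻¹ q := by
    intro q hq
    rcases frame.sq q hq with h | h
    · left; exact inv_eq_of_mul_eq_one_left h
    · right
      apply inv_eq_of_mul_eq_one_left
      rw [mul_assoc, h, frame.zz]
  have h2 : Ez z (t * (cod 12 z x c)⁻¹ * t⁻¹) (cod 12 z x (ac t c)) := by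
    have e : t * (cod 12 z x c)⁻¹ * t⁻¹ = (t * cod 12 z x c * t⁻¹)⁻¹ := by group
    rw [e]
    exact (hsq _ (norm ht (cod_mem _))).trans zz h1
  have h3 : Ez z (cod 12 z x c * (t * (cod 12 z x c)⁻¹ * t⁻¹)) (cod 12 z x (c ^^^ ac t c)) :=
    ((Ez.refl _).mul zz h2 (cod_comm_z RQ.sys.rel _)).trans zz (ez_mul RQ.sys.rel Om.tri _ _)
  have e : cod 12 z x c * t * (cod 12 z x c)⁻¹ * t⁻¹ = cod 12 z x c * (t * (cod 12 z x c)⁻¹ * t⁻¹) := by group
  rw [e]
  exact h3

theorem exists_A {s : Spor.Fi24} (hs : s ∈ C) (h3 : s ^ 3 = 1) (h1 : s ≠ 1) : ∃ a, InA s a ∧ M2.testBit a = true := by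
  obtain ⟨u, ⟨huR, huu⟩, q, hq, hu⟩ := sit.exists_four hs h3 (moves h3 h1)
  have zz := frame.zz
  have hsz := C_z hs
  set c := Lin.pi 12 z x q with hc
  have hclt : c < 4096 := RQ.sys.dt.pi_lt _
  have hqc : Ez z q (cod 12 z x c) := RQ.sys.ez_pi hq
  have h2 : Ez z u (cod 12 z x (c ^^^ ac s c)) := by
    have e1 : q * s * q⁻¹ * s⁻¹ = cod 12 z x c * s * (cod 12 z x c)⁻¹ * s⁻¹ := by
      rcases hqc with h | h
      · rw [← h]
      · rw [h]
        have h4 : (z * cod 12 z x c) * s * (z * cod 12 z x c)⁻¹ = cod 12 z x c * s * (cod 12 z x c)⁻¹ := by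
          have h5 := cod_comm_z RQ.sys.rel (x := x) (z := z) c
          calc (z * cod 12 z x c) * s * (z * cod 12 z x c)⁻¹ = (z * cod 12 z x c) * s * (cod 12 z x c)⁻¹ * z⁻¹ := by group
            _ = (cod 12 z x c * z) * s * (cod 12 z x c)⁻¹ * z⁻¹ := by rw [h5]
            _ = cod 12 z x c * (s * z) * (cod 12 z x c)⁻¹ * z⁻¹ := by rw [hsz]; group
            _ = cod 12 z x c * s * (z * (cod 12 z x c)⁻¹) * z⁻¹ := by group
            _ = cod 12 z x c * s * ((cod 12 z x c)⁻¹ * z) * z⁻¹ := by rw [inv_z h5]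
            _ = _ := by group
        rw [h4]
    rcases hu with h | h
    · rw [h, e1]; exact comm_ez hsz c
    · rw [h, e1]
      have h4 : Ez z (z * (cod 12 z x c * s * (cod 12 z x c)⁻¹ * s⁻¹)) (cod 12 z x c * s * (cod 12 z x c)⁻¹ * s⁻¹) :=
        Or.inr rfl
      exact h4.trans zz (comm_ez hsz c)
  refine ⟨_, ⟨c, hclt, rfl⟩, m2_of_sq (Nat.xor_lt_two_pow (n := 12) hclt (ac_lt _ _)) ?_⟩
  rw [← ez_sq h2 (cod_z _)]
  exact huu

/-! ### Case 1 -/

theorem om6 : om 6 = 11 ∧ om 11 = 13 ∧ om 13 = 6 := by decide +kernel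

theorem suborb6 {c : ℕ} (hc : c < 4096) (h1 : M2.testBit c = true) (h2 : M2.testBit (6 ^^^ c) = true) (h11 : c ≠ 11)
    (h13 : c ≠ 13) : ∃ M, M < 2 ^ 2 ^ 12 ∧ 90 ≤ pc 12 M ∧
      ∀ b, M.testBit b = true → ∃ g ∈ E, ac g 6 = 6 ∧ ac g c = b := by
  have h := of64 (P := fun c => ckA c = true) ckA_aux hc
  simp only [ckA, h1, h2, Bool.and_self, Bool.not_true, Bool.false_or, Bool.or_eq_true] at h
  rcases h with h | h | h | h | h | h
  · exact absurd (Nat.eq_of_beq_eq_true h) h11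
  · exact absurd (Nat.eq_of_beq_eq_true h) h13
  · exact ⟨MA26, ltA26, by rw [pcA26]; norm_num, stab_orb' (by norm_num) fix6 (by norm_num) orbA26 h⟩
  · exact ⟨MA28, ltA28, by rw [pcA28]; norm_num, stab_orb' (by norm_num) fix6 (by norm_num) orbA28 h⟩
  · exact ⟨MA75, ltA75, by rw [pcA75], stab_orb' (by norm_num) fix6 (by norm_num) orbA75 h⟩
  · exact ⟨MA77, ltA77, by rw [pcA77], stab_orb' (by norm_num) fix6 (by norm_num) orbA77 h⟩

theorem case1 {s : Spor.Fi24} (hs : s ∈ E) (h3 : s ^ 3 = 1) {a : ℕ} (ha : InA s a) (hm : M2.testBit a = true)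
    (h1 : ac s a ≠ om a) (h2 : ac s a ≠ om (om a)) : 181440 ≤ (cls C s).ncard := by
  have hsz := E_z hs
  have halt := ha.lt
  obtain ⟨-, g, hg, hga⟩ := reach (by norm_num) orb2 a hm
  have hk : g⁻¹ ∈ E := E.inv_mem hg
  have hkz := E_z hk
  have hk6 : ac g⁻¹ a = 6 := ac_inv_eq (E_z hg) (by norm_num) hga
  set k := g⁻¹ with hkd
  have hA : InA (k * s * k⁻¹) 6 := by rw [← hk6]; exact ha.conj hsz hkz
  have hc : ac (k * s * k⁻¹) 6 = ac k (ac s a) := by rw [← hk6]; exact ac_conj hkz hsz halt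
  have hm1 : M2.testBit (ac k (ac s a)) = true := ac_M2 hkz (ac_M2 hsz hm)
  have hm2 : M2.testBit (6 ^^^ ac k (ac s a)) = true := by
    have e : 6 ^^^ ac k (ac s a) = ac k (ac s (ac s a)) := by
      rw [← ha.sum hsz h3, ac_xor hkz, hk6]
    rw [e]
    exact ac_M2 hkz (ac_M2 hsz (ac_M2 hsz hm))
  have hCk := Cm.E hk
  have n11 : ac k (ac s a) ≠ 11 := by
    intro h
    apply h1
    apply ac_inj hkz (ac_lt _ _) (om_lt _)
    rw [h, hCk.2 a halt, hk6, om6.1]
  have n13 : ac k (ac s a) ≠ 13 := by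
    intro h
    apply h2
    apply ac_inj hkz (ac_lt _ _) (om_lt _)
    rw [h, hCk.2 _ (om_lt _), hCk.2 a halt, hk6, om6.1, om6.2.1]
  obtain ⟨M, hM, hp, hst⟩ := suborb6 (ac_lt _ _) hm1 hm2 n11 n13
  have hsC : k * s * k⁻¹ ∈ C := E_C (E.mul_mem (E.mul_mem hk hs) (E.inv_mem hk))
  have h4 := bound_pairs hsC (by norm_num) hA hc orb2 lt2 hM hst
  rw [cls_conj_C (E_C hk), Dat.pcM2] at h4
  have h5 : 2016 * 90 ≤ 2016 * pc 12 M := Nat.mul_le_mul_left _ hp
  omega

/-! ### The frame -/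

theorem om_OM {c : ℕ} (h : Om.OM.testBit c = true) : Om.OM.testBit (om c) = true := by
  have h1 := of64 (P := fun c => ckOM c = true) om_OM_aux (RQ.om_lt h)
  simpa only [ckOM, h, Bool.not_true, Bool.false_or] using h1

theorem F15_of {c : ℕ} (hc : c < 4096) (h0 : Om.OM.testBit (6 ^^^ c) = true) (h1 : Om.OM.testBit (6 ^^^ om c) = true)
    (h2 : Om.OM.testBit (6 ^^^ om (om c)) = true) : c ∈ F15 := by
  have h := of64 (P := fun c => ckF c = true) ckF_aux hc
  simp only [ckF, h0, h1, h2, Bool.and_self, Bool.not_true, Bool.false_or] at h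
  exact List.mem_of_elem_eq_true h

theorem F15_lt : ∀ w ∈ F15, w < 4096 := by decide

theorem F15_fix {s : Spor.Fi24} (hs : Cm s) (h6 : ac s 6 = 11) : ∀ w ∈ F15, ac s w ∈ F15 := by
  have key : ∀ w ∈ F15, Om.OM.testBit (6 ^^^ om (om (ac s w))) = true := by
    intro w hw
    have h1 := ac_OM hs.1 (F15_OM w hw).1
    rw [ac_xor hs.1, h6] at h1
    have h2 := om_OM (om_OM h1)
    rw [om_xor, om_xor, om6.2.1, om6.2.2] at h2
    exact h2
  intro w hw
  have hlt := F15_lt w hw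
  have hw1 := (F15_OM w hw).2
  have hw2 := (F15_OM _ hw1).2
  have e1 := key _ hw1
  have e2 := key _ hw2
  rw [hs.2 w hlt, om3 (ac_lt _ _)] at e1
  rw [hs.2 _ (om_lt _), hs.2 w hlt, om3 (om_lt _)] at e2
  exact F15_of (ac_lt _ _) e1 e2 (key w hw)

theorem mlt_spec {a w : ℕ} (h : mlt a w = true) : ∃ e : Fin 3, w = omp e a := by
  simp only [mlt, Bool.or_eq_true] at h
  rcases h with h | h | h
  · exact ⟨0, Nat.eq_of_beq_eq_true h⟩
  · exact ⟨1, Nat.eq_of_beq_eq_true h⟩
  · exact ⟨2, Nat.eq_of_beq_eq_true h⟩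

theorem InA6 {s : Spor.Fi24} (hs : Cm s) (h6 : ac s 6 = 11) : InA s 6 := by
  refine ⟨11, by norm_num, ?_⟩
  have h1 : ac s 11 = 13 := by
    have h2 := hs.2 6 (by norm_num)
    rw [om6.1, h6, om6.2.1] at h2
    exact h2
  rw [h1]
  decide

/-- `s` multiplies the vectors of the frame by scalars -/
theorem frame_mlt {s : Spor.Fi24} (hs : Cm s) (h6 : ac s 6 = 11)
    (H : ∀ a, InA s a → M2.testBit a = true → ac s a = om a ∨ ac s a = om (om a)) {i : ℕ} (hi : i < 5) :
    mlt (v i) (ac s (v i)) = true := by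
  have hv := v_mem i hi
  have hw := F15_fix hs h6 _ hv
  have hw' := F15_fix hs h6 _ hw
  have h := ckG_all i hi _ hw _ hw'
  rw [ckG, Bool.or_eq_true] at h
  rcases h with h | h
  · exact h
  exfalso
  simp only [Bool.and_eq_true, Bool.not_eq_true'] at h
  obtain ⟨h1, h2, h3⟩ := h
  have hA : InA s (6 ^^^ (v i ^^^ ac s (v i))) := (InA6 hs h6).xor hs.1 ⟨v i, F15_lt _ hv, rfl⟩
  have h4 := H _ hA h1
  rw [ac_xor hs.1, ac_xor hs.1, h6] at h4
  rcases h4 with h4 | h4
  · rw [h4, Nat.beq_refl] at h2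
    exact absurd h2 (by decide)
  · rw [h4, Nat.beq_refl] at h3
    exact absurd h3 (by decide)

theorem ac_omp {s : Spor.Fi24} (hs : Cm s) (n : ℕ) {w : ℕ} (hw : w < 4096) : ac s (omp n w) = omp n (ac s w) ∧ omp n w < 4096 := by
  induction n with
  | zero => exact ⟨rfl, hw⟩
  | succ n ih =>
    refine ⟨?_, om_lt _⟩
    show ac s (om (omp n w)) = om (omp n (ac s w))
    rw [hs.2 _ ih.2, ih.1]

theorem ac_cf {s : Spor.Fi24} (hs : Cm s) (k : ℕ) {w : ℕ} (hw : w < 4096) : ac s (cf k w) = cf k (ac s w) := by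
  cases k with
  | zero => exact ac_zero
  | succ k => exact (ac_omp hs k hw).1

theorem InA.omp {s : Spor.Fi24} (hs : Cm s) (n : ℕ) {a : ℕ} (ha : InA s a) : InA s (omp n a) := by
  induction n with
  | zero => exact ha
  | succ n ih => exact ih.om hs

theorem InA.zero {s : Spor.Fi24} : InA s 0 := ⟨0, by norm_num, by rw [ac_zero]; rfl⟩

theorem InA.cf {s : Spor.Fi24} (hs : Cm s) (k : ℕ) {a : ℕ} (ha : InA s a) : InA s (cf k a) := by
  cases k with
  | zero => exact InA.zero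
  | succ k => exact ha.omp hs k

/-- `v i` lies in `[R, s]` if it is multiplied by a nontrivial scalar -/
theorem InA_v {s : Spor.Fi24} (hs : Cm s) {w : ℕ} (hw : w < 4096) (h : ac s w = om w ∨ ac s w = om (om w)) : InA s w := by
  rcases h with h | h
  · have h1 : InA s (om (om w)) := ⟨w, hw, by rw [h, om2_eq hw, Nat.xor_comm]⟩
    have h2 := h1.om hs
    rwa [om3 hw] at h2
  · have h1 : InA s (om w) := ⟨w, hw, by rw [h, om2_eq hw, Nat.xor_comm (om w), ← Nat.xor_assoc, Nat.xor_self, Nat.zero_xor]⟩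
    have h2 := (h1.om hs).om hs
    rwa [om3 hw] at h2

theorem combi : ∀ a b c d e : Fin 3, a ≠ 2 → b ≠ 2 → c ≠ 2 → d ≠ 2 → e ≠ 2 → (1 + a.1 + b.1 + c.1 + d.1 + e.1) % 3 = 0 →
    (a = 1 ∧ b = 1 ∧ c = 1 ∧ d = 1 ∧ e = 1) ∨ ∃ i j : Fin 5, i < j ∧ a.1 = eij i j 1 ∧ b.1 = eij i j 2 ∧ c.1 = eij i j 3 ∧
      d.1 = eij i j 4 ∧ e.1 = eij i j 5 := by decide +kernel

theorem fb_spec : fb 0 = 6 ∧ fb 1 = om 6 ∧ (∀ i < 5, fb (2 * i + 2) = v i ∧ fb (2 * i + 3) = om (v i)) := by decide +kernel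

theorem ac_fbs {s : Spor.Fi24} (hs : s * z = z * s) {f f' : ℕ → ℕ} {n : ℕ} (h : ∀ i < n, ac s (f i) = f' i) (b : ℕ) :
    ac s (fbs f b n) = fbs f' b n := by
  induction n with
  | zero => exact ac_zero
  | succ n ih =>
    show ac s ((b / 2 ^ n % 2 * f n) ^^^ fbs f b n) = (b / 2 ^ n % 2 * f' n) ^^^ fbs f' b n
    rw [ac_xor hs, ih fun i hi => h i (by omega)]
    rcases Nat.mod_two_eq_zero_or_one (b / 2 ^ n) with h1 | h1
    · rw [h1, zero_mul, zero_mul, ac_zero]
    · rw [h1, one_mul, one_mul, h n (by omega)]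

/-- `s` acts as `ω` -/
def IsOm (s : Spor.Fi24) : Prop := ∀ c < 4096, ac s c = om c

theorem isOm_of {s : Spor.Fi24} (hs : Cm s) (h6 : ac s 6 = om 6) (hv : ∀ i < 5, ac s (v i) = om (v i)) : IsOm s := by
  have hfb : ∀ i < 12, ac s (fb i) = om (fb i) := by
    obtain ⟨f0, f1, f2⟩ := fb_spec
    intro i hi
    by_cases h0 : i = 0
    · rw [h0, f0, h6]
    by_cases h1 : i = 1
    · rw [h1, f1, hs.2 6 (by norm_num), h6]
    have h2 := f2 ((i - 2) / 2) (by omega)
    have h3 := hv ((i - 2) / 2) (by omega)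
    have hlt := F15_lt _ (v_mem ((i - 2) / 2) (by omega))
    rcases Nat.mod_two_eq_zero_or_one i with h4 | h4
    · have e : i = 2 * ((i - 2) / 2) + 2 := by omega
      rw [e, h2.1, h3]
    · have e : i = 2 * ((i - 2) / 2) + 3 := by omega
      rw [e, h2.2, hs.2 _ hlt, h3]
  intro c hc
  refine add_ext' (f := ac s) (g := om) (ac_xor hs.1) om_xor ?_ hc
  intro j hj
  obtain ⟨e1, e2⟩ := fbs_ex j hj
  rw [← e2]
  conv_lhs => rw [← e1]
  exact ac_fbs hs.1 hfb _

/-! ### Case 2 -/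

theorem case2 {s : Spor.Fi24} (hs : s ∈ E) (h6 : ac s 6 = 11)
    (H : ∀ a, InA s a → M2.testBit a = true → ac s a = om a ∨ ac s a = om (om a)) :
    15929 ≤ (cls C s).ncard ∨ IsOm s := by
  have hC := Cm.E hs
  have hsz := E_z hs
  have hsC : s ∈ C := E_C hs
  have he : ∀ i < 5, ∃ e : Fin 3, ac s (v i) = omp e (v i) := fun i hi => mlt_spec (frame_mlt hC h6 H hi)
  choose! e he using he
  have hvlt : ∀ i < 5, v i < 4096 := fun i hi => F15_lt _ (v_mem i hi)
  -- the sum of the exponents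
  have hsum : (1 + (e 0).1 + (e 1).1 + (e 2).1 + (e 3).1 + (e 4).1) % 3 = 0 := by
    apply rt_sum
    have h1 := ac_OM hsz root
    rw [ac_xor hsz, ac_xor hsz, ac_xor hsz, ac_xor hsz, ac_xor hsz, h6, he 0 (by norm_num), he 1 (by norm_num),
      he 2 (by norm_num), he 3 (by norm_num), he 4 (by norm_num)] at h1
    exact h1
  by_cases hα : ∃ i < 5, e i = 2
  · -- a root pair
    left
    obtain ⟨i, hi, hei⟩ := hα
    obtain ⟨hr, hg1, hg2⟩ := gA_spec i hi
    have hvi : ac s (v i) = om (om (v i)) := by rw [he i hi, hei]; rfl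
    have hAu : InA s (6 ^^^ v i) := (InA6 hC h6).xor hsz (InA_v hC (hvlt i hi) (Or.inr hvi))
    have hult : 6 ^^^ v i < 4096 := hAu.lt
    have hsu : ac s (6 ^^^ v i) = 11 ^^^ om (om (v i)) := by rw [ac_xor hsz, h6, hvi]
    set g := gwd y (gA i) with hg
    have hgE : g ∈ E := gwd_E _
    have hgz := E_z hgE
    have hgu : ac g (6 ^^^ v i) = 1 := by rw [ac_gwd _ hult, hg1]
    have hA : InA (g * s * g⁻¹) 1 := by rw [← hgu]; exact hAu.conj hsz hgz
    have hc : ac (g * s * g⁻¹) 1 = wa (gA i) (11 ^^^ om (om (v i))) := by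
      have h1 := ac_conj hgz hsz hult
      rw [hgu, hsu] at h1
      rw [h1, ac_gwd]
      exact Nat.xor_lt_two_pow (n := 12) (by norm_num) (om_lt _)
    have hsC' : g * s * g⁻¹ ∈ C := C.mul_mem (C.mul_mem (E_C hgE) hsC) (C.inv_mem (E_C hgE))
    have h1 := bound_pairs hsC' (by norm_num) hA hc orb1 lt1 ltB4
      (stab_orb' (by norm_num) fixC1 (by norm_num) orbB4 hg2)
    rw [cls_conj_C (E_C hgE), pc1, pcB4] at h1
    omega
  · push Not at hα
    rcases combi _ _ _ _ _ (hα 0 (by norm_num)) (hα 1 (by norm_num)) (hα 2 (by norm_num)) (hα 3 (by norm_num))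
      (hα 4 (by norm_num)) hsum with h | ⟨i, j, hij, f0, f1, f2, f3, f4⟩
    · right
      obtain ⟨a0, a1, a2, a3, a4⟩ := h
      refine isOm_of hC (by rw [h6, om6.1]) ?_
      intro i hi
      have e1 : ∀ i < 5, e i = 1 := by
        intro i hi
        interval_cases i
        · exact a0
        · exact a1
        · exact a2
        · exact a3
        · exact a4
      rw [he i hi, e1 i hi]; rfl
    · left
      have hi := i.2
      have hj := j.2
      have hij' : i.1 < j.1 := hij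
      obtain ⟨hg1, hg2⟩ := gB_spec i hi j hj hij'
      set ks := kB i.1 j.1 with hks
      have h6' : ac s 6 = omp (eij i j 0) 6 := by
        rw [h6]
        show 11 = omp (eij i j 0) 6
        have : eij i j 0 = 1 := by simp [eij]
        rw [this]
        exact om6.1.symm
      have hcomb : ac s (comb (fun _ => 0) ks) = comb (eij i j) ks := by
        have hz : ∀ w : ℕ, omp 0 w = w := fun _ => rfl
        unfold comb
        simp only [hz]
        rw [ac_xor hsz, ac_xor hsz, ac_xor hsz, ac_xor hsz, ac_xor hsz, ac_cf hC _ (by norm_num),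
          ac_cf hC _ (hvlt 0 (by norm_num)), ac_cf hC _ (hvlt 1 (by norm_num)), ac_cf hC _ (hvlt 2 (by norm_num)),
          ac_cf hC _ (hvlt 3 (by norm_num)), ac_cf hC _ (hvlt 4 (by norm_num)), h6', he 0 (by norm_num),
          he 1 (by norm_num), he 2 (by norm_num), he 3 (by norm_num), he 4 (by norm_num), f0, f1, f2, f3, f4]
      have hclt : comb (fun _ => 0) ks < 4096 := by
        have hcf : ∀ k w, w < 4096 → cf k w < 4096 := by
          intro k w hw
          cases k with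
          | zero => exact (by norm_num : (0 : ℕ) < 4096)
          | succ k => exact (ac_omp hC k hw).2
        have hx : ∀ a b : ℕ, a < 4096 → b < 4096 → a ^^^ b < 4096 := fun a b ha hb => Nat.xor_lt_two_pow (n := 12) ha hb
        unfold comb
        exact hx _ _ (hcf _ _ (by show 6 < 4096; norm_num)) (hx _ _ (hcf _ _ (hvlt 0 (by norm_num))) (hx _ _ (hcf _ _ (hvlt 1 (by norm_num)))
          (hx _ _ (hcf _ _ (hvlt 2 (by norm_num))) (hx _ _ (hcf _ _ (hvlt 3 (by norm_num))) (hcf _ _ (hvlt 4 (by norm_num)))))))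
      set g := gwd y (gB i.1 j.1) with hg
      have hgE : g ∈ E := gwd_E _
      have hgz := E_z hgE
      have hg17 : ac g (comb (fun _ => 0) ks) = 17 := by rw [ac_gwd _ hclt, hg1]
      have hsC' : g * s * g⁻¹ ∈ C := C.mul_mem (C.mul_mem (E_C hgE) hsC) (C.inv_mem (E_C hgE))
      have hc : ac (g * s * g⁻¹) 17 = wa (gB i.1 j.1) (comb (eij i j) ks) := by
        have h1 := ac_conj hgz hsz hclt
        rw [hg17, hcomb] at h1
        rw [h1, ac_gwd]
        rw [← hcomb]
        exact ac_lt _ _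
      have h1 := bound_K hsC' (by norm_num) ltC193 hc (fun b hb => by
        obtain ⟨k, hk, h2, h3⟩ := stab_orb' (by norm_num) fix17 (by norm_num) orbC193 hg2 b hb
        exact ⟨k, E_C hk, h2, h3⟩)
      rw [cls_conj_C (E_C hgE), sit.cls_conj (E_C hgE), pcC193] at h1
      -- `|s ^ R| ≥ 64`
      have hei : ∀ k < 5, (e k).1 = eij i j (k + 1) := by
        intro k hk
        interval_cases k
        · exact f0
        · exact f1
        · exact f2
        · exact f3
        · exact f4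
      have hvi : InA s (v i) := by
        apply InA_v hC (hvlt i hi)
        left
        rw [he i hi, hei i hi]
        have : eij i j (i + 1) = 1 := by simp [eij]
        rw [this]; rfl
      have hvj : InA s (v j) := by
        apply InA_v hC (hvlt j hj)
        left
        rw [he j hj, hei j hj]
        have : eij i j (j + 1) = 1 := by simp [eij]
        rw [this]; rfl
      have h2 : (ls i j).toFinset.card ≤ (cls R s).ncard := by
        refine card_A hsC ?_
        intro a ha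
        rw [List.mem_toFinset, ls, List.mem_map] at ha
        obtain ⟨n, -, rfl⟩ := ha
        exact ((InA6 hC h6).cf hC _).xor hsz ((hvi.cf hC _).xor hsz (hvj.cf hC _))
      rw [List.toFinset_card_of_nodup (ls_nodup i hi j hj hij')] at h2
      have h3 : (ls i j).length = 64 := by rw [ls, List.length_map, List.length_range]
      rw [h3] at h2
      have h4 : 64 * 320 ≤ (cls R s).ncard * 320 := Nat.mul_le_mul_right _ h2
      omega

/-- elements of odd order of `C` lie in `E` -/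
theorem mem_E {s : Spor.Fi24} (hs : s ∈ C) (h3 : s ^ 3 = 1) : s ∈ E := by
  have h1 : E ≤ C := fun g hg => E_C hg
  have h2 : E.relIndex C * Nat.card ↥E = Nat.card ↥C := by
    rw [Subgroup.relIndex, ← Nat.card_congr (Subgroup.subgroupOfEquivOfLe h1).toEquiv, Subgroup.index_mul_card]
  have h3' := RQ.sys.card_E
  rw [card_C] at h2
  have hle : E.relIndex C ≤ 2 := by
    by_contra h
    push Not at h
    have h4 : 3 * (9797760 * 8192) ≤ E.relIndex C * Nat.card ↥E := Nat.mul_le_mul h h3'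
    omega
  have hpos : 0 < E.relIndex C := by
    rcases Nat.eq_zero_or_pos (E.relIndex C) with h | h
    · rw [h, zero_mul] at h2; omega
    · exact h
  have h12 : E.relIndex C = 1 ∨ E.relIndex C = 2 := by omega
  rcases h12 with h | h
  · exact (Subgroup.relIndex_eq_one.1 h) hs
  · have h4 : (E.subgroupOf C).index = 2 := h
    have h5 := Subgroup.mul_self_mem_of_index_two h4 ⟨s, hs⟩
    have h6 : s * s ∈ E := h5
    have e : s = (s * s) * (s * s) := by
      calc s = s ^ 3 * s := by rw [h3, one_mul]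
        _ = (s * s) * (s * s) := by simp only [pow_succ, pow_zero, one_mul]; group
    rw [e]
    exact E.mul_mem h6 h6

/-- **Many conjugates.** -/
theorem many {s : Spor.Fi24} (hs : s ∈ C) (h3 : s ^ 3 = 1) (h1 : s ≠ 1) :
    15929 ≤ (cls C s).ncard ∨ ∃ g ∈ C, IsOm (g * s * g⁻¹) ∨ IsOm (g * s⁻¹ * g⁻¹) := by
  have hE := mem_E hs h3
  have hsz := C_z hs
  by_cases H : ∀ a, InA s a → M2.testBit a = true → ac s a = om a ∨ ac s a = om (om a)
  · obtain ⟨a, ha, hm⟩ := exists_A hs h3 h1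
    have halt := ha.lt
    obtain ⟨-, g, hg, hga⟩ := reach (by norm_num) orb2 a hm
    have hk : g⁻¹ ∈ E := E.inv_mem hg
    have hkz := E_z hk
    have hk6 : ac g⁻¹ a = 6 := ac_inv_eq (E_z hg) (by norm_num) hga
    have hCk := Cm.E hk
    set k := g⁻¹ with hkd
    -- transport of the hypothesis
    have HT : ∀ t ∈ E, (∀ a, InA t a → M2.testBit a = true → ac t a = om a ∨ ac t a = om (om a)) →
        ∀ a, InA (k * t * k⁻¹) a → M2.testBit a = true → ac (k * t * k⁻¹) a = om a ∨ ac (k * t * k⁻¹) a = om (om a) := by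
      intro t ht HH b hb hbm
      have htz := E_z ht
      have hkt : k * t * k⁻¹ ∈ E := E.mul_mem (E.mul_mem hk ht) (E.inv_mem hk)
      have hb' := hb.conj (E_z hkt) (inv_z hkz)
      have e : k⁻¹ * (k * t * k⁻¹) * k⁻¹⁻¹ = t := by group
      rw [e] at hb'
      have hblt := hb.lt
      have h4 := HH _ hb' (ac_M2 (inv_z hkz) hbm)
      have e2 : ac (k * t * k⁻¹) b = ac k (ac t (ac k⁻¹ b)) := by
        rw [ac_mul (mul_z hkz htz) (inv_z hkz), ac_mul hkz htz]
      rw [e2]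
      rcases h4 with h4 | h4
      · left
        rw [h4, hCk.2 _ (ac_lt _ _), ac_inv' hkz hblt]
      · right
        rw [h4, hCk.2 _ (om_lt _), hCk.2 _ (ac_lt _ _), ac_inv' hkz hblt]
    have hsi : s⁻¹ ∈ E := E.inv_mem hE
    have hCs := Cm.E hE
    have hcub := @ac_cube s hsz h3
    have hinv : ∀ c < 4096, ac s⁻¹ c = ac s (ac s c) := by
      intro c hc
      exact ac_inv_eq hsz (ac_lt _ _) (hcub hc)
    rcases H a ha hm with h4 | h4
    · have h5 : ac (k * s * k⁻¹) 6 = 11 := by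
        have h6 := ac_conj hkz hsz halt
        rw [hk6, h4, hCk.2 a halt, hk6, om6.1] at h6
        exact h6
      have hkt : k * s * k⁻¹ ∈ E := E.mul_mem (E.mul_mem hk hE) (E.inv_mem hk)
      rcases case2 hkt h5 (HT s hE H) with h6 | h6
      · left
        rwa [cls_conj_C (E_C hk)] at h6
      · exact Or.inr ⟨k, E_C hk, Or.inl h6⟩
    · -- the inverse
      have h4' : ac s⁻¹ a = om a := by
        rw [hinv a halt, h4, hCs.2 _ (om_lt _), hCs.2 a halt, h4]
        rw [om3 (om_lt _)]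
      have H' : ∀ a, InA s⁻¹ a → M2.testBit a = true → ac s⁻¹ a = om a ∨ ac s⁻¹ a = om (om a) := by
        rintro b ⟨c, hc, rfl⟩ hbm
        have hAb : InA s (c ^^^ ac s⁻¹ c) := by
          refine ⟨ac s⁻¹ c, ac_lt _ _, ?_⟩
          rw [ac_inv' hsz hc, Nat.xor_comm]
        have hblt := hAb.lt
        rw [hinv _ hblt]
        rcases H _ hAb hbm with h5 | h5
        · right
          rw [h5, hCs.2 _ hblt, h5]
        · left
          rw [h5, hCs.2 _ (om_lt _), hCs.2 _ hblt, h5, om3 (om_lt _)]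
      have h5 : ac (k * s⁻¹ * k⁻¹) 6 = 11 := by
        have h6 := ac_conj hkz (inv_z hsz) halt
        rw [hk6, h4', hCk.2 a halt, hk6, om6.1] at h6
        exact h6
      have hkt : k * s⁻¹ * k⁻¹ ∈ E := E.mul_mem (E.mul_mem hk hsi) (E.inv_mem hk)
      rcases case2 hkt h5 (HT _ hsi H') with h6 | h6
      · left
        rw [cls_conj_C (E_C hk), cls_inv_C] at h6
        exact h6
      · exact Or.inr ⟨k, E_C hk, Or.inr h6⟩
  · left
    push Not at H
    obtain ⟨a, ha, hm, h4, h5⟩ := H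
    have h6 := case1 hE h3 ha hm h4 h5
    omega

end Cfsg.Agent.H29.TF
end

-- part: H611/QF/Frame
section
/-!
# `3.Fi24'`: the frame of the row `Fi24'` (helper611, for S2491, S2492)

* `Cls i s` : `s` is conjugate in `Fi24` to `X i` or to its inverse (`H842.ThreeCl.X`, `H842.ThreeCl.all`);
* `cases` : the case split for a predicate `P` on `Fi24'` with a threshold `T` for the centralizer orders;
* `conj_s0` : `Cls 0 s` gives `g s g⁻¹ = s0` with `g` in `Fi24'`;
* `rowA_of` : the row `Fi24'` from the explicit cover `L3`.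
-/

set_option autoImplicit false
set_option maxRecDepth 100000

namespace Cfsg.Agent.H611.QF

open Cfsg Subgroup Cfsg.Agent.H51.Mult Cfsg.Agent.H777.Ore Cfsg.Agent.H265.TF
open Cfsg.Agent.H52.ThreeFi24
open Cfsg.Spor (Fi24)
open Cfsg.Agent.Fischer.Fi24Rep (gen word)
open Cfsg.Agent.Fischer.Fi24Final (sgn sgn_gen)
open Cfsg.Agent.R08.FiTwentyFour (mem_commutator_iff)
open Cfsg.Agent.Fischer.Fi24Spider (word_cons word_nil)
open Cfsg.Agent.LThreeFi24.FiveConj (eqB eq_of_eqB)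

/-- `s` is conjugate in `Fi24` to `X i` or to its inverse -/
def Cls (i : Fin 5) (s : Spor.Fi24') : Prop :=
  ∃ y : Fi24, y * (s : Fi24) * y⁻¹ = Cfsg.Agent.H842.ThreeCl.X i ∨ y * (s : Fi24) * y⁻¹ = (Cfsg.Agent.H842.ThreeCl.X i)⁻¹

/-- **the case split** -/
theorem cases {P : Spor.Fi24' → Prop} {T : ℕ} (hT : 1814400 ≤ T)
    (hS : ∀ g : Spor.Fi24', Nat.card (centralizer ({g} : Set Spor.Fi24')) ≤ T → P g)
    (R2 : ∀ (g : Spor.Fi24') (n : ℕ), g ^ 2 ^ n = 1 → P g) (R6 : ∀ g : Spor.Fi24', g ^ 3 = 1 → P g)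
    (R7 : ∀ g : Spor.Fi24', orderOf g = 9 → Nat.card (centralizer ({g} : Set Spor.Fi24')) ≤ T)
    (R5 : ∀ z s : Spor.Fi24', z ≠ 1 → z * z = 1 → orderOf s = 3 → Commute z s → ¬ Cls 0 s → ¬ Cls 1 s → ¬ Cls 4 s →
      Nat.card (centralizer ({z} : Set Spor.Fi24') ⊓ centralizer ({s} : Set Spor.Fi24') : Subgroup Spor.Fi24') ≤ T)
    (R4 : ∀ (s t : Spor.Fi24') (n : ℕ), orderOf s = 3 → (Cls 0 s ∨ Cls 1 s ∨ Cls 4 s) → t ^ 2 ^ n = 1 → Commute s t →
      P (s * t)) (g : Spor.Fi24') : P g := by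
  have := Cfsg.Agent.H48.OreFi.finite'
  have hn : orderOf g ≠ 0 := (orderOf_pos g).ne'
  by_cases hr : ∃ r, r.Prime ∧ 5 ≤ r ∧ r ∣ orderOf g
  · obtain ⟨r, hr, h5, k, hk⟩ := hr
    have hk0 : k ≠ 0 := by
      rintro rfl
      exact hn (by rw [hk, mul_zero])
    refine hS g ((Cfsg.Agent.H48.OreFi.cent_pow_le g k).trans
      ((Cfsg.Agent.H48.OreFi.big_prime hr h5 ?_).trans hT))
    rw [orderOf_pow' g hk0, hk, Nat.gcd_eq_right (dvd_mul_left k r), Nat.mul_div_cancel _ (Nat.pos_of_ne_zero hk0)]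
  push Not at hr
  by_cases h9 : 9 ∣ orderOf g
  · obtain ⟨k, hk⟩ := h9
    have hk0 : k ≠ 0 := by
      rintro rfl
      exact hn (by rw [hk, mul_zero])
    refine hS g ((Cfsg.Agent.H48.OreFi.cent_pow_le g k).trans (R7 _ ?_))
    rw [orderOf_pow' g hk0, hk, Nat.gcd_eq_right (dvd_mul_left k 9), Nat.mul_div_cancel _ (Nat.pos_of_ne_zero hk0)]
  rcases Cfsg.Agent.H48.OreFi.two_three' hn hr with ⟨a, ha⟩ | h | ⟨b, hb, hk⟩ | h6
  · exact R2 g a (by rw [← ha, pow_orderOf_eq_one])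
  · exact R6 g (by rw [← h, pow_orderOf_eq_one])
  · exact absurd (by rw [hk]; exact pow_dvd_pow 3 hb) h9
  -- the order is `3 * 2 ^ a`
  obtain ⟨a, m, hm, hnm⟩ := Nat.exists_eq_pow_mul_and_not_dvd hn 2 (by norm_num)
  have h3m : 3 ∣ m := by
    have h1 : 3 ∣ 2 ^ a * m := by rw [← hnm]; exact (by norm_num : 3 ∣ 6).trans h6
    exact (Nat.Coprime.dvd_mul_left (Nat.Coprime.pow_right a (by norm_num))).1 h1
  have hm3 : m = 3 := by
    obtain ⟨q, rfl⟩ := h3m
    have hq : q = 1 := by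
      by_contra hq1
      obtain ⟨r, hrp, hrq⟩ := Nat.exists_prime_and_dvd hq1
      have hrn : r ∣ orderOf g := by rw [hnm]; exact (hrq.trans (dvd_mul_left q 3)).trans (dvd_mul_left _ _)
      have hr5 : r < 5 := by
        by_contra hcon
        exact hr r hrp (by omega) hrn
      have h23 : r = 2 ∨ r = 3 := by
        have := hrp.two_le
        interval_cases r
        · left; rfl
        · right; rfl
        · exact absurd hrp (by norm_num)
      rcases h23 with rfl | rfl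
      · exact hm (hrq.trans (dvd_mul_left q 3))
      · apply h9
        rw [hnm]
        obtain ⟨c, rfl⟩ := hrq
        exact ⟨2 ^ a * c, by ring⟩
    rw [hq]
  rw [hm3] at hnm
  -- the parts
  have ha1 : 1 ≤ a := by
    by_contra h0
    have h1 : a = 0 := by omega
    rw [h1] at hnm
    rw [hnm] at h6
    omega
  obtain ⟨u, hu⟩ : ∃ u : ℕ, 2 ^ a * u ≡ 1 [MOD 3] := by
    have h1 : Nat.Coprime (2 ^ a) 3 := Nat.Coprime.pow_left a (by norm_num)
    obtain ⟨u, -, hu⟩ := Nat.exists_mul_mod_eq_one_of_coprime h1 (by norm_num)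
    exact ⟨u, by rw [Nat.ModEq, hu]⟩
  have hu3 : ¬ 3 ∣ u := by
    intro h
    have h1 : 2 ^ a * u ≡ 0 [MOD 3] := (Nat.modEq_zero_iff_dvd).2 (h.mul_left _)
    have h2 := h1.symm.trans hu
    exact absurd h2 (by decide)
  set s := g ^ (2 ^ a * u) with hs
  have hs3 : s ^ 3 = 1 := by
    rw [hs, ← pow_mul, show 2 ^ a * u * 3 = (2 ^ a * 3) * u by ring, pow_mul, ← hnm, pow_orderOf_eq_one, one_pow]
  have hs1 : s ≠ 1 := by
    intro h
    have h1 : orderOf g ∣ 2 ^ a * u := orderOf_dvd_of_pow_eq_one h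
    rw [hnm] at h1
    exact hu3 (Nat.dvd_of_mul_dvd_mul_left (by positivity) h1)
  have hso : orderOf s = 3 := by
    have : Fact (Nat.Prime 3) := ⟨Nat.prime_three⟩
    exact orderOf_eq_prime hs3 hs1
  have hcs : Commute s g := by rw [hs]; exact (Commute.refl g).pow_left _
  by_cases hc : Cls 0 s ∨ Cls 1 s ∨ Cls 4 s
  · have ht : (s⁻¹ * g) ^ 2 ^ a = 1 := by
      rw [hcs.inv_left.mul_pow, inv_pow, hs, ← pow_mul]
      have h1 : g ^ (2 ^ a * u * 2 ^ a) = g ^ 2 ^ a := by
        rw [pow_eq_pow_iff_modEq, hnm]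
        have h2 : 2 ^ a * (2 ^ a * u) ≡ 2 ^ a * 1 [MOD 2 ^ a * 3] := hu.mul_left' _
        rw [mul_one] at h2
        rwa [show 2 ^ a * u * 2 ^ a = 2 ^ a * (2 ^ a * u) by ring]
      rw [h1, inv_mul_cancel]
    have h2 := R4 s (s⁻¹ * g) a hso hc ht ((Commute.refl s).inv_right.mul_right hcs)
    rwa [mul_inv_cancel_left] at h2
  · rw [not_or, not_or] at hc
    obtain ⟨h0, h1, h4⟩ := hc
    have hzo : orderOf (g ^ (3 * 2 ^ (a - 1))) = 2 := by
      have h2 : orderOf g = 2 * (3 * 2 ^ (a - 1)) := by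
        rw [hnm]
        obtain ⟨b, rfl⟩ : ∃ b, a = b + 1 := ⟨a - 1, by omega⟩
        rw [Nat.add_sub_cancel]
        ring
      have h3 : 3 * 2 ^ (a - 1) ≠ 0 := by positivity
      rw [orderOf_pow' g h3, Nat.gcd_eq_right ⟨2, by rw [h2]; ring⟩, h2, Nat.mul_div_cancel _ (Nat.pos_of_ne_zero h3)]
    refine hS g (le_trans (Subgroup.card_le_of_le (K := centralizer ({g ^ (3 * 2 ^ (a - 1))} : Set Spor.Fi24') ⊓
        centralizer ({s} : Set Spor.Fi24')) ?_) (R5 (g ^ (3 * 2 ^ (a - 1))) s ?_ ?_ hso ?_ h0 h1 h4))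
    · intro y hy
      rw [mem_centralizer_singleton_iff] at hy
      refine ⟨mem_centralizer_singleton_iff.2 (Commute.pow_right (show Commute y g from hy) _).eq,
        mem_centralizer_singleton_iff.2 ?_⟩
      rw [hs]
      exact (Commute.pow_right (show Commute y g from hy) _).eq
    · intro h
      rw [h, orderOf_one] at hzo
      omega
    · have h2 := pow_orderOf_eq_one (g ^ (3 * 2 ^ (a - 1)))
      rwa [hzo, pow_two] at h2
    · exact (hcs.pow_right _).symm

/-- an element of `Fi24` is in `Fi24'` up to a transposition -/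
theorem mem_or (y : Fi24) : y ∈ commutator Fi24 ∨ ∀ x : Fi24.Gen, gen x * y ∈ commutator Fi24 := by
  rcases Int.units_eq_one_or (sgn y) with h | h
  · exact Or.inl (mem_commutator_iff.2 h)
  · right
    intro x
    rw [mem_commutator_iff, map_mul, sgn_gen, h]
    norm_num

/-- **class `3A`** -/
theorem conj_s0 {s : Spor.Fi24'} (h : Cls 0 s) : ∃ g : Spor.Fi24', g * s * g⁻¹ = s0 := by
  have hsq : ∀ x : Fi24.Gen, gen x * gen x = 1 := fun x => Cfsg.Agent.Fischer.Fi24Final.gen_sq x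
  have h1 : ∃ y : Fi24, y * (s : Fi24) * y⁻¹ = gen .l * gen .k := by
    obtain ⟨y, hy | hy⟩ := h
    · exact ⟨y, hy⟩
    · have hy' : y * (s : Fi24) * y⁻¹ = (gen .l * gen .k)⁻¹ := hy
      refine ⟨gen .l * y, ?_⟩
      calc gen .l * y * (s : Fi24) * (gen .l * y)⁻¹ = gen .l * (y * (s : Fi24) * y⁻¹) * (gen .l)⁻¹ := by group
        _ = gen .l * (gen .l * gen .k)⁻¹ * (gen .l)⁻¹ := by rw [hy']
        _ = gen .l * (gen .k)⁻¹ * ((gen .l * gen .l))⁻¹ := by group
        _ = gen .l * gen .k := by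
          rw [hsq, inv_one, mul_one, inv_eq_of_mul_eq_one_left (hsq .k)]
  obtain ⟨y, hy⟩ := h1
  rcases mem_or y with hm | hm
  · exact ⟨⟨y, hm⟩, Subtype.ext (by
      show y * (s : Fi24) * y⁻¹ = word [.l, .k]
      rw [hy, word_cons, word_cons, word_nil, mul_one])⟩
  · refine ⟨⟨gen .c * y, hm .c⟩, Subtype.ext ?_⟩
    show gen .c * y * (s : Fi24) * (gen .c * y)⁻¹ = word [.l, .k]
    have h2 : word (([.c] : List Cfsg.Spor.Fi24.Gen) ++ ([.l, .k] : List Cfsg.Spor.Fi24.Gen)) = word (([.l, .k] : List Cfsg.Spor.Fi24.Gen) ++ ([.c] : List Cfsg.Spor.Fi24.Gen)) := eq_of_eqB (by decide +kernel)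
    simp only [List.cons_append, List.nil_append, word_cons, word_nil, mul_one] at h2
    rw [word_cons, word_cons, word_nil, mul_one]
    calc gen .c * y * (s : Fi24) * (gen .c * y)⁻¹ = gen .c * (y * (s : Fi24) * y⁻¹) * (gen .c)⁻¹ := by group
      _ = gen .c * (gen .l * gen .k) * (gen .c)⁻¹ := by rw [hy]
      _ = gen .l * gen .k := by rw [h2]; group

/-- **the row, from the explicit triple cover** -/
theorem rowA_of (h : ∀ k : Spor.Fi24', Good π3 k) : H6.QO.RowA Spor.Fi24' := by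
  have h1 : Nat.card π3.ker = Nat.card (Multiplicative (ZMod 3)) := by
    rw [card_ker_L3]; simp
  exact H6.QO.RowA.of_univ S2055.result pce h1 fun g => h (π3 g) g rfl

end Cfsg.Agent.H611.QF
end

-- part: H29/TF/Omega
section
/-!
# `Fi24'`: the elements of order 3 acting as a scalar `ω` on `R/⟨z⟩` are of class `3C` (helper29)

`two_b` : `|C(t) ∩ C(s)| ≤ 10077696` for `t` of class `2B` and a commuting `s` of order 3 not of class `3C`.
-/

set_option autoImplicit false
set_option maxRecDepth 100000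

namespace Cfsg.Agent.H29.TF

open Cfsg Cfsg.Spor Subgroup
open Cfsg.Agent.Lib.PermNet Cfsg.Agent.Lib.PermNetPt Cfsg.Agent.Fischer.Fi24RepDef Cfsg.Agent.Fischer.Fi24Rep
open Cfsg.Agent.Fischer.Fi24Spider (word_append word_cons word_nil)
open Cfsg.Agent.KFacts.FiTF Cfsg.Agent.KFacts.FiTF.Defs Cfsg.Agent.KFacts.FiTF.Pts Cfsg.Agent.KFacts.FiTF.Tet
open Cfsg.Agent.KFacts.FiTF.Orb Cfsg.Agent.KFacts.FiTF.Lin
open Cfsg.Agent.KFacts.FiTF.OrbSys
open Cfsg.Agent.KFacts.Codes
open Cfsg.Agent.H98.Ex2 Cfsg.Agent.H98.Ex2.FiTwoB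
open Cfsg.Agent.LThreeFi24.FiveConj (eqB eq_of_eqB word_w)
open Cfsg.Agent.H29.TF.Dat
open Cfsg.Spor.Fi24 (Gen)

def wq : List Gen := [.d, .f, .e, .d, .c, .b, .h, .d, .c, .h, .i, .d, .h, .f, .e, .d, .h, .i, .f, .e, .d, .h, .g, .f, .c, .d, .e,
  .a, .b, .c, .d, .h, .i, .g, .f, .d, .e, .c, .d, .h, .j, .g, .f, .e, .d, .c, .b, .a, .l, .c, .d, .h, .e, .f,
  .g, .j, .c, .d, .e, .f, .i, .c, .d, .h, .e, .d, .c, .b, .k, .a, .l, .k, .e, .d, .c, .b, .a, .l, .d, .h, .i,
  .e, .d, .h, .c, .d, .e, .b, .c, .b, .d]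

def w3 : List Gen := [.l, .k, .b, .c]

/-- the word of `ω` -/
def wo : List Gen := wq ++ w3 ++ wq.reverse

/-- `ω` on the members of a tetrad -/
def sg (i : ℕ) : ℕ := [0, 2, 3, 1].getD i 0

set_option Elab.async false in
theorem chk_o : ∀ t < 6, ∀ i < 4, chkPt (nw wo false) (P t i) (P t (sg i)) = true := by (rewrite [show @Cfsg.Agent.Lib.PermNetPt.chkPt = delta% @Cfsg.Agent.Lib.PermNetPt.chkPt from by delta Cfsg.Agent.Lib.PermNetPt.chkPt; rfl, Cfsg.Agent.Lib.PermNetFast.winv_fast]; decide +kernel)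

theorem chk_3 : eqB (w3 ++ w3 ++ w3) [] = true := by decide +kernel

/-- the element `ω` -/
def ome : Spor.Fi24 := word wo

theorem ome_eq : ome = word wq * word w3 * (word wq)⁻¹ := word_w

theorem w3_cube : word w3 ^ 3 = 1 := by
  have h := eq_of_eqB chk_3
  rw [word_append, word_append, word_nil] at h
  rw [pow_succ, pow_two]
  exact h

theorem ome_cube : ome ^ 3 = 1 := by rw [ome_eq, conj_pow, w3_cube]; group

theorem sg_lt : ∀ i < 4, sg i < 4 := by decide

theorem ome_D {t i : ℕ} (ht : t < 6) (hi : i < 4) : ome * D t i * ome⁻¹ = D t (sg i) :=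
  (isPt ht hi).conj_eq (isPt ht (sg_lt i hi)) (rho_of_chkPt (chk_o t ht i hi))

theorem ome_z : ome * z = z * ome := by
  rw [← mul_inv_eq_iff_eq_mul]
  conv_lhs => rw [← prod0]
  have e : ome * (D 0 0 * D 0 1 * D 0 2 * D 0 3) * ome⁻¹ = (ome * D 0 0 * ome⁻¹) * (ome * D 0 1 * ome⁻¹) *
      (ome * D 0 2 * ome⁻¹) * (ome * D 0 3 * ome⁻¹) := by group
  rw [e, ome_D (by norm_num) (by norm_num), ome_D (by norm_num) (by norm_num), ome_D (by norm_num) (by norm_num),
    ome_D (by norm_num) (by norm_num)]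
  show D 0 0 * D 0 2 * D 0 3 * D 0 1 = z
  have c1 := D_comm (t := 0) (i := 3) (k := 1) (by norm_num) (by norm_num) (by norm_num)
  have c2 := D_comm (t := 0) (i := 2) (k := 1) (by norm_num) (by norm_num) (by norm_num)
  rw [← prod0]
  calc D 0 0 * D 0 2 * D 0 3 * D 0 1 = D 0 0 * D 0 2 * (D 0 3 * D 0 1) := by group
    _ = D 0 0 * (D 0 2 * D 0 1) * D 0 3 := by rw [c1]; group
    _ = D 0 0 * D 0 1 * D 0 2 * D 0 3 := by rw [c2]; group

theorem ome_pair {t i : ℕ} (ht : t < 6) (hi : i < 4) : ome * (D t 0 * D t i) * ome⁻¹ = D t 0 * D t (sg i) := by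
  have e : ome * (D t 0 * D t i) * ome⁻¹ = (ome * D t 0 * ome⁻¹) * (ome * D t i * ome⁻¹) := by group
  rw [e, ome_D ht hi, ome_D ht (by norm_num)]
  rfl

theorem ac_ome_even {t : ℕ} (ht : t < 6) : ac ome (2 ^ (2 * t)) = 2 ^ (2 * t + 1) := by
  have h1 : (2 : ℕ) ^ (2 * t + 1) < 4096 := lt_of_lt_of_le
    (Nat.pow_lt_pow_right (by norm_num) (show 2 * t + 1 < 12 by omega)) (by norm_num)
  refine ac_eq h1 (Or.inl ?_)
  rw [cod_pow (by omega), cod_pow (by omega), x_even, x_odd, ome_pair ht (by norm_num)]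
  rfl

theorem ac_ome_odd {t : ℕ} (ht : t < 6) : ac ome (2 ^ (2 * t + 1)) = 3 * 2 ^ (2 * t) := by
  have h0 : (2 : ℕ) ^ (2 * t) ≤ 1024 := (Nat.pow_le_pow_right (by norm_num) (show 2 * t ≤ 10 by omega)).trans (by norm_num)
  have h1 : 3 * (2 : ℕ) ^ (2 * t) < 4096 := by omega
  refine ac_eq h1 ?_
  rw [cod_pow (by omega), x_odd, ome_pair ht (by norm_num)]
  have h2 := cod_pc ht 3 (by norm_num)
  have h3 : pc t 3 = 4096 + 3 * 2 ^ (2 * t) := rfl
  have h4 := ez_mod (n := 12) (z := z) (x := x) (pc t 3)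
  have h5 : pc t 3 % 2 ^ 12 = 3 * 2 ^ (2 * t) := by rw [h3]; omega
  rw [h5, h2] at h4
  exact h4

theorem om_pows : ∀ t < 6, om (2 ^ (2 * t)) = 2 ^ (2 * t + 1) ∧ om (2 ^ (2 * t + 1)) = 3 * 2 ^ (2 * t) := by
  decide +kernel

theorem isOm_ome : IsOm ome := by
  intro c hc
  refine add_ext' (f := ac ome) (g := om) (ac_xor ome_z) om_xor ?_ hc
  intro j hj
  rcases Nat.even_or_odd' j with ⟨t, rfl | rfl⟩
  · rw [ac_ome_even (by omega), (om_pows t (by omega)).1]
  · rw [ac_ome_odd (by omega), (om_pows t (by omega)).2]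

/-- **a scalar is conjugate to `ω`** -/
theorem conj_ome {s : Spor.Fi24} (hs : s ∈ C) (h3 : s ^ 3 = 1) (h : IsOm s) : ∃ q : Spor.Fi24, q * ome * q⁻¹ = s := by
  have zz := frame.zz
  have hsz := C_z hs
  have hoz := ome_z
  have hfinR : Finite R := inferInstance
  have hr : s * ome⁻¹ ∈ R := by
    refine Cfsg.Agent.KFacts.LargeO2.mem_of_triv (Abs.large frame) (mul_z hsz (inv_z hoz)) ?_
    intro r hr
    have h1 : Ez z r (cod 12 z x (Lin.pi 12 z x r)) := RQ.sys.ez_pi hr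
    set c := Lin.pi 12 z x r with hc
    have hclt : c < 4096 := RQ.sys.dt.pi_lt _
    have h2 := h1.conj (mul_z hsz (inv_z hoz))
    have h4 : ac (s * ome⁻¹) c = c := by
      rw [ac_mul hsz (inv_z hoz)]
      set d := ac ome⁻¹ c with hd
      have hdlt : d < 4096 := ac_lt _ _
      have h5 : ac ome d = c := ac_inv' hoz hclt
      rw [h d hdlt, ← isOm_ome d hdlt, h5]
    have h5 := ac_spec (mul_z hsz (inv_z hoz)) c
    rw [h4] at h5
    have h6 := (h2.trans zz h5).trans zz (h1.symm zz)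
    rcases h6 with h6 | h6
    · exact Or.inl h6
    · right
      rw [h6]
      exact (RQ.R_z hr).symm
  have h1 : Ez z (s * ome⁻¹) (cod 12 z x (Lin.pi 12 z x (s * ome⁻¹))) := RQ.sys.ez_pi hr
  set a := Lin.pi 12 z x (s * ome⁻¹) with ha
  have halt : a < 4096 := RQ.sys.dt.pi_lt _
  have h2 := comm_ez hoz (om a)
  have h4 : om a ^^^ ac ome (om a) = a := by
    rw [isOm_ome _ (om_lt _), om2_eq halt, ← Nat.xor_assoc, Nat.xor_self, Nat.zero_xor]
  rw [h4] at h2
  have h5 := h2.trans zz (h1.symm zz)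
  set q := cod 12 z x (om a) with hq
  rcases h5 with h5 | h5
  · refine ⟨q, ?_⟩
    calc q * ome * q⁻¹ = (q * ome * q⁻¹ * ome⁻¹) * ome := by group
      _ = s := by rw [h5]; group
  · exfalso
    have h6 : q * ome * q⁻¹ = z * s := by
      calc q * ome * q⁻¹ = (q * ome * q⁻¹ * ome⁻¹) * ome := by group
        _ = z * s := by rw [h5]; group
    have h7 : (z * s) ^ 3 = 1 := by rw [← h6, conj_pow, ome_cube]; group
    have h8 : (z * s) ^ 3 = z ^ 3 * s ^ 3 := (show Commute z s from hsz.symm).mul_pow 3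
    rw [h7, h3, mul_one, pow_succ, pow_two, zz, one_mul] at h8
    exact frame.z1 h8.symm

theorem conj_w3 {s : Spor.Fi24} (hs : s ∈ C) (h3 : s ^ 3 = 1) (h : IsOm s) : ∃ q : Spor.Fi24, q * s * q⁻¹ = word w3 := by
  obtain ⟨q, hq⟩ := conj_ome hs h3 h
  refine ⟨(word wq)⁻¹ * q⁻¹, ?_⟩
  rw [← hq, ome_eq]
  group

/-- **the bound in `Fi24`** -/
theorem bound2' {s : Spor.Fi24} (hs : s ∈ C) (h3 : s ^ 3 = 1) (h1 : s ≠ 1)
    (hn : ∀ y : Spor.Fi24, y * s * y⁻¹ ≠ word w3 ∧ y * s * y⁻¹ ≠ (word w3)⁻¹) :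
    Nat.card ↥(C ⊓ centralizer ({s} : Set Spor.Fi24)) ≤ 10077696 := by
  have h4 := card_orb C s
  rw [card_C] at h4
  have h6 : {y | ∃ g ∈ C, g * s * g⁻¹ = y}.ncard = (cls C s).ncard := rfl
  rw [h6] at h4
  rcases many hs h3 h1 with h5 | ⟨g, hg, h5 | h5⟩
  · by_contra h7
    push Not at h7
    have h8 : 15929 * 10077697 ≤ (cls C s).ncard * Nat.card ↥(C ⊓ centralizer ({s} : Set Spor.Fi24)) :=
      Nat.mul_le_mul h5 h7
    omega
  · exfalso
    obtain ⟨q, hq⟩ := conj_w3 (C.mul_mem (C.mul_mem hg hs) (C.inv_mem hg)) (by rw [conj_pow, h3]; group) h5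
    refine (hn (q * g)).1 ?_
    rw [← hq]; group
  · exfalso
    obtain ⟨q, hq⟩ := conj_w3 (C.mul_mem (C.mul_mem hg (C.inv_mem hs)) (C.inv_mem hg))
      (by rw [conj_pow, inv_pow, h3]; group) h5
    refine (hn (q * g)).2 ?_
    rw [← hq]; group

open Cfsg.Agent.H611.QF (Cls) in
/-- **(2B)** -/
theorem two_b {t s : Spor.Fi24'} {a b c d : Spor.Fi24}
    (hT : R08.TetTwo.IsTet R08.FiTwentyFour.L (t : Spor.Fi24) a b c d) (hs : orderOf s = 3) (hts : Commute t s)
    (hn : ¬ Cls 1 s) :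
    Nat.card ↥(centralizer ({t} : Set Spor.Fi24') ⊓ centralizer ({s} : Set Spor.Fi24')) ≤ 10077696 := by
  have hfin : Finite Spor.Fi24 := Cfsg.Agent.R08.FiTwentyFour.finite_Fi24
  obtain ⟨g, hg, hgt, -⟩ := exists_conj hT
  have hs3 : (s : Spor.Fi24) ^ 3 = 1 := by
    have h1 : s ^ 3 = 1 := by rw [← hs, pow_orderOf_eq_one]
    exact congrArg Subtype.val h1
  have hs1 : (s : Spor.Fi24) ≠ 1 := by
    intro h
    have h1 : s = 1 := Subtype.ext h
    rw [h1, orderOf_one] at hs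
    omega
  have hN : ∀ k : Spor.Fi24', g * (k : Spor.Fi24) * g⁻¹ ∈ commutator Spor.Fi24 := fun k =>
    Subgroup.mul_mem _ (Subgroup.mul_mem _ hg k.2) (Subgroup.inv_mem _ hg)
  have hcz : ∀ k : Spor.Fi24', k * t = t * k → g * (k : Spor.Fi24) * g⁻¹ ∈ C := by
    intro k hk
    refine mem_C.2 ⟨hN k, ?_⟩
    have hk' : (k : Spor.Fi24) * t = t * k := congrArg Subtype.val hk
    rw [← hgt]
    calc g * (k : Spor.Fi24) * g⁻¹ * (g * t * g⁻¹) = g * ((k : Spor.Fi24) * t) * g⁻¹ := by group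
      _ = g * t * g⁻¹ * (g * (k : Spor.Fi24) * g⁻¹) := by rw [hk']; group
  have h1 : Nat.card ↥(C ⊓ centralizer ({g * (s : Spor.Fi24) * g⁻¹} : Set Spor.Fi24)) ≤ 10077696 := by
    refine bound2' (hcz s hts.symm.eq) ?_ ?_ ?_
    · rw [conj_pow, hs3]; group
    · intro h
      exact hs1 (conj_eq_one_iff.1 h)
    · intro y
      refine ⟨fun h => hn ⟨y * g, Or.inl ?_⟩, fun h => hn ⟨y * g, Or.inr ?_⟩⟩
      · show _ = word w3
        rw [← h]; group
      · show _ = (word w3)⁻¹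
        rw [← h]; group
  refine le_trans ?_ h1
  refine Nat.card_le_card_of_injective (fun k : ↥(centralizer ({t} : Set Spor.Fi24') ⊓ centralizer ({s} : Set Spor.Fi24')) =>
    (⟨g * ((k : Spor.Fi24') : Spor.Fi24) * g⁻¹, hcz _ (mem_centralizer_singleton_iff.1 k.2.1), ?_⟩ :
      ↥(C ⊓ centralizer ({g * (s : Spor.Fi24) * g⁻¹} : Set Spor.Fi24)))) ?_
  · refine mem_centralizer_singleton_iff.2 ?_
    have hk := congrArg (Subtype.val) (mem_centralizer_singleton_iff.1 k.2.2)
    have hk' : ((k : Spor.Fi24') : Spor.Fi24) * s = s * ((k : Spor.Fi24') : Spor.Fi24) := hk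
    calc g * ((k : Spor.Fi24') : Spor.Fi24) * g⁻¹ * (g * (s : Spor.Fi24) * g⁻¹) = g * (((k : Spor.Fi24') : Spor.Fi24) * s) * g⁻¹ := by group
      _ = g * (s : Spor.Fi24) * g⁻¹ * (g * ((k : Spor.Fi24') : Spor.Fi24) * g⁻¹) := by rw [hk']; group
  · intro k k' h
    have h2 : g * ((k : Spor.Fi24') : Spor.Fi24) * g⁻¹ = g * ((k' : Spor.Fi24') : Spor.Fi24) * g⁻¹ := congrArg Subtype.val h
    exact Subtype.ext (Subtype.ext (mul_left_cancel (mul_right_cancel h2)))

end Cfsg.Agent.H29.TF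
end

private theorem dce_6ef419bde0d8 : _root_.True := by
  try have : _root_.True := by simp only [_root_.Cfsg.Agent.H29.TF.Dat.ckF.eq_1]
  try have : _root_.True := by simp only [_root_.Cfsg.Agent.H29.TF.Dat.ckG.eq_1]
  try have : _root_.True := by simp only [_root_.Cfsg.Agent.KFacts.FiTF.RQ.Om.eq_1]
  try have : _root_.True := by simp only [_root_.Cfsg.Agent.H29.TF.Dat.ls.eq_1]
  try have : _root_.True := by simp only [_root_.Cfsg.Agent.H29.TF.Dat.mlt.eq_1]
  try have : _root_.True := by simp only [_root_.Cfsg.Agent.H29.TF.Dat.ckA.eq_1]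
  try have : _root_.True := by simp only [_root_.Cfsg.Agent.H29.TF.Dat.eij.eq_1]
  try have : _root_.True := by simp only [_root_.Cfsg.Agent.H29.TF.Dat.ckOM.eq_1]
  exact _root_.True.intro
end

-- part: H133/QS/ResFi
section
prune_inst 0x4000002000020000000000510100020004c0000900020080090000e400200230000028100008015021020020000000000004c00400000000000000000000001001020000000000000000000000000000000000000000000000000000000000000000000000
set_option linter.all false
open scoped Cfsg.Agent.FastGrp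

-- part: H133/QS/Rel
section
/-!
# Residues of the degrees of the characters of a triple cover, modulo 11 (helper133)

`Z` central of order 3 in `L`, `P` a Sylow subgroup of order 11, `C(P) = P × K`, `|K| = 36`, four-subgroup `A` of `K`.
* `card_mul_sum_le` : a Bessel inequality;
* `rel11Z` : `χ(1)` is `0, ± 1, ± 2, ± 3` modulo 11.
-/

set_option autoImplicit false
set_option linter.unusedSectionVars false

open Cfsg
open scoped ComplexConjugate

namespace Cfsg.Agent.H133.QS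

open Subgroup
open Cfsg.Agent.Characters.Core Cfsg.Agent.Characters.Linear
open Cfsg.Agent.SmallSimple Cfsg.Agent.SmallSimple.PrimeDual Cfsg.Agent.SmallSimple.ThetaSetup
open Cfsg.Agent.SmallSimple.ThetaOrtho Cfsg.Agent.SmallSimple.ThetaGroup
open Cfsg.Agent.SmallSimple.ThetaCount Cfsg.Agent.SmallSimple.TheoremC Cfsg.Agent.SmallSimple.TheoremCCor
open Cfsg.Agent.M23Order.Base (dg dg_eq dg_of_eq dg_dvd sum_dg_sq_le)
open Cfsg.Agent.H26.Ore.Nrm Cfsg.Agent.H26.Ore.Rel
open Cfsg.Agent.H113.QS (Lies exists_lies theta_norm)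

universe u

/-- **Bessel**: characters whose restriction to `M` is a multiple of the same linear character. -/
theorem card_mul_sum_le {H : Type u} [Group H] [Finite H] (M : Subgroup H) (S : Finset (IrrCharacter H)) (ψ : H → ℂ)
    (hψ : ∀ y ∈ M, ‖ψ y‖ = 1) (h : ∀ θ ∈ S, ∀ y ∈ M, (θ : H → ℂ) y = (dg θ : ℂ) * ψ y) :
    Nat.card M * ∑ θ ∈ S, dg θ ^ 2 ≤ Nat.card H := by
  classical
  have := Fintype.ofFinite H
  have hH : (0 : ℝ) < Nat.card H := by exact_mod_cast Nat.card_pos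
  have hHc : (Nat.card H : ℂ) ≠ 0 := by exact_mod_cast hH.ne'
  set F : H → ℂ := fun g => if g ∈ M then ψ g else 0 with hF
  have hsumM : ∀ f : H → ℂ, (∀ g, g ∉ M → f g = 0) → (∀ g ∈ M, f g = 1) → ∑ g : H, f g = Nat.card M := by
    intro f h0 h1
    have h2 : ∀ g, f g = if g ∈ M then 1 else 0 := fun g => by
      split_ifs with hg
      · exact h1 g hg
      · exact h0 g hg
    rw [Finset.sum_congr rfl fun g _ => h2 g, Finset.sum_boole]
    congr 1
    rw [Nat.card_eq_fintype_card, Fintype.card_subtype]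
  have hnn : ∀ y ∈ M, ψ y * conj (ψ y) = 1 := by
    intro y hy
    rw [Complex.mul_conj, Complex.normSq_eq_norm_sq, hψ y hy]
    norm_num
  have hFθ : ∀ θ ∈ S, classInner F (θ : H → ℂ) = (Nat.card M : ℂ) * dg θ / Nat.card H := by
    intro θ hθ
    rw [classInner_def]
    have h1 : ∀ g : H, F g * conj ((θ : H → ℂ) g) = (dg θ : ℂ) * (if g ∈ M then 1 else 0) := by
      intro g
      by_cases hg : g ∈ M
      · rw [hF]
        simp only [if_pos hg]
        rw [h θ hθ g hg, map_mul, map_natCast, mul_one]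
        have := hnn g hg
        linear_combination (dg θ : ℂ) * this
      · rw [hF]
        simp only [if_neg hg, zero_mul, mul_zero]
    rw [Finset.sum_congr rfl fun g _ => h1 g, ← Finset.mul_sum,
      hsumM (fun g => if g ∈ M then 1 else 0) (fun g hg => if_neg hg) (fun g hg => if_pos hg)]
    field_simp
  have hFF : classInner F F = (Nat.card M : ℂ) / Nat.card H := by
    rw [classInner_def, hsumM (fun g => F g * conj (F g))]
    · field_simp
    · intro g hg
      rw [hF]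
      simp only [if_neg hg, zero_mul]
    · intro g hg
      rw [hF]
      simp only [if_pos hg]
      exact hnn g hg
  set c : IrrCharacter H → ℝ := fun θ => (Nat.card M : ℝ) * dg θ / Nat.card H with hc
  have hcF : ∀ θ ∈ S, classInner F (θ : H → ℂ) = (c θ : ℂ) := fun θ hθ => by
    rw [hFθ θ hθ, hc]; push_cast; ring
  have hFc : ∀ θ ∈ S, classInner (θ : H → ℂ) F = (c θ : ℂ) := fun θ hθ => by
    rw [← classInner_conj_symm, hcF θ hθ, Complex.conj_ofReal]
  set D : H → ℂ := F - ∑ θ ∈ S, (c θ : ℂ) • (θ : H → ℂ) with hD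
  have hSS : classInner (∑ θ ∈ S, (c θ : ℂ) • (θ : H → ℂ)) (∑ θ ∈ S, (c θ : ℂ) • (θ : H → ℂ)) =
      ((∑ θ ∈ S, c θ ^ 2 : ℝ) : ℂ) := by
    rw [classInner_sum_left]
    push_cast
    refine Finset.sum_congr rfl fun θ hθ => ?_
    rw [classInner_smul_left, classInner_sum_right, Finset.sum_eq_single θ]
    · rw [classInner_smul_right, classInner_irr_self θ.2, Complex.conj_ofReal]; ring
    · intro θ' _ hne
      rw [classInner_smul_right, classInner_irr_ne θ.2 θ'.2 (fun h => hne (Subtype.ext h.symm)), mul_zero]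
    · exact fun h => absurd hθ h
  have hDD : classInner D D = (((Nat.card M : ℝ) / Nat.card H - ∑ θ ∈ S, c θ ^ 2 : ℝ) : ℂ) := by
    rw [hD, classInner_sub_left, classInner_sub_right, classInner_sub_right, hFF, hSS, classInner_sum_right,
      classInner_sum_left]
    have e1 : ∑ θ ∈ S, classInner F ((c θ : ℂ) • (θ : H → ℂ)) = ((∑ θ ∈ S, c θ ^ 2 : ℝ) : ℂ) := by
      push_cast
      refine Finset.sum_congr rfl fun θ hθ => ?_
      rw [classInner_smul_right, hcF θ hθ, Complex.conj_ofReal]; ring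
    have e2 : ∑ θ ∈ S, classInner ((c θ : ℂ) • (θ : H → ℂ)) F = ((∑ θ ∈ S, c θ ^ 2 : ℝ) : ℂ) := by
      push_cast
      refine Finset.sum_congr rfl fun θ hθ => ?_
      rw [classInner_smul_left, hFc θ hθ]; ring
    rw [e1, e2]
    push_cast
    ring
  have hpos : 0 ≤ (Nat.card M : ℝ) / Nat.card H - ∑ θ ∈ S, c θ ^ 2 := by
    have h1 := classInner_self_eq_ofReal D
    rw [hDD] at h1
    have h2 := Complex.ofReal_injective h1
    rw [h2]
    exact mul_nonneg (by positivity) (Finset.sum_nonneg fun _ _ => Complex.normSq_nonneg _)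
  have h3 : ∑ θ ∈ S, c θ ^ 2 = (Nat.card M : ℝ) ^ 2 / (Nat.card H : ℝ) ^ 2 * ∑ θ ∈ S, (dg θ : ℝ) ^ 2 := by
    rw [Finset.mul_sum]
    refine Finset.sum_congr rfl fun θ _ => ?_
    rw [hc]
    ring
  rw [h3] at hpos
  have hM : (0 : ℝ) < Nat.card M := by exact_mod_cast Nat.card_pos
  have h4 : (Nat.card M : ℝ) * ∑ θ ∈ S, (dg θ : ℝ) ^ 2 ≤ Nat.card H := by
    have h5 : (Nat.card M : ℝ) ^ 2 / (Nat.card H : ℝ) ^ 2 * ∑ θ ∈ S, (dg θ : ℝ) ^ 2 ≤
        (Nat.card M : ℝ) / Nat.card H := by linarith only [hpos]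
    rw [div_mul_eq_mul_div, div_le_div_iff₀ (by positivity) hH] at h5
    have h6 : (Nat.card M : ℝ) * Nat.card H * ((Nat.card M : ℝ) * ∑ θ ∈ S, (dg θ : ℝ) ^ 2) ≤
        (Nat.card M : ℝ) * Nat.card H * Nat.card H := by linarith only [h5]
    exact le_of_mul_le_mul_left h6 (by (clear * - hH hM; positivity))
  exact_mod_cast h4

section

variable {G : Type u} [Group G] [Finite G] {p : ℕ} [Fact p.Prime] {P : Sylow p G} {K A Z : Subgroup G}

/-- the conjugates of a character lie over the same central character -/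
theorem lies_orb (hK : IsComp p (P : Subgroup G) K) (hZ : Z ≤ center G) {θ θ' : IrrCharacter K}
    {μ : IrrCharacter (Z.subgroupOf K)} (h : Lies (Z.subgroupOf K) (μ : Z.subgroupOf K → ℂ) (θ : K → ℂ))
    (h' : θ' ∈ orb P K (θ : K → ℂ)) : Lies (Z.subgroupOf K) (μ : Z.subgroupOf K → ℂ) (θ' : K → ℂ) := by
  obtain ⟨n, hn, h1⟩ := mem_orb.1 h'
  intro g z
  rw [← h1, tw_apply hK _ hn, tw_apply hK _ hn]
  have hz : ((z : K) : G) ∈ center G := hZ (mem_subgroupOf.1 z.2)
  have h2 := h ⟨n * g * n⁻¹, conj_mem hK hn g.2⟩ z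
  rw [← h2]
  refine congrArg (θ : K → ℂ) (Subtype.ext ?_)
  show n * ((g : G) * z) * n⁻¹ = n * g * n⁻¹ * z
  have h3 := mem_center_iff.1 hz n⁻¹
  calc n * ((g : G) * z) * n⁻¹ = n * g * (z * n⁻¹) := by group
    _ = n * g * (n⁻¹ * z) := by rw [h3]
    _ = n * g * n⁻¹ * z := by group

theorem center_sub (hZ : Z ≤ center G) : Z.subgroupOf K ≤ center K := by
  intro z hz
  rw [mem_center_iff]
  intro g
  exact Subtype.ext (mem_center_iff.1 (hZ (mem_subgroupOf.1 hz)) g)

end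

/-- **residues modulo 11 in a triple cover** -/
theorem rel11Z {G : Type u} [Group G] [Finite G] [Fact (Nat.Prime 11)] {P : Sylow 11 G} {K A Z : Subgroup G}
    (hK : IsComp 11 (P : Subgroup G) K) (hP : Nat.card P = 11)
    (he : (centralizer ((P : Subgroup G) : Set G)).relIndex (normalizer ((P : Subgroup G) : Set G)) = 10)
    (hKc : Nat.card K = 36) (hZ : Z ≤ center G) (hZc : Nat.card Z = 3) (hZK : Z ≤ K) (hAK : A ≤ K)
    (hAc : Nat.card A = 4) (hAN : ∀ n ∈ normalizer ((P : Subgroup G) : Set G), ∀ a ∈ A, n * a * n⁻¹ ∈ A) {z : G}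
    (hzA : z ∈ A) (hz : z * z = 1) (hconj : ∀ a ∈ A, a ≠ 1 → ∃ k ∈ K, k * a * k⁻¹ = z)
    (χ : IrrCharacter G) {n : ℤ} (hn : (χ : G → ℂ) 1 = n) :
    n % 11 = 0 ∨ n % 11 = 1 ∨ n % 11 = 2 ∨ n % 11 = 3 ∨ n % 11 = 8 ∨ n % 11 = 9 ∨ n % 11 = 10 := by
  classical
  have : Finite (IrrCharacter K) := finite_irr
  have := Fintype.ofFinite (IrrCharacter K)
  have := Fintype.ofFinite A
  have hAn := normal_sub hK hAN
  rcases key hK hP he (t := 1) (by norm_num) χ (one_mem K) (one_mul 1) hn hn with h |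
    ⟨θ, e', m, c, hm, hem, hc, h1, -⟩
  · left; exact Int.emod_eq_zero_of_dvd (by exact_mod_cast h.1)
  have hm0 : 0 < m := Nat.pos_of_ne_zero (by rintro rfl; simp at hem)
  have hd0 : 0 < dg θ := Nat.pos_of_ne_zero (M23Order.Base.dg_ne_zero θ)
  obtain ⟨μ, hμ⟩ := exists_lies (center_sub (K := K) hZ) θ
  have hsum : ∀ M : Subgroup K, (∀ y ∈ M, ‖(θ : K → ℂ) y / dg θ‖ = 1) →
      (∀ θ' ∈ orb P K (θ : K → ℂ), ∀ y ∈ M, (θ' : K → ℂ) y = (dg θ' : ℂ) * ((θ : K → ℂ) y / dg θ)) →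
      Nat.card M * (m * dg θ ^ 2) ≤ 36 := by
    intro M g1 g2
    have g3 := card_mul_sum_le M (orb P K (θ : K → ℂ)) (fun y => (θ : K → ℂ) y / dg θ) g1 g2
    rwa [Finset.sum_congr rfl (g := fun _ => dg θ ^ 2) (fun θ' h => by rw [dg_orb hK h]), Finset.sum_const,
      smul_eq_mul, ← hm, hKc] at g3
  have hdc : (dg θ : ℂ) ≠ 0 := by exact_mod_cast hd0.ne'
  have hZ1 : ∀ θ' ∈ orb P K (θ : K → ℂ), ∀ y : K, ∀ z : Z.subgroupOf K, (θ' : K → ℂ) (y * z) =
      (θ' : K → ℂ) y * (μ : Z.subgroupOf K → ℂ) z := fun θ' h' => lies_orb hK hZ hμ h'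
  have hmu : ∀ z : Z.subgroupOf K, ‖(μ : Z.subgroupOf K → ℂ) z‖ = 1 := fun z => theta_norm (center_sub hZ) μ z
  by_cases hker : InKer A (θ : K → ℂ)
  · -- `A` in the kernel
    have h3 : Nat.card ↥(A.subgroupOf K ⊔ Z.subgroupOf K) * (m * dg θ ^ 2) ≤ 36 := by
      apply hsum
      · intro y hy
        rw [sup_comm] at hy
        obtain ⟨w, hw, a, ha, rfl⟩ := (Subgroup.mem_sup_of_normal_right).1 hy
        have e1 : w * a = a * w := (mem_center_iff.1 (center_sub (K := K) hZ hw) a).symm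
        rw [e1, hμ a ⟨w, hw⟩]
        have e2 := hker a ha 1
        rw [mul_one, dg_eq] at e2
        rw [e2, mul_div_assoc, mul_comm, div_mul_cancel₀ _ hdc]
        exact hmu _
      · intro θ' hθ' y hy
        rw [sup_comm] at hy
        obtain ⟨w, hw, a, ha, rfl⟩ := (Subgroup.mem_sup_of_normal_right).1 hy
        have e1 : w * a = a * w := (mem_center_iff.1 (center_sub (K := K) hZ hw) a).symm
        rw [e1, hμ a ⟨w, hw⟩, hZ1 θ' hθ' a ⟨w, hw⟩]
        have e2 := hker a ha 1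
        have e3 := (inKer_orb hK hAN hθ').2 hker a ha 1
        rw [mul_one, dg_eq] at e2 e3
        rw [e2, e3]
        field_simp
    have h12 : 12 ≤ Nat.card ↥(A.subgroupOf K ⊔ Z.subgroupOf K) := by
      have g4 : 4 ∣ Nat.card ↥(A.subgroupOf K ⊔ Z.subgroupOf K) := by
        rw [← hAc, ← Nat.card_congr (subgroupOfEquivOfLe hAK).toEquiv]
        exact card_dvd_of_le le_sup_left
      have g3 : 3 ∣ Nat.card ↥(A.subgroupOf K ⊔ Z.subgroupOf K) := by
        rw [← hZc, ← Nat.card_congr (subgroupOfEquivOfLe hZK).toEquiv]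
        exact card_dvd_of_le le_sup_right
      exact Nat.le_of_dvd Nat.card_pos (Nat.Coprime.mul_dvd_of_dvd_of_dvd (by norm_num : Nat.Coprime 4 3) g4 g3)
    have g3 : m * dg θ ^ 2 ≤ 3 := by
      by_contra hlt
      have : 12 * 4 ≤ Nat.card ↥(A.subgroupOf K ⊔ Z.subgroupOf K) * (m * dg θ ^ 2) :=
        Nat.mul_le_mul h12 (by omega)
      omega
    have hd1 : dg θ = 1 := by
      have : dg θ ^ 2 ≤ 3 := le_trans (Nat.le_mul_of_pos_left _ hm0) g3
      by_contra hne
      have : 2 ≤ dg θ := by omega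
      nlinarith only [hm0, g3, this]
    rw [hd1] at h1 g3
    have hm3 : m ≤ 3 := by simpa using g3
    have hcases : (m = 1 ∧ e' = 10) ∨ (m = 2 ∧ e' = 5) := by
      interval_cases m <;> omega
    norm_num at h1
    rcases hcases with ⟨rfl, rfl⟩ | ⟨rfl, rfl⟩ <;> rcases hc with rfl | rfl | rfl | rfl <;> norm_num only [_root_.sub_neg_eq_add] at h1 <;> (clear * - h1; omega)
  · have hval : ∃ w : ℤ, (dg θ : ℤ) + 3 * w = 0 := by
      obtain ⟨w, hw⟩ := exists_int_invol (isIrr_isCharacter θ.2) (t := (⟨z, hAK hzA⟩ : K)) (Subtype.ext hz)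
      refine ⟨w, ?_⟩
      have := Fintype.ofFinite (A.subgroupOf K)
      rcases dich (A.subgroupOf K) θ.2 with h | h
      · exact absurd h hker
      have h3 := h 1
      have h4 : ∀ a : A.subgroupOf K, (θ : K → ℂ) ((a : K) * 1) = w + if a = 1 then (dg θ : ℂ) - w else 0 := by
        intro a
        rw [mul_one]
        split_ifs with ha
        · rw [ha, OneMemClass.coe_one, dg_eq]
          ring
        · obtain ⟨k, hk, hkz⟩ := hconj ((a : K) : G) (mem_subgroupOf.1 a.2) (fun h => ha (Subtype.ext (Subtype.ext h)))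
          rw [add_zero, ← hw, ← isIrr_isClassFunction θ.2 (a : K) ⟨k, hk⟩]
          exact congrArg (θ : K → ℂ) (Subtype.ext hkz)
      rw [Finset.sum_congr rfl fun a _ => h4 a, Finset.sum_add_distrib, Finset.sum_const, Finset.sum_ite_eq',
        if_pos (Finset.mem_univ _), nsmul_eq_mul, Finset.card_univ, ← Nat.card_eq_fintype_card,
        Nat.card_congr (subgroupOfEquivOfLe hAK).toEquiv, hAc] at h3
      have h5 : (((dg θ : ℤ) + 3 * w : ℤ) : ℂ) = 0 := by push_cast; push_cast at h3; linear_combination h3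
      exact_mod_cast h5
    obtain ⟨w, hw⟩ := hval
    have hsq : m * dg θ ^ 2 ≤ 12 := by
      have h3 := hsum (Z.subgroupOf K) (fun y hy => by
          have e1 := hμ 1 ⟨y, hy⟩
          rw [one_mul, dg_eq] at e1
          show ‖(θ : K → ℂ) y / dg θ‖ = 1
          rw [show (θ : K → ℂ) y = dg θ * (μ : Z.subgroupOf K → ℂ) ⟨y, hy⟩ from e1, mul_comm, mul_div_assoc,
            div_self hdc, mul_one]
          exact hmu _) (fun θ' hθ' y hy => by
          have e1 := hμ 1 ⟨y, hy⟩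
          have e2 := hZ1 θ' hθ' 1 ⟨y, hy⟩
          rw [one_mul, dg_eq] at e1 e2
          rw [show (θ : K → ℂ) y = dg θ * (μ : Z.subgroupOf K → ℂ) ⟨y, hy⟩ from e1,
            show (θ' : K → ℂ) y = dg θ' * (μ : Z.subgroupOf K → ℂ) ⟨y, hy⟩ from e2]
          field_simp)
      rw [Nat.card_congr (subgroupOfEquivOfLe hZK).toEquiv, hZc] at h3
      omega
    have hd3 : dg θ = 3 := by
      have h3 : dg θ ^ 2 ≤ 12 := le_trans (Nat.le_mul_of_pos_left _ hm0) hsq
      have h4 : dg θ ≤ 3 := by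
        by_contra hne
        have : 4 ≤ dg θ := by omega
        nlinarith only [hm0, hsq, hne]
      omega
    have hm1 : m = 1 := by rw [hd3] at hsq; omega
    subst hm1
    have he10 : e' = 10 := by omega
    subst he10
    rw [hd3] at h1
    norm_num at h1
    rcases hc with rfl | rfl | rfl | rfl <;> norm_num only [_root_.sub_neg_eq_add] at h1 <;> omega

end Cfsg.Agent.H133.QS
end

-- part: H133/QS/RelB
section
/-!
# Residues of the degrees of the faithful characters of a triple cover, modulo 13 (helper133)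

`Z` central of order 3, `P` a Sylow subgroup of order 13, `C(P) = P × K`, `|K| = 54`, `|N(P) : C(P)| = 12`, `K` has a
non-abelian subgroup `E` of order 27 with `[E, E] ≤ Z`.
* `cen_eq` : the constituents of the restriction to `K` which are counted modulo `p` lie over the central character of `χ`;
* `sum_over` : the second orthogonality relation over a central character;
* `rel13Z` : `χ(1)` is `0, ± 3` modulo 13 if `χ` is not trivial on `Z`.
-/

set_option autoImplicit false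
set_option linter.unusedSectionVars false

open Cfsg
open scoped ComplexConjugate

namespace Cfsg.Agent.H133.QS

open Subgroup
open Cfsg.Agent.Characters.Core Cfsg.Agent.Characters.Linear
open Cfsg.Agent.SmallSimple Cfsg.Agent.SmallSimple.PrimeDual Cfsg.Agent.SmallSimple.ThetaSetup
open Cfsg.Agent.SmallSimple.ThetaOrtho Cfsg.Agent.SmallSimple.ThetaGroup
open Cfsg.Agent.SmallSimple.ThetaCount Cfsg.Agent.SmallSimple.TheoremC Cfsg.Agent.SmallSimple.TheoremCCor
open Cfsg.Agent.M23Order.Base (dg dg_eq dg_of_eq dg_dvd sum_dg_sq_le)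
open Cfsg.Agent.H26.Ore Cfsg.Agent.H26.Ore.Nrm Cfsg.Agent.H26.Ore.Rel
open Cfsg.Agent.H113.QS (Lies exists_lies theta_norm)

universe u

section Central

variable {H : Type u} [Group H] [Finite H] {Z : Subgroup H}

/-- **the second orthogonality relation over a central character** -/
theorem sum_over (hZ : Z ≤ center H) [Fintype (IrrCharacter H)] (μ : IrrCharacter Z) {z : H}
    (hz : ∀ ζ ∈ Z, ¬ IsConj ζ z) (S : Finset (IrrCharacter H))
    (hS : ∀ θ : IrrCharacter H, θ ∈ S ↔ Lies Z (μ : Z → ℂ) (θ : H → ℂ)) :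
    ∑ θ ∈ S, (dg θ : ℂ) * conj ((θ : H → ℂ) z) = 0 := by
  classical
  have := Fintype.ofFinite H
  have := Fintype.ofFinite Z
  choose Θ hΘ using exists_lies (L := H) hZ
  have hcard : (Nat.card Z : ℂ) ≠ 0 := by exact_mod_cast Nat.card_pos.ne'
  have h1 : ∑ ζ : Z, conj ((μ : Z → ℂ) ζ) * ∑ θ : IrrCharacter H, (θ : H → ℂ) ζ * conj ((θ : H → ℂ) z) =
      (Nat.card Z : ℂ) * ∑ θ ∈ S, (dg θ : ℂ) * conj ((θ : H → ℂ) z) := by
    simp only [Finset.mul_sum]
    rw [Finset.sum_comm]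
    have e0 : ∑ θ ∈ S, (Nat.card Z : ℂ) * ((dg θ : ℂ) * conj ((θ : H → ℂ) z)) =
        ∑ θ : IrrCharacter H, if θ ∈ S then (Nat.card Z : ℂ) * ((dg θ : ℂ) * conj ((θ : H → ℂ) z)) else 0 := by
      rw [Finset.sum_ite_mem, Finset.univ_inter]
    rw [e0]
    refine Finset.sum_congr rfl fun θ _ => ?_
    have h2 : ∀ ζ : Z, conj ((μ : Z → ℂ) ζ) * ((θ : H → ℂ) ζ * conj ((θ : H → ℂ) z)) =
        (dg θ : ℂ) * conj ((θ : H → ℂ) z) * ((Θ θ : Z → ℂ) ζ * conj ((μ : Z → ℂ) ζ)) := by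
      intro ζ
      have h := hΘ θ 1 ζ
      rw [one_mul, dg_eq] at h
      rw [h]
      ring
    rw [Finset.sum_congr rfl fun z _ => h2 z, ← Finset.mul_sum]
    have h3 : ∑ ζ : Z, (Θ θ : Z → ℂ) ζ * conj ((μ : Z → ℂ) ζ) = if Θ θ = μ then (Nat.card Z : ℂ) else 0 := by
      split_ifs with h
      · have h4 := classInner_irr_self μ.2
        rw [classInner, inv_mul_eq_one₀ hcard, eq_comm] at h4
        rw [h]
        exact h4
      · have h4 := classInner_irr_ne (Θ θ).2 μ.2 fun h5 => h (Subtype.ext h5)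
        rw [classInner] at h4
        rcases mul_eq_zero.1 h4 with h5 | h5
        · exact absurd (inv_eq_zero.1 h5) hcard
        · exact h5
    rw [h3]
    by_cases h : Θ θ = μ
    · rw [if_pos h, if_pos ((hS θ).2 (h ▸ hΘ θ))]; ring
    · rw [if_neg h, if_neg fun h5 => h ((hΘ θ).unique ((hS θ).1 h5))]; ring
  have h2 : ∑ ζ : Z, conj ((μ : Z → ℂ) ζ) * ∑ θ : IrrCharacter H, (θ : H → ℂ) ζ * conj ((θ : H → ℂ) z) = 0 := by
    refine Finset.sum_eq_zero fun ζ _ => ?_
    rw [S0145.sum_irr_mul_conj, if_neg (hz ζ ζ.2), mul_zero]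
  rw [h2] at h1
  rcases mul_eq_zero.1 h1.symm with h | h
  · exact absurd h hcard
  · exact h

/-- the central characters of the constituents of a restriction -/
theorem cen_eq {G : Type u} [Group G] [Finite G] {K Z : Subgroup G} (hZK : Z ≤ K) [Fintype (IrrCharacter K)]
    {χ : IrrCharacter G} {ν : IrrCharacter Z} (hν : Lies Z (ν : Z → ℂ) (χ : G → ℂ)) (hZ : Z ≤ center G)
    {M : IrrCharacter K → ℕ} (hM : ∀ y : K, (χ : G → ℂ) y = ∑ θ : IrrCharacter K, (M θ : ℂ) * (θ : K → ℂ) y)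
    {θ : IrrCharacter K} (hθ : M θ ≠ 0) {μ : IrrCharacter (Z.subgroupOf K)}
    (hμ : Lies (Z.subgroupOf K) (μ : Z.subgroupOf K → ℂ) (θ : K → ℂ)) (ζ : G) (hζ : ζ ∈ Z) :
    (μ : Z.subgroupOf K → ℂ) ⟨⟨ζ, hZK hζ⟩, mem_subgroupOf.2 hζ⟩ = (ν : Z → ℂ) ⟨ζ, hζ⟩ := by
  classical
  choose Θ hΘ using exists_lies (L := K) (center_sub (K := K) hZ)
  have hΘμ : Θ θ = μ := (hΘ θ).unique hμ
  rw [← hΘμ]
  set w : Z.subgroupOf K := ⟨⟨ζ, hZK hζ⟩, mem_subgroupOf.2 hζ⟩ with hw
  set a : ℂ := (ν : Z → ℂ) ⟨ζ, hζ⟩ with ha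
  have hna : ‖a‖ = 1 := theta_norm hZ ν _
  have hnw : ∀ θ' : IrrCharacter K, ‖(Θ θ' : Z.subgroupOf K → ℂ) w‖ = 1 := fun θ' => theta_norm (center_sub hZ) _ _
  have e1 : ∑ θ' : IrrCharacter K, (M θ' : ℂ) * (dg θ' : ℂ) * ((Θ θ' : Z.subgroupOf K → ℂ) w - a) = 0 := by
    have h1 := hM ⟨ζ, hZK hζ⟩
    have h2 := hM 1
    have h3 := hν 1 ⟨ζ, hζ⟩
    rw [one_mul] at h3
    have h4 : ∀ θ' : IrrCharacter K, (θ' : K → ℂ) ⟨ζ, hZK hζ⟩ = (dg θ' : ℂ) * (Θ θ' : Z.subgroupOf K → ℂ) w := by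
      intro θ'
      have h := hΘ θ' 1 w
      rw [one_mul, dg_eq] at h
      exact h
    rw [Finset.sum_congr rfl fun θ' _ => by rw [h4 θ']] at h1
    rw [Finset.sum_congr rfl fun θ' _ => by rw [dg_eq θ']] at h2
    have h5 : (χ : G → ℂ) ζ = (χ : G → ℂ) 1 * a := h3
    have h1' : (χ : G → ℂ) ζ = ∑ θ' : IrrCharacter K, (M θ' : ℂ) * ((dg θ' : ℂ) * (Θ θ' : Z.subgroupOf K → ℂ) w) := h1
    have h2' : (χ : G → ℂ) 1 = ∑ θ' : IrrCharacter K, (M θ' : ℂ) * (dg θ' : ℂ) := h2
    rw [h1', h2', Finset.sum_mul] at h5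
    have h6 : ∑ θ' : IrrCharacter K, (M θ' : ℂ) * (dg θ' : ℂ) * ((Θ θ' : Z.subgroupOf K → ℂ) w - a) =
        ∑ θ' : IrrCharacter K, (M θ' : ℂ) * ((dg θ' : ℂ) * (Θ θ' : Z.subgroupOf K → ℂ) w) -
          ∑ θ' : IrrCharacter K, (M θ' : ℂ) * (dg θ' : ℂ) * a := by
      rw [← Finset.sum_sub_distrib]
      exact Finset.sum_congr rfl fun _ _ => by ring
    rw [h6, h5, sub_self]
  -- multiply by `conj a` and take real parts
  have haa : a * conj a = 1 := by rw [Complex.mul_conj, Complex.normSq_eq_norm_sq, hna]; norm_num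
  have e2 : ∑ θ' : IrrCharacter K, (M θ' : ℝ) * (dg θ' : ℝ) *
      (1 - ((Θ θ' : Z.subgroupOf K → ℂ) w * conj a).re) = 0 := by
    have h1 : (∑ θ' : IrrCharacter K, (M θ' : ℂ) * (dg θ' : ℂ) * ((Θ θ' : Z.subgroupOf K → ℂ) w - a)) * conj a = 0 := by
      rw [e1, zero_mul]
    rw [Finset.sum_mul] at h1
    have h2 := congrArg Complex.re h1
    rw [Complex.re_sum, Complex.zero_re] at h2
    rw [← neg_eq_zero, ← Finset.sum_neg_distrib, ← h2]
    refine Finset.sum_congr rfl fun θ' _ => ?_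
    have h3 : (M θ' : ℂ) * (dg θ' : ℂ) * ((Θ θ' : Z.subgroupOf K → ℂ) w - a) * conj a =
        ((M θ' * dg θ' : ℝ) : ℂ) * ((Θ θ' : Z.subgroupOf K → ℂ) w * conj a - 1) := by
      rw [← haa]; push_cast; ring
    rw [h3, Complex.re_ofReal_mul, Complex.sub_re, Complex.one_re]
    ring
  have hle : ∀ θ' : IrrCharacter K, ((Θ θ' : Z.subgroupOf K → ℂ) w * conj a).re ≤ 1 := fun θ' => by
    refine (Complex.re_le_norm _).trans ?_
    rw [norm_mul, hnw, one_mul, RCLike.norm_conj, hna]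
  have e3 := (Finset.sum_eq_zero_iff_of_nonneg (fun θ' _ => mul_nonneg (by (clear * -; positivity))
    (sub_nonneg.2 (hle θ')))).1 e2 θ (Finset.mem_univ _)
  have hpos : (M θ : ℝ) * (dg θ : ℝ) ≠ 0 := by
    have h1 := M23Order.Base.dg_ne_zero θ
    positivity
  have e4 : ((Θ θ : Z.subgroupOf K → ℂ) w * conj a).re = 1 := by
    rcases mul_eq_zero.1 e3 with h | h
    · exact absurd h hpos
    · linarith only [h]
  have e5 : (Θ θ : Z.subgroupOf K → ℂ) w * conj a = 1 := by
    have h1 : ‖(Θ θ : Z.subgroupOf K → ℂ) w * conj a‖ = 1 := by rw [norm_mul, hnw, one_mul, RCLike.norm_conj, hna]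
    have h2 := Complex.sq_norm ((Θ θ : Z.subgroupOf K → ℂ) w * conj a)
    rw [h1, Complex.normSq_apply, e4] at h2
    have h3 : ((Θ θ : Z.subgroupOf K → ℂ) w * conj a).im = 0 := by
      have : ((Θ θ : Z.subgroupOf K → ℂ) w * conj a).im * ((Θ θ : Z.subgroupOf K → ℂ) w * conj a).im = 0 := by
        linarith only [h2]
      exact mul_self_eq_zero.1 this
    exact Complex.ext e4 h3
  calc (Θ θ : Z.subgroupOf K → ℂ) w = (Θ θ : Z.subgroupOf K → ℂ) w * (a * conj a) := by rw [haa, mul_one]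
    _ = ((Θ θ : Z.subgroupOf K → ℂ) w * conj a) * a := by ring
    _ = a := by rw [e5, one_mul]

/-- a central element of a non-abelian group of order 27 with commutators in `Z`, `|Z| = 3`, lies in `Z` -/
theorem mem_of_comm {G : Type u} [Group G] [Finite G] {E Z : Subgroup G} (hEc : Nat.card E = 27) (hZc : Nat.card Z = 3)
    (hZE : Z ≤ E) (hZ : Z ≤ center G) (hna : ∃ a ∈ E, ∃ b ∈ E, a * b ≠ b * a) {y : G} (hy : y ∈ E)
    (h : ∀ a ∈ E, a * y = y * a) : y ∈ Z := by
  have h3 : Fact (Nat.Prime 3) := ⟨Nat.prime_three⟩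
  have hle : Z.subgroupOf E ≤ center E := fun z hz => by
    rw [mem_center_iff]
    exact fun g => Subtype.ext (mem_center_iff.1 (hZ (mem_subgroupOf.1 hz)) g)
  have hZE' : Nat.card (Z.subgroupOf E) = 3 := by rw [Nat.card_congr (subgroupOfEquivOfLe hZE).toEquiv, hZc]
  have hd : Nat.card (center E) ∣ 3 ^ 3 := by
    have := card_subgroup_dvd_card (center E)
    rw [hEc] at this
    exact this
  obtain ⟨i, hi, hc⟩ := (Nat.dvd_prime_pow Nat.prime_three).1 hd
  have hge := Subgroup.card_le_of_le hle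
  rw [hZE', hc] at hge
  have hnc : ∀ {n : ℕ}, Nat.card (E ⧸ center E) = n → (n = 1 ∨ n = 3) → False := by
    intro n hn hcase
    have hcyc : IsCyclic (E ⧸ center E) := by
      rcases hcase with rfl | rfl
      · have : Subsingleton (E ⧸ center E) := (Nat.card_eq_one_iff_unique.1 hn).1
        infer_instance
      · exact isCyclic_of_prime_card hn
    obtain ⟨a, ha, b, hb, hab⟩ := hna
    have := commutative_of_cyclic_center_quotient (QuotientGroup.mk' (center E)) (by rw [QuotientGroup.ker_mk'])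
      (⟨a, ha⟩ : E) ⟨b, hb⟩
    exact hab (congrArg Subtype.val this)
  have hidx := Subgroup.card_mul_index (center E)
  rw [hc, hEc, Subgroup.index_eq_card] at hidx
  have hi1 : i = 1 := by
    interval_cases i
    · norm_num at hge
    · rfl
    · exact (hnc (n := 3) (by omega) (Or.inr rfl)).elim
    · exact (hnc (n := 1) (by omega) (Or.inl rfl)).elim
  rw [hi1, pow_one] at hc
  have heq : Z.subgroupOf E = center E := Subgroup.eq_of_le_of_card_ge hle (by rw [hc, hZE'])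
  have h4 : (⟨y, hy⟩ : E) ∈ center E := mem_center_iff.2 fun g => Subtype.ext (h g g.2)
  rw [← heq] at h4
  exact mem_subgroupOf.1 h4

end Central

end Cfsg.Agent.H133.QS
end

-- part: H133/QS/RelC
section
/-!
# Residues of the degrees of the faithful characters of a triple cover, modulo 13 (helper133)

* `rel13Z` : `χ(1)` is `0, ± 3` modulo 13 if `χ` is not trivial on `Z`.
-/

set_option autoImplicit false
set_option linter.unusedSectionVars false

open Cfsg
open scoped ComplexConjugate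

namespace Cfsg.Agent.H133.QS

open Subgroup
open Cfsg.Agent.Characters.Core Cfsg.Agent.Characters.Linear
open Cfsg.Agent.SmallSimple Cfsg.Agent.SmallSimple.PrimeDual Cfsg.Agent.SmallSimple.ThetaSetup
open Cfsg.Agent.SmallSimple.ThetaOrtho Cfsg.Agent.SmallSimple.ThetaGroup
open Cfsg.Agent.SmallSimple.ThetaCount Cfsg.Agent.SmallSimple.TheoremC Cfsg.Agent.SmallSimple.TheoremCCor
open Cfsg.Agent.M23Order.Base (dg dg_eq dg_of_eq dg_dvd sum_dg_sq_le)
open Cfsg.Agent.H26.Ore Cfsg.Agent.H26.Ore.Nrm Cfsg.Agent.H26.Ore.Rel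
open Cfsg.Agent.H113.QS (Lies exists_lies theta_norm)

universe u

/-- the value at an involution is an integer of the parity of the degree -/
theorem exists_par {H : Type u} [Group H] [Finite H] (θ : IrrCharacter H) {t : H} (ht : t * t = 1) :
    ∃ w : ℤ, (θ : H → ℂ) t = w ∧ (2 : ℤ) ∣ (dg θ : ℤ) - w := by
  obtain ⟨m, h1, h2, -⟩ := H729.Norm.exists_mult (isIrr_isCharacter θ.2) (p := 2) (by norm_num) (by rw [pow_two, ht])
  rw [Finset.sum_range_succ, Finset.sum_range_succ, Finset.sum_range_zero, zero_add] at h1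
  rw [Finset.sum_range_succ, Finset.sum_range_succ, Finset.sum_range_zero, zero_add, pow_zero, pow_one, ← h1] at h2
  refine ⟨(m 0 : ℤ) - m 1, ?_, m 1, ?_⟩
  · push_cast
    push_cast at h2
    linear_combination h2
  · have h3 : ((dg θ : ℤ) : ℂ) = ((m 0 + m 1 : ℤ) : ℂ) := by
      push_cast
      rw [h1, dg_eq]
    have h4 : (dg θ : ℤ) = m 0 + m 1 := by exact_mod_cast h3
    rw [h4]; ring

/-- an irreducible character over a non-trivial character of `Z` vanishes on `E \ Z`, and `3 ∣ θ(1)` -/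
theorem three_dvd {K : Type u} [Group K] [Finite K] {E Z : Subgroup K} (hZ : Z ≤ center K) (hZc : Nat.card Z = 3)
    (hEc : Nat.card E = 27) (hZE : Z ≤ E) (hEZ : ∀ a ∈ E, ∀ b ∈ E, a * b * a⁻¹ * b⁻¹ ∈ Z)
    (hna : ∃ a ∈ E, ∃ b ∈ E, a * b ≠ b * a) {θ : IrrCharacter K} {μ : IrrCharacter Z}
    (hμ : Lies Z (μ : Z → ℂ) (θ : K → ℂ)) (h1 : ∀ ζ : Z, ζ ≠ 1 → (μ : Z → ℂ) ζ ≠ 1) : 3 ∣ dg θ := by
  classical
  have := Fintype.ofFinite K
  have := Fintype.ofFinite E
  have hvan : ∀ y ∈ E, y ∉ Z → (θ : K → ℂ) y = 0 := by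
    intro y hy hyZ
    have h2 : ∃ a ∈ E, a * y ≠ y * a := by
      by_contra hcon
      push Not at hcon
      exact hyZ (mem_of_comm hEc hZc hZE hZ hna hy hcon)
    obtain ⟨a, ha, hay⟩ := h2
    have hζ := hEZ a ha y hy
    set ζ : Z := ⟨a * y * a⁻¹ * y⁻¹, hζ⟩ with hζd
    have hζ1 : ζ ≠ 1 := by
      intro h
      apply hay
      have h3 : a * y * a⁻¹ * y⁻¹ = 1 := congrArg Subtype.val h
      calc a * y = (a * y * a⁻¹ * y⁻¹) * (y * a) := by group
        _ = y * a := by rw [h3, one_mul]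
    have h3 : (θ : K → ℂ) (a * y * a⁻¹) = (θ : K → ℂ) y := isClassFunction_def.1 (isIrr_isClassFunction θ.2) y a
    have h4 : a * y * a⁻¹ = y * ζ := by
      have h5 := mem_center_iff.1 (hZ hζ) y
      calc a * y * a⁻¹ = (a * y * a⁻¹ * y⁻¹) * y := by group
        _ = y * (a * y * a⁻¹ * y⁻¹) := h5.symm
    rw [h4, hμ y ζ] at h3
    have h5 : (θ : K → ℂ) y * ((μ : Z → ℂ) ζ - 1) = 0 := by rw [mul_sub, h3, mul_one, sub_self]
    rcases mul_eq_zero.1 h5 with h | h
    · exact h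
    · exact absurd (sub_eq_zero.1 h) (h1 ζ hζ1)
  -- the norm of the restriction
  obtain ⟨k, hk⟩ := classInner_isNat (G := E) (isCharacter_comp E.subtype (isIrr_isCharacter θ.2))
    (isCharacter_comp E.subtype (isIrr_isCharacter θ.2))
  rw [classInner_def] at hk
  have h2 : ∀ y : E, ((θ : K → ℂ) ∘ E.subtype) y * conj (((θ : K → ℂ) ∘ E.subtype) y) =
      if (y : K) ∈ Z then (dg θ : ℂ) ^ 2 else 0 := by
    intro y
    show (θ : K → ℂ) y * conj ((θ : K → ℂ) y) = _
    split_ifs with hy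
    · have h3 := hμ 1 ⟨y, hy⟩
      rw [one_mul, dg_eq] at h3
      have h4 : (θ : K → ℂ) y = (dg θ : ℂ) * (μ : Z → ℂ) ⟨y, hy⟩ := h3
      have h5 := theta_norm hZ μ ⟨y, hy⟩
      have h6 : (μ : Z → ℂ) ⟨y, hy⟩ * conj ((μ : Z → ℂ) ⟨y, hy⟩) = 1 := by
        rw [Complex.mul_conj, Complex.normSq_eq_norm_sq, h5]; norm_num
      rw [h4, map_mul, map_natCast]
      linear_combination (dg θ : ℂ) ^ 2 * h6
    · rw [hvan y y.2 hy, zero_mul]
  have h3 : ∑ y : E, (if (y : K) ∈ Z then (dg θ : ℂ) ^ 2 else 0) = 3 * (dg θ : ℂ) ^ 2 := by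
    rw [← Finset.sum_filter, Finset.sum_const, nsmul_eq_mul]
    congr 1
    have h4 : (Finset.univ.filter (fun y : E => (y : K) ∈ Z)).card = Nat.card (Z.subgroupOf E) := by
      rw [Nat.card_eq_fintype_card, Fintype.card_subtype]
      congr 1
    rw [h4, Nat.card_congr (subgroupOfEquivOfLe hZE).toEquiv, hZc]
    norm_num
  rw [Finset.sum_congr rfl fun y _ => h2 y, h3, hEc] at hk
  have h4 : ((dg θ ^ 2 : ℕ) : ℂ) = ((9 * k : ℕ) : ℂ) := by
    push_cast at hk ⊢
    linear_combination 9 * hk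
  have h5 : dg θ ^ 2 = 9 * k := by exact_mod_cast h4
  exact Nat.prime_three.dvd_of_dvd_pow (n := 2) (by rw [h5]; exact ⟨3 * k, by ring⟩)

/-- **residues modulo 13 of the faithful characters of a triple cover** -/
theorem rel13Z {G : Type u} [Group G] [Finite G] [Fact (Nat.Prime 13)] {P : Sylow 13 G} {K E Z : Subgroup G}
    (hK : IsComp 13 (P : Subgroup G) K) (hP : Nat.card P = 13)
    (he : (centralizer ((P : Subgroup G) : Set G)).relIndex (normalizer ((P : Subgroup G) : Set G)) = 12)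
    (hKc : Nat.card K = 54) (hZ : Z ≤ center G) (hZc : Nat.card Z = 3) (hEK : E ≤ K) (hEc : Nat.card E = 27)
    (hZE : Z ≤ E) (hEZ : ∀ a ∈ E, ∀ b ∈ E, a * b * a⁻¹ * b⁻¹ ∈ Z) (hna : ∃ a ∈ E, ∃ b ∈ E, a * b ≠ b * a) {z : G}
    (hzK : z ∈ K) (hz : z * z = 1) (hz1 : z ≠ 1) (χ : IrrCharacter G) (hχ : ∃ ζ ∈ Z, (χ : G → ℂ) ζ ≠ (χ : G → ℂ) 1)
    {n : ℤ} (hn : (χ : G → ℂ) 1 = n) : n % 13 = 0 ∨ n % 13 = 3 ∨ n % 13 = 10 := by
  classical
  have : Finite (IrrCharacter K) := finite_irr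
  have := Fintype.ofFinite (IrrCharacter K)
  have h3P : Fact (Nat.Prime 3) := ⟨Nat.prime_three⟩
  have hZK : Z ≤ K := hZE.trans hEK
  obtain ⟨M, hM, hcase⟩ := Gen.exists_mult hK hP he (t := 1) (by norm_num) χ
  have hn1 : n = ∑ θ : IrrCharacter K, (M θ : ℤ) * dg θ := by
    have h1 := hM 1
    rw [OneMemClass.coe_one, hn, Finset.sum_congr rfl fun θ _ => by rw [dg_eq θ]] at h1
    exact_mod_cast h1
  rcases hcase with h0 | ⟨θ, e', hem, c, hc, hin, hout⟩
  · left
    refine Int.emod_eq_zero_of_dvd ?_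
    rw [hn1]
    exact Finset.dvd_sum fun θ _ => Dvd.dvd.mul_right (by exact_mod_cast h0 θ) _
  set m := (orb P K (θ : K → ℂ)).card with hm
  have hm0 : 0 < m := Nat.pos_of_ne_zero (by rintro h; rw [h] at hem; simp at hem)
  have he0 : 0 < e' := Nat.pos_of_ne_zero (by rintro h; rw [h] at hem; simp at hem)
  have he12 : e' ≤ 12 := by rw [← hem]; exact Nat.le_mul_of_pos_right _ hm0
  have hd0 : 0 < dg θ := Nat.pos_of_ne_zero (M23Order.Base.dg_ne_zero θ)
  have hθself : θ ∈ orb P K (θ : K → ℂ) := mem_orb.2 ⟨1, one_mem _, tw_one _⟩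
  have hMθ : M θ ≠ 0 := by
    intro h
    have h1 := hin θ hθself
    rw [h, Nat.cast_zero, zero_sub, dvd_neg] at h1
    rcases hc with rfl | rfl | rfl | rfl
    · omega
    · omega
    · have := Int.le_of_dvd (by exact_mod_cast he0) h1; omega
    · rw [dvd_neg] at h1
      have := Int.le_of_dvd (by exact_mod_cast he0) h1; omega
  -- the residue
  have hres : (13 : ℤ) ∣ n - c * (m * dg θ) := by
    rw [hn1, ← Finset.sum_filter_add_sum_filter_not Finset.univ (fun θ' => θ' ∈ orb P K (θ : K → ℂ)), add_sub_right_comm]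
    refine dvd_add ?_ (Finset.dvd_sum fun θ' h => Dvd.dvd.mul_right
      (by exact_mod_cast hout θ' (Finset.mem_filter.1 h).2) _)
    rw [Finset.filter_mem_eq_inter, Finset.univ_inter]
    have h1 : c * (m * dg θ) = ∑ θ' ∈ orb P K (θ : K → ℂ), c * dg θ' := by
      rw [Finset.sum_congr rfl (g := fun _ => c * (dg θ : ℤ)) (fun θ' h => by rw [dg_orb hK h]), Finset.sum_const,
        nsmul_eq_mul, ← hm]
      ring
    rw [h1, ← Finset.sum_sub_distrib]
    refine Finset.dvd_sum fun θ' h => ?_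
    rw [← sub_mul]
    exact Dvd.dvd.mul_right (hin θ' h) _
  -- the central character
  obtain ⟨μ, hμ⟩ := exists_lies (center_sub (K := K) hZ) θ
  obtain ⟨ν, hν⟩ := exists_lies hZ χ
  have hcen := fun ζ hζ => cen_eq hZK hν hZ hM hMθ hμ ζ hζ
  have hχ1 : (χ : G → ℂ) 1 ≠ 0 := isIrr_apply_one_ne_zero χ.2
  have hνm : ∀ a b : Z, (ν : Z → ℂ) (a * b) = (ν : Z → ℂ) a * (ν : Z → ℂ) b := by
    intro a b
    have e1 := hν 1 (a * b)
    have e2 := hν a b
    have e3 := hν 1 a
    rw [one_mul] at e1 e3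
    rw [show ((a * b : Z) : G) = a * b from rfl, e2, e3, mul_assoc] at e1
    exact (mul_left_cancel₀ hχ1 e1).symm
  have hν1 : (ν : Z → ℂ) 1 = 1 := by
    have e1 := hν 1 1
    rw [OneMemClass.coe_one, mul_one] at e1
    exact (mul_eq_left₀ hχ1).1 e1.symm
  have hνne : ∀ ζ : Z, ζ ≠ 1 → (ν : Z → ℂ) ζ ≠ 1 := by
    intro ζ hζ h
    obtain ⟨ζ₀, hζ₀, h0⟩ := hχ
    have hgen : (⟨ζ₀, hζ₀⟩ : Z) ∈ zpowers ζ := by
      have : zpowers ζ = ⊤ := zpowers_eq_top_of_prime_card hZc hζ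
      rw [this]; trivial
    obtain ⟨k, hk⟩ := Submonoid.mem_powers_iff _ _ |>.1 (mem_powers_iff_mem_zpowers.2 hgen)
    have hpow : ∀ j : ℕ, (ν : Z → ℂ) (ζ ^ j) = 1 := by
      intro j
      induction j with
      | zero => rw [pow_zero, hν1]
      | succ j ih => rw [pow_succ, hνm, ih, h, one_mul]
    have h2 := hν 1 ⟨ζ₀, hζ₀⟩
    rw [one_mul, ← hk, hpow, mul_one] at h2
    exact h0 (by
      have h3 : (ζ₀ : G) = ((ζ ^ k : Z) : G) := by rw [hk]
      rw [h3]; exact h2)
  have hμne : ∀ w : Z.subgroupOf K, w ≠ 1 → (μ : Z.subgroupOf K → ℂ) w ≠ 1 := by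
    intro w hw
    have h1 := hcen ((w : K) : G) (mem_subgroupOf.1 w.2)
    have h2 : (⟨⟨((w : K) : G), hZK (mem_subgroupOf.1 w.2)⟩, mem_subgroupOf.2 (mem_subgroupOf.1 w.2)⟩ :
        Z.subgroupOf K) = w := rfl
    rw [h2] at h1
    rw [h1]
    exact hνne _ fun h => hw (Subtype.ext (Subtype.ext (show ((w : K) : G) = 1 from congrArg Subtype.val h)))
  -- the degree
  have hd3 : 3 ∣ dg θ := by
    refine three_dvd (E := E.subgroupOf K) (center_sub hZ) (by rw [Nat.card_congr (subgroupOfEquivOfLe hZK).toEquiv, hZc])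
      (by rw [Nat.card_congr (subgroupOfEquivOfLe hEK).toEquiv, hEc]) (fun y hy => mem_subgroupOf.2 (hZE (mem_subgroupOf.1 hy)))
      ?_ ?_ hμ hμne
    · intro a ha b hb
      exact mem_subgroupOf.2 (hEZ a (mem_subgroupOf.1 ha) b (mem_subgroupOf.1 hb))
    · obtain ⟨a, ha, b, hb, hab⟩ := hna
      exact ⟨⟨a, hEK ha⟩, mem_subgroupOf.2 ha, ⟨b, hEK hb⟩, mem_subgroupOf.2 hb, fun h => hab (congrArg Subtype.val h)⟩
  have hdc : (dg θ : ℂ) ≠ 0 := by exact_mod_cast hd0.ne'
  have hmu : ∀ z : Z.subgroupOf K, ‖(μ : Z.subgroupOf K → ℂ) z‖ = 1 := fun z => theta_norm (center_sub hZ) μ z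
  have hBes : ∀ S : Finset (IrrCharacter K), (∀ θ' ∈ S, Lies (Z.subgroupOf K) (μ : Z.subgroupOf K → ℂ) (θ' : K → ℂ)) →
      ∑ θ' ∈ S, dg θ' ^ 2 ≤ 18 := by
    intro S hS
    have h3 := card_mul_sum_le (Z.subgroupOf K) S (fun y => (θ : K → ℂ) y / dg θ) (fun y hy => by
        have e1 := hμ 1 ⟨y, hy⟩
        rw [one_mul, dg_eq] at e1
        show ‖(θ : K → ℂ) y / dg θ‖ = 1
        rw [show (θ : K → ℂ) y = dg θ * (μ : Z.subgroupOf K → ℂ) ⟨y, hy⟩ from e1, mul_comm, mul_div_assoc,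
          div_self hdc, mul_one]
        exact hmu _) (fun θ' hθ' y hy => by
        have e1 := hμ 1 ⟨y, hy⟩
        have e2 := hS θ' hθ' 1 ⟨y, hy⟩
        rw [one_mul, dg_eq] at e1 e2
        rw [show (θ : K → ℂ) y = dg θ * (μ : Z.subgroupOf K → ℂ) ⟨y, hy⟩ from e1,
          show (θ' : K → ℂ) y = dg θ' * (μ : Z.subgroupOf K → ℂ) ⟨y, hy⟩ from e2]
        field_simp)
    rw [Nat.card_congr (subgroupOfEquivOfLe hZK).toEquiv, hZc, hKc] at h3
    omega
  have hsq : m * dg θ ^ 2 ≤ 18 := by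
    have h3 := hBes (orb P K (θ : K → ℂ)) (fun θ' h => lies_orb hK hZ hμ h)
    rwa [Finset.sum_congr rfl (g := fun _ => dg θ ^ 2) (fun θ' h => by rw [dg_orb hK h]), Finset.sum_const,
      smul_eq_mul, ← hm] at h3
  have hdg : dg θ = 3 := by
    have h3 : dg θ ^ 2 ≤ 18 := le_trans (Nat.le_mul_of_pos_left _ hm0) hsq
    have h4 : dg θ ≤ 4 := by
      by_contra hne
      have : 5 ≤ dg θ := by omega
      nlinarith only [hem, he12, hsq, hne]
    obtain ⟨j, hj⟩ := hd3
    omega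
  -- `m = 1`
  have hm1 : m = 1 := by
    by_contra hne
    have hm2 : m = 2 := by rw [hdg] at hsq; omega
    have hS : ∀ θ' : IrrCharacter K, θ' ∈ orb P K (θ : K → ℂ) ↔
        Lies (Z.subgroupOf K) (μ : Z.subgroupOf K → ℂ) (θ' : K → ℂ) := by
      intro θ'
      refine ⟨fun h => lies_orb hK hZ hμ h, fun h => ?_⟩
      by_contra hnot
      have h1 := hBes (insert θ' (orb P K (θ : K → ℂ))) (fun θ'' h'' => by
        rcases Finset.mem_insert.1 h'' with rfl | h''
        · exact h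
        · exact lies_orb hK hZ hμ h'')
      rw [Finset.sum_insert hnot, Finset.sum_congr rfl (g := fun _ => dg θ ^ 2) (fun θ' h => by rw [dg_orb hK h]),
        Finset.sum_const, smul_eq_mul, ← hm, hm2, hdg] at h1
      have h2 : 0 < dg θ' := Nat.pos_of_ne_zero (M23Order.Base.dg_ne_zero θ')
      have h3 : 0 < dg θ' ^ 2 := pow_pos h2 2
      omega
    have hzc : ∀ ζ ∈ Z.subgroupOf K, ¬ IsConj ζ (⟨z, hzK⟩ : K) := by
      intro ζ hζ h
      obtain ⟨g, hg⟩ := isConj_iff.1 h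
      have h1 := mem_center_iff.1 (center_sub hZ hζ) g
      rw [h1, mul_inv_cancel_right] at hg
      have h2 : z ∈ Z := by rw [hg] at hζ; exact mem_subgroupOf.1 hζ
      have h3 := Subgroup.orderOf_dvd_natCard Z h2
      rw [hZc] at h3
      have h4 : orderOf z = 2 := orderOf_eq_prime (by rw [pow_two, hz]) hz1
      rw [h4] at h3
      omega
    have horth := sum_over (center_sub hZ) μ hzc _ hS
    obtain ⟨w, hw, hpar⟩ := exists_par θ (t := (⟨z, hzK⟩ : K)) (Subtype.ext hz)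
    have hconst : ∀ θ' ∈ orb P K (θ : K → ℂ), (θ' : K → ℂ) ⟨z, hzK⟩ = w := by
      intro θ' h'
      obtain ⟨g, hg, h1⟩ := mem_orb.1 h'
      rw [← h1, tw_apply hK _ hg, ← hw]
      -- the two involutions are conjugate in `K`
      have hg1 : g * z * g⁻¹ ≠ 1 := by
        intro h
        apply hz1
        calc z = g⁻¹ * (g * z * g⁻¹) * g := by group
          _ = 1 := by rw [h]; group
      have hg2 : g * z * g⁻¹ * (g * z * g⁻¹) = 1 := by
        calc g * z * g⁻¹ * (g * z * g⁻¹) = g * (z * z) * g⁻¹ := by group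
          _ = 1 := by rw [hz, mul_one, mul_inv_cancel]
      have o1 : orderOf (⟨z, hzK⟩ : K) = 2 := orderOf_eq_prime (by rw [pow_two]; exact Subtype.ext hz)
        fun h => hz1 (congrArg Subtype.val h)
      have o2 : orderOf (⟨g * z * g⁻¹, conj_mem hK hg hzK⟩ : K) = 2 :=
        orderOf_eq_prime (by rw [pow_two]; exact Subtype.ext hg2) fun h => hg1 (congrArg Subtype.val h)
      obtain ⟨y, hy⟩ := H845.T13Concl.exists_conj_of_card_prime Nat.prime_two (by rw [hKc]; norm_num)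
        (zpowers (⟨z, hzK⟩ : K)) (zpowers (⟨g * z * g⁻¹, conj_mem hK hg hzK⟩ : K))
        (by rw [Nat.card_zpowers, o1]) (by rw [Nat.card_zpowers, o2])
      have h2 : y * ⟨z, hzK⟩ * y⁻¹ ∈ zpowers (⟨g * z * g⁻¹, conj_mem hK hg hzK⟩ : K) := by
        rw [← hy]
        exact ⟨⟨z, hzK⟩, mem_zpowers _, rfl⟩
      have h3 : y * (⟨z, hzK⟩ : K) * y⁻¹ = ⟨g * z * g⁻¹, conj_mem hK hg hzK⟩ := by
        obtain ⟨k, hk⟩ := Submonoid.mem_powers_iff _ _ |>.1 (mem_powers_iff_mem_zpowers.2 h2)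
        rw [← pow_mod_orderOf, o2] at hk
        have hk2 : k % 2 < 2 := Nat.mod_lt _ (by norm_num)
        interval_cases hkk : k % 2
        · exfalso
          rw [pow_zero] at hk
          apply hz1
          have h4 : y⁻¹ * (y * (⟨z, hzK⟩ : K) * y⁻¹) * y = y⁻¹ * 1 * y := by rw [← hk]
          have h5 : (⟨z, hzK⟩ : K) = 1 := by
            calc (⟨z, hzK⟩ : K) = y⁻¹ * (y * (⟨z, hzK⟩ : K) * y⁻¹) * y := by group
              _ = y⁻¹ * 1 * y := h4
              _ = 1 := by group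
          exact congrArg Subtype.val h5
        · rw [pow_one] at hk
          exact hk.symm
      rw [← h3]
      exact isClassFunction_def.1 (isIrr_isClassFunction θ.2) _ _
    rw [Finset.sum_congr rfl (g := fun _ => ((3 : ℂ) * w)) (fun θ' h => by
      rw [dg_orb hK h, hdg, hconst θ' h, map_intCast]; norm_num), Finset.sum_const, nsmul_eq_mul, ← hm, hm2]
      at horth
    have hw0 : w = 0 := by
      have h1 : ((2 : ℕ) : ℂ) * (3 * (w : ℂ)) = ((6 * w : ℤ) : ℂ) := by push_cast; ring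
      rw [h1] at horth
      have h2 : 6 * w = 0 := by exact_mod_cast horth
      omega
    rw [hw0, hdg] at hpar
    norm_num at hpar
  rw [hm1, hdg] at hres
  have he' : e' = 12 := by rw [hm1] at hem; omega
  subst he'
  norm_num at hres
  rcases hc with rfl | rfl | rfl | rfl <;> norm_num only [_root_.sub_neg_eq_add] at hres <;> (clear * - hres; omega)

end Cfsg.Agent.H133.QS
end

-- part: H133/QS/Lift
section
/-!
# Local subgroups in a central extension with kernel of order prime to `p` (helper133)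

`π : L →* K` onto, `ker π` central of order prime to `p`, `|K|_p = p`, `x₀ ∈ K` of order `p`.
* `exists_sylow` : a Sylow subgroup `P = ⟨x⟩` over `⟨x₀⟩`, `C(P)`, `N(P)` are the preimages;
* `lift4` : the lift of an elementary abelian 2-subgroup (`|ker π|` odd).
-/

set_option autoImplicit false
set_option linter.unusedSectionVars false

namespace Cfsg.Agent.H133.QS

open Subgroup
open Cfsg.Agent.H113.QS (exists_lift card_eq_mul eq_one_of_ker)

universe u v

variable {L : Type u} [Group L] [Finite L] {K : Type v} [Group K] [Finite K] {π : L →* K}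

theorem conj_aux (hc : π.ker ≤ center L) {p : ℕ} (hp : p.Prime) (hZ : ¬ p ∣ Nat.card π.ker) {a b : L}
    (ha : a ^ p = 1) (hb : b ^ p = 1) (h : π a = π b) : a = b := by
  have h1 : b⁻¹ * a ∈ π.ker := by rw [MonoidHom.mem_ker, map_mul, map_inv, h, inv_mul_cancel]
  have h2 : (b⁻¹ * a) ^ p = 1 := by
    have h3 : Commute b (b⁻¹ * a) := mem_center_iff.1 (hc h1) b
    have h4 : a = b * (b⁻¹ * a) := by group
    rw [h4, h3.mul_pow, hb, one_mul] at ha
    exact ha
  have h3 := eq_one_of_ker hp hZ h1 h2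
  calc a = b * (b⁻¹ * a) := by group
    _ = b := by rw [h3, mul_one]

/-- **The Sylow subgroup over `⟨x₀⟩`.** -/
theorem exists_sylow (hs : Function.Surjective π) (hc : π.ker ≤ center L) {p : ℕ} (hp : p.Prime)
    (hZ : ¬ p ∣ Nat.card π.ker) (h2 : ¬ p ^ 2 ∣ Nat.card K) {x₀ : K} (hx₀ : orderOf x₀ = p) :
    ∃ (x : L) (P : Sylow p L), orderOf x = p ∧ π x = x₀ ∧ (P : Subgroup L) = zpowers x ∧ Nat.card P = p ∧
      centralizer ((P : Subgroup L) : Set L) = (centralizer ((zpowers x₀ : Subgroup K) : Set K)).comap π ∧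
      normalizer ((P : Subgroup L) : Set L) = (normalizer ((zpowers x₀ : Subgroup K) : Set K)).comap π := by
  obtain ⟨x, hx, hπ⟩ := exists_lift hs hp hZ hx₀
  have hcL : ¬ p ^ 2 ∣ Nat.card L := by
    intro h
    rw [card_eq_mul hs] at h
    exact h2 ((Nat.Coprime.pow_left 2 ((hp.coprime_iff_not_dvd).2 hZ)).dvd_of_dvd_mul_left h)
  have hpL : p ∣ Nat.card L := by rw [← hx]; exact _root_.orderOf_dvd_natCard x
  have hpg : IsPGroup p (zpowers x) := IsPGroup.of_card (n := 1) (by rw [Nat.card_zpowers, hx, pow_one])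
  have : Fact p.Prime := ⟨hp⟩
  obtain ⟨P, hxP⟩ := hpg.exists_le_sylow
  have hP : Nat.card (P : Subgroup L) = p := SmallSimple.PrimeLocal.card_of_not_sq_dvd hpL hcL P
  have hPx : (P : Subgroup L) = zpowers x := by
    symm
    apply Subgroup.eq_of_le_of_card_ge hxP
    rw [Nat.card_zpowers, hx]
    exact hP.le
  have hxp : x ^ p = 1 := by rw [← hx, pow_orderOf_eq_one]
  refine ⟨x, P, hx, hπ, hPx, hP, ?_, ?_⟩
  · ext y
    rw [hPx, mem_comap, mem_centralizer_iff, mem_centralizer_iff]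
    constructor
    · rintro h k ⟨i, rfl⟩
      have := h x (mem_zpowers x)
      show x₀ ^ i * π y = π y * x₀ ^ i
      have h1 : Commute x₀ (π y) := by
        rw [← hπ]
        show π x * π y = π y * π x
        rw [← map_mul, this, map_mul]
      exact (h1.zpow_left i).eq
    · rintro h k ⟨i, rfl⟩
      have h1 := h x₀ (mem_zpowers x₀)
      have h3 : y * x * y⁻¹ = x := by
        apply conj_aux hc hp hZ (by rw [conj_pow, hxp, mul_one, mul_inv_cancel]) hxp
        rw [map_mul, map_mul, map_inv, hπ, ← h1, mul_inv_cancel_right]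
      have h4 : Commute x y := by
        show x * y = y * x
        calc x * y = (y * x * y⁻¹) * y := by rw [h3]
          _ = y * x := by group
      exact (h4.zpow_left i).eq
  · ext y
    rw [hPx, mem_comap]
    constructor
    · intro h
      apply Subgroup.mem_normalizer_fintype
      rintro k ⟨i, rfl⟩
      have h1 := (mem_normalizer_iff.1 h (x ^ i)).1 (zpow_mem (mem_zpowers x) i)
      have h3 : π y * x₀ ^ i * (π y)⁻¹ = π (y * x ^ i * y⁻¹) := by
        rw [map_mul, map_mul, map_inv, map_zpow, hπ]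
      show π y * x₀ ^ i * (π y)⁻¹ ∈ zpowers x₀
      rw [h3]
      obtain ⟨j, hj⟩ := mem_zpowers_iff.1 h1
      rw [← hj, map_zpow, hπ]
      exact zpow_mem (mem_zpowers x₀) j
    · intro h
      apply Subgroup.mem_normalizer_fintype
      rintro k ⟨i, rfl⟩
      have h1 := (mem_normalizer_iff.1 h x₀).1 (mem_zpowers x₀)
      obtain ⟨j, hj⟩ := mem_zpowers_iff.1 h1
      have h3 : y * x * y⁻¹ = x ^ j := by
        apply conj_aux hc hp hZ (by rw [conj_pow, hxp, mul_one, mul_inv_cancel])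
          (by rw [← zpow_natCast, ← zpow_mul, mul_comm, zpow_mul, zpow_natCast, hxp, one_zpow])
        rw [map_mul, map_mul, map_inv, map_zpow, hπ, hj]
      show y * x ^ i * y⁻¹ ∈ zpowers x
      rw [← conj_zpow, h3]
      exact zpow_mem (zpow_mem (mem_zpowers x) j) i

theorem card_comap' (hs : Function.Surjective π) (C : Subgroup K) :
    Nat.card (C.comap π) = Nat.card π.ker * Nat.card C := by
  have h1 := Subgroup.card_mul_index (C.comap π)
  have h2 := Subgroup.card_mul_index C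
  rw [Subgroup.index_comap_of_surjective C hs, card_eq_mul hs, ← h2] at h1
  have h3 : 0 < C.index := Nat.pos_of_ne_zero C.index_ne_zero_of_finite
  apply Nat.eq_of_mul_eq_mul_right h3
  rw [h1]; ring

theorem relIndex_comap' (hs : Function.Surjective π) (C N : Subgroup K) :
    (C.comap π).relIndex (N.comap π) = C.relIndex N := by
  rw [Subgroup.relIndex_comap, Subgroup.map_comap_eq_self_of_surjective hs]

/-- the involutions of the preimage of an elementary abelian 2-subgroup -/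
def lift2 (π : L →* K) (hc : π.ker ≤ center L) (ho : Odd (Nat.card π.ker)) (A : Subgroup K)
    (hA : ∀ a ∈ A, a * a = 1) : Subgroup L where
  carrier := {b | π b ∈ A ∧ b * b = 1}
  one_mem' := ⟨by rw [map_one]; exact one_mem A, one_mul 1⟩
  mul_mem' := by
    rintro a b ⟨ha, haa⟩ ⟨hb, hbb⟩
    refine ⟨by rw [map_mul]; exact mul_mem ha hb, ?_⟩
    have hk : a * b * (a * b) ∈ π.ker := by
      rw [MonoidHom.mem_ker, map_mul, map_mul]
      exact hA _ (mul_mem ha hb)
    have h1 := mem_center_iff.1 (hc hk) a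
    have h2 : a * b * (a * b) * (a * b * (a * b)) = 1 := by
      calc a * b * (a * b) * (a * b * (a * b)) = a * (b * a * b * (a * b * (a * b))) := by group
        _ = a * (b * a * b * (a * b * (a * b))) * (a * a) := by rw [haa, mul_one]
        _ = a * (b * a * b * (a * b * (a * b) * a)) * a := by group
        _ = a * (b * a * b * (a * (a * b * (a * b)))) * a := by rw [h1]
        _ = a * b * a * b * (a * a) * b * a * b * a := by group
        _ = a * b * a * (b * b) * a * b * a := by rw [haa]; group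
        _ = a * b * (a * a) * b * a := by rw [hbb]; group
        _ = a * (b * b) * a := by rw [haa]; group
        _ = 1 := by rw [hbb, mul_one, haa]
    exact eq_one_of_ker (p := 2) Nat.prime_two (fun h => by
      rw [← Nat.not_even_iff_odd] at ho
      exact ho (even_iff_two_dvd.2 h)) hk (by rw [pow_two]; exact h2)
  inv_mem' := by
    rintro a ⟨ha, haa⟩
    have : a⁻¹ = a := inv_eq_of_mul_eq_one_right haa
    show π a⁻¹ ∈ A ∧ a⁻¹ * a⁻¹ = 1
    rw [this]
    exact ⟨ha, haa⟩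

variable (hc : π.ker ≤ center L) (ho : Odd (Nat.card π.ker)) {A : Subgroup K} (hA : ∀ a ∈ A, a * a = 1)

theorem mem_lift2 {b : L} : b ∈ lift2 π hc ho A hA ↔ π b ∈ A ∧ b * b = 1 := Iff.rfl

include hc ho in
theorem eq_of_sq {a b : L} (haa : a * a = 1) (hbb : b * b = 1) (h : π a = π b) : a = b :=
  conj_aux hc (p := 2) Nat.prime_two (fun h => by
    have h2 := ho
    rw [← Nat.not_even_iff_odd] at h2
    exact h2 (even_iff_two_dvd.2 h)) (by rw [pow_two]; exact haa) (by rw [pow_two]; exact hbb) h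

include hc ho in
/-- the lift of an involution -/
theorem exists_sq (hs : Function.Surjective π) {a : K} (ha : a * a = 1) : ∃ b : L, b * b = 1 ∧ π b = a := by
  obtain ⟨b, rfl⟩ := hs a
  obtain ⟨k, hk⟩ := ho
  refine ⟨b ^ Nat.card π.ker, ?_, ?_⟩
  · have h1 : b * b ∈ π.ker := by rw [MonoidHom.mem_ker, map_mul, ha]
    have h2 : (⟨b * b, h1⟩ : π.ker) ^ Nat.card π.ker = 1 := pow_card_eq_one'
    have h3 : (b * b) ^ Nat.card π.ker = 1 := congrArg Subtype.val h2
    rw [← pow_add, ← two_mul, pow_mul, pow_two, h3]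
  · rw [map_pow, hk, pow_succ, pow_mul, pow_two, ha, one_pow, one_mul]

theorem card_lift2 (hs : Function.Surjective π) : Nat.card (lift2 π hc ho A hA) = Nat.card A := by
  refine Nat.card_congr (Equiv.ofBijective (fun b => (⟨π b, b.2.1⟩ : A)) ⟨?_, ?_⟩)
  · intro a b h
    exact Subtype.ext (eq_of_sq hc ho a.2.2 b.2.2 (congrArg Subtype.val h))
  · rintro ⟨a, ha⟩
    obtain ⟨b, hb, hπ⟩ := exists_sq hc ho hs (hA a ha)
    exact ⟨⟨b, by rw [mem_lift2]; exact ⟨by rw [hπ]; exact ha, hb⟩⟩, Subtype.ext hπ⟩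

end Cfsg.Agent.H133.QS
end

-- part: H133/QS/D13Data
section
/-!
# A word of `Fi24` conjugating the element `x` of order 13 to `x ^ 7` (helper133, data and kernel check)
-/

set_option autoImplicit false
set_option maxRecDepth 100000
set_option Elab.async false

namespace Cfsg.Agent.H133.QS.D13Data

open Cfsg.Agent.H845.T13Data
open Cfsg.Spor.Fi24 (Gen)

def gw : List Gen := [.b, .i, .a, .b, .c, .d, .h, .f, .e, .d, .c, .b, .a, .d, .h, .i, .f, .d, .e, .c, .d, .h, .d, .e, .f, .g, .j, .c, .d, .e, .f, .g, .d, .e, .c, .d, .h, .i, .d, .h, .c, .d, .e, .b, .c, .d, .h, .f, .e, .d, .c, .b, .k, .a, .l, .k, .c, .b, .a, .i, .f, .e, .c, .d, .h, .d, .e, .f, .g, .j, .c, .d, .e, .f, .g, .h, .e, .f, .d, .e, .c, .d, .h, .f, .e, .d, .c, .b, .a, .f, .e, .d, .h, .c, .d, .e, .f, .g, .j, .g, .h, .i]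

theorem chk : E (gw ++ (wx ++ gw.reverse)) (wx ++ (wx ++ (wx ++ (wx ++ (wx ++ (wx ++ wx)))))) = true := by
  (rewrite [show @Cfsg.Agent.H845.T13Data.E = delta% @Cfsg.Agent.H845.T13Data.E from by delta Cfsg.Agent.H845.T13Data.E; rfl, show @Cfsg.Agent.H845.T13Data.chkGens = delta% @Cfsg.Agent.H845.T13Data.chkGens from by delta Cfsg.Agent.H845.T13Data.chkGens; rfl, show @Cfsg.Agent.Lib.PermNetPt.chkPt = delta% @Cfsg.Agent.Lib.PermNetPt.chkPt from by delta Cfsg.Agent.Lib.PermNetPt.chkPt; rfl, Cfsg.Agent.Lib.PermNetFast.winv_fast]; decide +kernel)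

end Cfsg.Agent.H133.QS.D13Data
end

-- part: H133/QS/D13
section
/-!
# `Fi24'`: centralizer and normalizer of an element of order 13 (helper133)

`T13Concl.Facts G D l k u v x s`, `g x g⁻¹ = x ^ 7`: `|C(x)| = 468`, `|N(x)| = 5616`; in a subgroup `H` of index 2 with
`D ∩ H = ∅`: `|C_H(x)| = 234`, `|N_H(x) : C_H(x)| = 12`.
-/

set_option autoImplicit false
set_option linter.unusedSectionVars false
set_option maxRecDepth 10000

open Cfsg

namespace Cfsg.Agent.H133.QS.D13

open Subgroup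
open Cfsg.Agent.H845.T13Concl
open Cfsg.Agent.H26.Ore.R13

universe u

section

variable {G : Type u} [Group G] [Finite G] {D : Set G} {l k u v x s : G} (h : Facts G D l k u v x s)

theorem card_four {a b : G} (aa : a * a = 1) (bb : b * b = 1) (ab : a * b = b * a) (a1 : a ≠ 1) (b1 : b ≠ 1)
    (hne : a ≠ b) : Nat.card ↥(zpowers a ⊔ zpowers b) = 4 := by
  have hcomm : ∀ (p : zpowers a) (q : zpowers b), Commute ((zpowers a).subtype p) ((zpowers b).subtype q) := by
    rintro ⟨_, i, rfl⟩ ⟨_, j, rfl⟩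
    exact ((show Commute a b from ab).zpow_left i).zpow_right j
  have oa : orderOf a = 2 := orderOf_eq_prime (by rw [pow_two, aa]) a1
  have ob : orderOf b = 2 := orderOf_eq_prime (by rw [pow_two, bb]) b1
  have hz : ∀ {c : G}, c * c = 1 → ∀ i : ℤ, c ^ i = 1 ∨ c ^ i = c := by
    intro c hc i
    rcases Int.even_or_odd' i with ⟨j, rfl | rfl⟩
    · left; rw [zpow_mul, zpow_two, hc, one_zpow]
    · right; rw [zpow_add, zpow_mul, zpow_two, hc, one_zpow, one_mul, zpow_one]
  have hdis : Disjoint (zpowers a) (zpowers b) := by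
    rw [disjoint_def]
    rintro y ⟨i, hi⟩ ⟨j, hj⟩
    have hi' : a ^ i = y := hi
    have hj' : b ^ j = y := hj
    rcases hz aa i with e | e
    · rw [← hi', e]
    · rcases hz bb j with e' | e'
      · rw [← hj', e']
      · exact absurd (e.symm.trans (hi'.trans (hj'.symm.trans e'))) hne
  have hinj : Function.Injective (MonoidHom.noncommCoprod (zpowers a).subtype (zpowers b).subtype hcomm) := by
    rw [MonoidHom.noncommCoprod_injective]
    refine ⟨subtype_injective _, subtype_injective _, ?_⟩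
    rw [range_subtype, range_subtype]
    exact hdis
  have hr := MonoidHom.noncommCoprod_range (zpowers a).subtype (zpowers b).subtype hcomm
  rw [range_subtype, range_subtype] at hr
  have h1 := Nat.card_congr (MonoidHom.ofInjective hinj).toEquiv
  rw [hr, Nat.card_prod, Nat.card_zpowers, Nat.card_zpowers, oa, ob] at h1
  exact h1.symm

include h

theorem order_x : orderOf x = 13 := by
  have : Fact (Nat.Prime 13) := ⟨by norm_num⟩
  exact orderOf_eq_prime h.x13 h.x1

theorem ne_one_l : l ≠ 1 := fun e => h.lkn (by rw [e, one_mul, mul_one])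
theorem ne_one_u : u ≠ 1 := fun e => h.uvn (by rw [e, one_mul, mul_one])
theorem ne_lu : l ≠ u := fun e => h.lkn (by rw [e]; exact h.ku.symm)

theorem A_le_C : A l k u v ≤ centralizer ((zpowers x : Subgroup G) : Set G) := by
  refine le_trans ?_ (T_le_C h)
  rw [A, sup_le_iff, zpowers_le, zpowers_le]
  exact ⟨mul_mem (_root_.Subgroup.subset_closure (by simp)) (_root_.Subgroup.subset_closure (by simp)),
    mul_mem (_root_.Subgroup.subset_closure (by simp)) (_root_.Subgroup.subset_closure (by simp))⟩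

theorem dvd_C : 468 ∣ Nat.card (centralizer ((zpowers x : Subgroup G) : Set G)) := by
  have h13 : 13 ∣ Nat.card (centralizer ((zpowers x : Subgroup G) : Set G)) := by
    rw [← card_x h]
    refine card_dvd_of_le ?_
    rw [zpowers_le, mem_centralizer_iff]
    rintro y ⟨i, rfl⟩
    exact ((Commute.refl x).zpow_left i).eq
  have h9 : 9 ∣ Nat.card (centralizer ((zpowers x : Subgroup G) : Set G)) := by
    rw [← card_A h]
    exact card_dvd_of_le (A_le_C h)
  have h4 : 4 ∣ Nat.card (centralizer ((zpowers x : Subgroup G) : Set G)) := by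
    rw [← card_four h.ll h.uu h.lu (ne_one_l h) (ne_one_u h) (ne_lu h)]
    refine card_dvd_of_le ?_
    rw [sup_le_iff, zpowers_le, zpowers_le]
    exact ⟨T_le_C h (_root_.Subgroup.subset_closure (by simp)), T_le_C h (_root_.Subgroup.subset_closure (by simp))⟩
  exact Nat.Coprime.mul_dvd_of_dvd_of_dvd (by norm_num : Nat.Coprime 36 13)
    (Nat.Coprime.mul_dvd_of_dvd_of_dvd (by norm_num : Nat.Coprime 4 9) h4 h9) h13

/-- **The cardinalities.** -/
theorem cards {g : G} (hg : g * x * g⁻¹ = x ^ 7) :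
    Nat.card (centralizer ((zpowers x : Subgroup G) : Set G)) = 468 ∧
      Nat.card (normalizer ((zpowers x : Subgroup G) : Set G)) = 5616 := by
  have he : orderOf ((7 : ℕ) : ZMod 13) = 12 := by
    refine orderOf_eq_of_pow_and_pow_div_prime (by norm_num) (by decide) ?_
    intro q hq hd
    have h2 : q ∈ Nat.primeFactors 12 := Nat.mem_primeFactors.2 ⟨hq, hd, by norm_num⟩
    have h3 : Nat.primeFactors 12 = {2, 3} := by decide +kernel
    rw [h3] at h2
    simp only [Finset.mem_insert, Finset.mem_singleton] at h2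
    rcases h2 with rfl | rfl <;> decide
  have : Fact (Nat.Prime 13) := ⟨by norm_num⟩
  have h1 := H843.Cyc.dvd_card (p := 13) (order_x h) hg he
  have h2 := H256.Sep.FiData.card13 h
  have h3 : 12 * Nat.card (centralizer ((zpowers x : Subgroup G) : Set G)) ∣ 12 * 468 := h1.trans h2
  have h4 : Nat.card (centralizer ((zpowers x : Subgroup G) : Set G)) = 468 :=
    Nat.dvd_antisymm (Nat.dvd_of_mul_dvd_mul_left (by norm_num) h3) (dvd_C h)
  refine ⟨h4, ?_⟩
  rw [h4] at h1
  exact Nat.dvd_antisymm h2 h1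

end

section

variable {G : Type u} [Group G] [Finite G] {D : Set G} {l k u v x s : G} (h : Facts G D l k u v x s)
  {H : Subgroup G} (hH : H.index = 2) (hodd : ∀ d ∈ D, d ∉ H)

include h hH

theorem x_mem : x ∈ H := by
  have h1 : x = (x ^ 7) * (x ^ 7) := by
    rw [← pow_add, show 7 + 7 = 13 + 1 from rfl, pow_succ, h.x13, one_mul]
  rw [h1]
  exact (mul_mem_iff_of_index_two hH).2 Iff.rfl

theorem cent_eq : centralizer ((zpowers (⟨x, x_mem h hH⟩ : H) : Subgroup H) : Set H) =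
    (centralizer ((zpowers x : Subgroup G) : Set G)).subgroupOf H := by
  rw [cen_sub, MonoidHom.map_zpowers]
  rfl

theorem norm_eq : normalizer ((zpowers (⟨x, x_mem h hH⟩ : H) : Subgroup H) : Set H) =
    (normalizer ((zpowers x : Subgroup G) : Set G)).subgroupOf H := by
  rw [norm_sub, MonoidHom.map_zpowers]
  rfl

theorem order' : orderOf (⟨x, x_mem h hH⟩ : H) = 13 := by
  rw [← orderOf_coe]
  exact order_x h

include hodd

theorem card_C {g : G} (hg : g * x * g⁻¹ = x ^ 7) :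
    Nat.card (centralizer ((zpowers (⟨x, x_mem h hH⟩ : H) : Subgroup H) : Set H)) = 234 := by
  have h1 := card_sub hH (T_le_C h (_root_.Subgroup.subset_closure (by simp) : l ∈ _root_.Subgroup.closure ({l, u, v, k} : Set G))) (hodd l h.hl)
  rw [(cards h hg).1, ← cent_eq h hH] at h1
  omega

theorem card_N {g : G} (hg : g * x * g⁻¹ = x ^ 7) :
    Nat.card (normalizer ((zpowers (⟨x, x_mem h hH⟩ : H) : Subgroup H) : Set H)) = 2808 := by
  have h1 := card_sub hH (centralizer_le_normalizer _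
    (T_le_C h (_root_.Subgroup.subset_closure (by simp) : l ∈ _root_.Subgroup.closure ({l, u, v, k} : Set G)))) (hodd l h.hl)
  rw [(cards h hg).2, ← norm_eq h hH] at h1
  omega

theorem relIndex_eq {g : G} (hg : g * x * g⁻¹ = x ^ 7) :
    (centralizer ((zpowers (⟨x, x_mem h hH⟩ : H) : Subgroup H) : Set H)).relIndex
      (normalizer ((zpowers (⟨x, x_mem h hH⟩ : H) : Subgroup H) : Set H)) = 12 := by
  have h1 := card_mul_relIndex (centralizer_le_normalizer
    ((zpowers (⟨x, x_mem h hH⟩ : H) : Subgroup H) : Set H))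
  rw [card_C h hH hodd hg, card_N h hH hodd hg] at h1
  omega

end

/-- the element of the normalizer in `Fi24` -/
theorem conj7 : Fischer.Fi24Rep.word D13Data.gw * H845.T13.x * (Fischer.Fi24Rep.word D13Data.gw)⁻¹ = H845.T13.x ^ 7 := by
  have h := H845.T13.of_E D13Data.chk
  simp only [Fischer.Fi24Spider.word_append, KFacts.FiTF.Pts.word_reverse] at h
  rw [mul_assoc]
  refine h.trans ?_
  show _ = (Fischer.Fi24Rep.word H845.T13Data.wx) ^ 7
  simp only [pow_succ, pow_zero, one_mul, mul_assoc]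

end Cfsg.Agent.H133.QS.D13
end

-- part: H133/QS/R13
section
/-!
# Residues modulo 13 of the degrees of the faithful characters of the triple cover of `Fi24'` (helper133)
-/

set_option autoImplicit false
set_option linter.unusedSectionVars false
set_option maxRecDepth 100000

open Cfsg

namespace Cfsg.Agent.H133.QS.R13

open Subgroup
open Cfsg.Agent.H845.T13Concl
open Cfsg.Agent.H26.Ore.R13
open Cfsg.Agent.SmallSimple.ThetaSetup
open Cfsg.Spor (Fi24)

universe u w

section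

variable {G : Type u} [Group G] [Finite G] {D : Set G} {l k u v x s : G} (h : Facts G D l k u v x s)

include h in
theorem A_comm {a b : G} (ha : a ∈ A l k u v) (hb : b ∈ A l k u v) : a * b = b * a := by
  obtain ⟨p, ⟨i, rfl⟩, q, ⟨j, rfl⟩, rfl⟩ := exists_of_mem h ha
  obtain ⟨p', ⟨i', rfl⟩, q', ⟨j', rfl⟩, rfl⟩ := exists_of_mem h hb
  have c := commlk h
  have e1 : Commute ((l * k) ^ i * (u * v) ^ j) ((l * k) ^ i') :=
    ((Commute.refl (l * k)).zpow_zpow i i').mul_left (c.symm.zpow_zpow j i')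
  have e2 : Commute ((l * k) ^ i * (u * v) ^ j) ((u * v) ^ j') :=
    (c.zpow_zpow i j').mul_left ((Commute.refl (u * v)).zpow_zpow j j')
  exact (e1.mul_right e2).eq

variable {H : Subgroup G} (hH : H.index = 2) (hodd : ∀ d ∈ D, d ∉ H)

include h hH hodd in
theorem A_le : A l k u v ≤ H := by
  have hmul : ∀ {a c : G}, a ∈ D → c ∈ D → a * c ∈ H := fun {a c} ha hc =>
    (mul_mem_iff_of_index_two hH).2 ⟨fun h1 => absurd h1 (hodd a ha), fun h1 => absurd h1 (hodd c hc)⟩
  rw [A, sup_le_iff, zpowers_le, zpowers_le]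
  exact ⟨hmul h.hl h.hk, hmul h.hu h.hv⟩

include h hH hodd in
/-- **Residues modulo 13 in a triple cover.** -/
theorem main {g : G} (hg : g * x * g⁻¹ = x ^ 7) {Y : Type w} [Group Y] [Finite Y] {π : Y →* H}
    (hs : Function.Surjective π) (hc : π.ker ≤ center Y) (h3 : Nat.card π.ker = 3)
    (hT : ∃ a b : Y, (π a : G) = l * k ∧ (π b : G) = u * v ∧ a * b ≠ b * a) (χ : IrrCharacter Y)
    (hχ : ∃ ζ ∈ π.ker, (χ : Y → ℂ) ζ ≠ (χ : Y → ℂ) 1) {n : ℤ} (hn : (χ : Y → ℂ) 1 = n) :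
    n % 13 = 0 ∨ n % 13 = 3 ∨ n % 13 = 10 := by
  have hF : Fact (Nat.Prime 13) := ⟨by norm_num⟩
  have ho : Odd (Nat.card π.ker) := by rw [h3]; decide
  have hnsq : ¬ 13 ^ 2 ∣ Nat.card H := by
    intro h1
    have h2 := h1.trans (card_subgroup_dvd_card H)
    rw [h.card] at h2
    norm_num at h2
  obtain ⟨x', P, hx', hπx, hPx, hcP, hCP, hNP⟩ := exists_sylow hs hc hF.out (by rw [h3]; norm_num) hnsq
    (D13.order' h hH)
  obtain ⟨K, hK⟩ := exists_isComp P hcP
  have hC : Nat.card (centralizer ((P : Subgroup Y) : Set Y)) = 3 * 234 := by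
    rw [hCP, card_comap' hs, h3, D13.card_C h hH hodd hg]
  have he : (centralizer ((P : Subgroup Y) : Set Y)).relIndex (normalizer ((P : Subgroup Y) : Set Y)) = 12 := by
    rw [hCP, hNP, relIndex_comap' hs, D13.relIndex_eq h hH hodd hg]
  have hKc : Nat.card K = 54 := by
    have h1 := (Nat.card_congr (_root_.Cfsg.Agent.SmallSimple.ThetaSetup.prodEquiv hK hcP).toEquiv).trans hC
    rw [Nat.card_prod] at h1
    have h2 : Nat.card (P : Subgroup Y) = 13 := hcP
    rw [h2] at h1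
    omega
  have memK : ∀ {y : Y} {m : ℕ}, (π y : G) ∈ centralizer ((zpowers x : Subgroup G) : Set G) →
      orderOf y ∣ m → ¬ 13 ∣ m → y ∈ K := by
    intro y m h1 h2 h3
    rw [hK]
    refine ⟨?_, fun h => h3 (h.trans h2)⟩
    rw [hCP, mem_comap, D13.cent_eq h hH, mem_subgroupOf]
    exact h1
  have hcube : ∀ {y : Y}, y ^ 3 ∈ π.ker → y ^ 9 = 1 := by
    intro y hy
    have h5 : (⟨y ^ 3, hy⟩ : π.ker) ^ Nat.card π.ker = 1 := pow_card_eq_one'
    have h6 : (y ^ 3) ^ Nat.card π.ker = 1 := congrArg Subtype.val h5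
    rw [h3, ← pow_mul] at h6
    exact h6
  have hAH := A_le h hH hodd
  have hzz : (⟨l * u, (mul_mem_iff_of_index_two hH).2 ⟨fun h1 => absurd h1 (hodd l h.hl),
      fun h1 => absurd h1 (hodd u h.hu)⟩⟩ : H) * ⟨l * u, (mul_mem_iff_of_index_two hH).2
      ⟨fun h1 => absurd h1 (hodd l h.hl), fun h1 => absurd h1 (hodd u h.hu)⟩⟩ = 1 := by
    apply Subtype.ext
    show l * u * (l * u) = 1
    calc l * u * (l * u) = l * (u * l) * u := by group
      _ = l * (l * u) * u := by rw [h.lu]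
      _ = (l * l) * (u * u) := by group
      _ = 1 := by rw [h.ll, h.uu, mul_one]
  obtain ⟨z, hz, hπz⟩ := exists_sq hc ho hs hzz
  have hπz' : (π z : G) = l * u := by rw [hπz]
  obtain ⟨a, b, ha, hb, hab⟩ := hT
  refine rel13Z hK hcP he hKc (Z := π.ker) hc h3 (E := ((A l k u v).subgroupOf H).comap π) ?_ ?_ ?_ ?_ ?_
    (z := z) ?_ hz ?_ χ hχ hn
  · intro y hy
    have hy' : (π y : G) ∈ A l k u v := mem_subgroupOf.1 hy
    refine memK (m := 9) (D13.A_le_C h hy') (orderOf_dvd_of_pow_eq_one (hcube ?_)) (by norm_num)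
    rw [MonoidHom.mem_ker, map_pow, pow_succ, pow_two]
    exact Subtype.ext (cube_A h hy')
  · rw [card_comap' hs, h3, Nat.card_congr (subgroupOfEquivOfLe hAH).toEquiv, card_A h]
  · intro y hy
    rw [mem_comap, MonoidHom.mem_ker.1 hy]
    exact one_mem _
  · intro p hp q hq
    have e1 : (π p : G) * π q = π q * π p := A_comm h (mem_subgroupOf.1 hp) (mem_subgroupOf.1 hq)
    rw [MonoidHom.mem_ker, map_mul, map_mul, map_mul, map_inv, map_inv]
    apply Subtype.ext
    show (π p : G) * π q * (π p : G)⁻¹ * (π q : G)⁻¹ = 1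
    rw [e1]; group
  · refine ⟨a, ?_, b, ?_, hab⟩
    · rw [mem_comap, mem_subgroupOf, ha]
      exact mem_sup_left (mem_zpowers _)
    · rw [mem_comap, mem_subgroupOf, hb]
      exact mem_sup_right (mem_zpowers _)
  · refine memK (m := 2) ?_ (orderOf_dvd_of_pow_eq_one (by rw [pow_two]; exact hz)) (by norm_num)
    rw [hπz']
    exact T_le_C h (mul_mem (_root_.Subgroup.subset_closure (by simp)) (_root_.Subgroup.subset_closure (by simp)))
  · intro h1
    apply D13.ne_lu h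
    have h2 : (π z : G) = 1 := by rw [h1, map_one]; rfl
    rw [hπz'] at h2
    have h3 : u = l⁻¹ := eq_inv_of_mul_eq_one_right h2
    rw [h3, inv_eq_of_mul_eq_one_right h.ll]

end

open Cfsg.Agent.R08.FiTwentyFour (finite_Fi24 index_commutator mem_commutator_iff sgn_L)

theorem odd_L : ∀ d ∈ R08.FiTwentyFour.L, d ∉ _root_.commutator Fi24 := by
  intro d hd h
  have h1 := mem_commutator_iff.1 h
  rw [sgn_L hd] at h1
  exact absurd h1 (by decide)

theorem mem_mul {a b : Fi24} (ha : a ∈ R08.FiTwentyFour.L) (hb : b ∈ R08.FiTwentyFour.L) :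
    a * b ∈ _root_.commutator Fi24 := R08.FiTwentyFour.even ha hb

/-- `l k` -/
def a13 : Spor.Fi24' := ⟨Fischer.Fi24Rep.gen .l * Fischer.Fi24Rep.gen .k,
  mem_mul H845.T13.facts.hl H845.T13.facts.hk⟩

/-- `u v` -/
def b13 : Spor.Fi24' := ⟨H845.T13.u * H845.T13.v, mem_mul H845.T13.facts.hu H845.T13.facts.hv⟩

/-- **Residues modulo 13 of the faithful characters of the triple cover of `Fi24'`.** -/
theorem r13 {Y : Type w} [Group Y] [Finite Y] {π : Y →* Spor.Fi24'} (hs : Function.Surjective π)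
    (hc : π.ker ≤ center Y) (h3 : Nat.card π.ker = 3) (hT : ∃ a b : Y, π a = a13 ∧ π b = b13 ∧ a * b ≠ b * a)
    (χ : IrrCharacter Y) (hχ : ∃ ζ ∈ π.ker, (χ : Y → ℂ) ζ ≠ (χ : Y → ℂ) 1) {n : ℤ} (hn : (χ : Y → ℂ) 1 = n) :
    n % 13 = 0 ∨ n % 13 = 3 ∨ n % 13 = 10 := by
  have := finite_Fi24
  obtain ⟨a, b, ha, hb, hab⟩ := hT
  exact main (l := Fischer.Fi24Rep.gen .l) (k := Fischer.Fi24Rep.gen .k) H845.T13.facts index_commutator odd_L
    D13.conj7 (π := π) hs hc h3
    ⟨a, b, congrArg Subtype.val ha, congrArg Subtype.val hb, hab⟩ χ hχ hn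

end Cfsg.Agent.H133.QS.R13
end

-- part: H133/QS/R11
section
/-!
# Residues modulo 11 of the degrees of the characters of the triple cover of `Fi24'` (helper133)
-/

set_option autoImplicit false
set_option linter.constructorNameAsVariable false

namespace Cfsg.Agent.H133.QS.R11

open Cfsg Subgroup
open Cfsg.Agent.Fischer Cfsg.Agent.Fischer.Fi24RepDef Cfsg.Agent.Fischer.Fi24Rep
open Cfsg.Agent.R08.FiTwentyFour (L finite_Fi24 mem_commutator_iff sgn_L)
open Cfsg.Agent.KFacts.FiTF.Pts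
open Cfsg.Agent.H843 Cfsg.Agent.H843.D11 Cfsg.Agent.H843.Ore.R11
open Cfsg.Agent.SmallSimple.ThetaSetup
open Cfsg.Spor (Fi24)

universe u

theorem A_cent {a : Spor.Fi24'} (ha : a ∈ A) : a ∈ centralizer ((zpowers x : Subgroup Spor.Fi24') : Set Spor.Fi24') := by
  rw [cent_eq, mem_subgroupOf]
  have h1 : _root_.Subgroup.closure ({Fi24Rep.gen .i, word d2w, word d3w} : Set Fi24) ≤
      centralizer ((zpowers D.x : Subgroup Fi24) : Set Fi24) := by
    rw [closure_le, ← inter]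
    exact fun y hy => hy.2
  exact h1 (mem_subgroupOf.1 ha)

theorem A_sq {a : Spor.Fi24'} (ha : a ∈ A) : a * a = 1 := by
  by_cases h1 : a = 1
  · rw [h1, mul_one]
  have hcon : ∀ {g y w : Spor.Fi24'}, g * y * g⁻¹ = w → w * w = 1 → y * y = 1 := by
    rintro g y w rfl h
    have h2 : y * y = g⁻¹ * (g * y * g⁻¹ * (g * y * g⁻¹)) * g := by group
    rw [h2, h]; group
  rcases cases_A ha h1 with rfl | rfl | rfl
  · exact z_sq
  · exact hcon cz2 (hcon cz3 z_sq)
  · exact hcon cz3 z_sq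

theorem A_norm : ∀ g ∈ normalizer ((zpowers x : Subgroup Spor.Fi24') : Set Spor.Fi24'), ∀ a ∈ A, g * a * g⁻¹ ∈ A := by
  intro g hg a ha
  rw [norm_eq, mem_subgroupOf] at hg
  rw [A, mem_subgroupOf] at ha ⊢
  have h1 : ∀ y ∈ _root_.Subgroup.closure ({Fi24Rep.gen .i, word d2w, word d3w} : Set Fi24),
      (g : Fi24) * y * (g : Fi24)⁻¹ ∈ _root_.Subgroup.closure ({Fi24Rep.gen .i, word d2w, word d3w} : Set Fi24) := by
    intro y hy
    induction hy using closure_induction with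
    | mem y hy =>
      apply Subgroup.subset_closure
      rw [← inter] at hy ⊢
      refine ⟨Cfsg.Agent.R08.FiTwentyFour.conj hy.1 _, ?_⟩
      have h2 : (g : Fi24)⁻¹ ∈ normalizer ((zpowers D.x : Subgroup Fi24) : Set Fi24) := inv_mem hg
      have h3 := hy.2
      rw [SetLike.mem_coe, mem_centralizer_iff] at h3 ⊢
      intro w hw
      have h4 := h3 ((g : Fi24)⁻¹ * w * (g : Fi24)) (by
        have h5 := (mem_normalizer_iff.1 h2 w).1 hw
        rwa [inv_inv] at h5)
      calc w * ((g : Fi24) * y * (g : Fi24)⁻¹)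
          = (g : Fi24) * (((g : Fi24)⁻¹ * w * (g : Fi24)) * y) * (g : Fi24)⁻¹ := by group
        _ = (g : Fi24) * (y * ((g : Fi24)⁻¹ * w * (g : Fi24))) * (g : Fi24)⁻¹ := by rw [h4]
        _ = _ := by group
    | one => rw [mul_one, mul_inv_cancel]; exact one_mem _
    | mul y w _ _ h1 h2 =>
      have h3 : (g : Fi24) * (y * w) * (g : Fi24)⁻¹ =
          (g : Fi24) * y * (g : Fi24)⁻¹ * ((g : Fi24) * w * (g : Fi24)⁻¹) := by group
      rw [h3]; exact mul_mem h1 h2
    | inv y _ h1 =>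
      have h3 : (g : Fi24) * y⁻¹ * (g : Fi24)⁻¹ = ((g : Fi24) * y * (g : Fi24)⁻¹)⁻¹ := by group
      rw [h3]; exact inv_mem h1
  exact h1 _ ha

theorem A_conj : ∀ a ∈ A, a ≠ 1 → ∃ k : Spor.Fi24',
    k ∈ centralizer ((zpowers x : Subgroup Spor.Fi24') : Set Spor.Fi24') ∧ k ^ 3 = 1 ∧ k * a * k⁻¹ = z := by
  intro a ha h1
  have hcc : c ∈ centralizer ((zpowers x : Subgroup Spor.Fi24') : Set Spor.Fi24') :=
    Cyc.mem_centralizer_zpowers.2 (Subtype.ext comm_c.eq)
  have hc3 : c ^ 3 = 1 := by rw [← order_c, pow_orderOf_eq_one]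
  rcases cases_A ha h1 with rfl | rfl | rfl
  · exact ⟨1, one_mem _, one_pow 3, by group⟩
  · refine ⟨c * c, mul_mem hcc hcc, ?_, ?_⟩
    · rw [← pow_two, ← pow_mul, mul_comm, pow_mul, hc3, one_pow]
    · calc c * c * z2 * (c * c)⁻¹ = c * (c * z2 * c⁻¹) * c⁻¹ := by group
        _ = z := by rw [cz2, cz3]
  · exact ⟨c, hcc, hc3, cz3⟩

/-- **Residues modulo 11 in the triple cover.** -/
theorem r11 {G : Type u} [Group G] [Finite G] {π : G →* Spor.Fi24'} (hs : Function.Surjective π)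
    (hc : π.ker ≤ center G) (h3 : Nat.card π.ker = 3) (χ : IrrCharacter G) {n : ℤ} (hn : (χ : G → ℂ) 1 = n) :
    n % 11 = 0 ∨ n % 11 = 1 ∨ n % 11 = 2 ∨ n % 11 = 3 ∨ n % 11 = 8 ∨ n % 11 = 9 ∨ n % 11 = 10 := by
  have hfin := finite_Fi24
  have hF : Fact (Nat.Prime 11) := ⟨by norm_num⟩
  have ho : Odd (Nat.card π.ker) := by rw [h3]; decide
  obtain ⟨x', P, hx', hπx, hPx, hcP, hCP, hNP⟩ := exists_sylow hs hc hF.out (by rw [h3]; norm_num) not_sq order_x
  obtain ⟨K, hK⟩ := exists_isComp P hcP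
  have hC : Nat.card (centralizer ((P : Subgroup G) : Set G)) = 3 * 132 := by
    rw [hCP, card_comap' hs, h3, card_cent']
  have he : (centralizer ((P : Subgroup G) : Set G)).relIndex (normalizer ((P : Subgroup G) : Set G)) = 10 := by
    rw [hCP, hNP, relIndex_comap' hs]
    have h2 := Subgroup.card_mul_index ((centralizer ((zpowers x : Subgroup Spor.Fi24') : Set Spor.Fi24')).subgroupOf
      (normalizer ((zpowers x : Subgroup Spor.Fi24') : Set Spor.Fi24')))
    rw [Nat.card_congr (Subgroup.subgroupOfEquivOfLe (centralizer_le_normalizer _)).toEquiv, card_cent', card_norm'] at h2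
    have h3 : 132 * (centralizer ((zpowers x : Subgroup Spor.Fi24') : Set Spor.Fi24')).relIndex
      (normalizer ((zpowers x : Subgroup Spor.Fi24') : Set Spor.Fi24')) = 1320 := h2
    omega
  have hKc : Nat.card K = 36 := by
    have h1 := (Nat.card_congr (_root_.Cfsg.Agent.SmallSimple.ThetaSetup.prodEquiv hK hcP).toEquiv).trans hC
    rw [Nat.card_prod] at h1
    have h2 : Nat.card (P : Subgroup G) = 11 := hcP
    rw [h2] at h1
    omega
  have memK : ∀ {y : G} {k : ℕ}, π y ∈ centralizer ((zpowers x : Subgroup Spor.Fi24') : Set Spor.Fi24') →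
      orderOf y ∣ k → ¬ 11 ∣ k → y ∈ K := by
    intro y k h1 h2 h3
    rw [hK]
    refine ⟨?_, fun h => h3 (h.trans h2)⟩
    rw [hCP]
    exact h1
  obtain ⟨z', hz', hπz⟩ := exists_sq hc ho hs z_sq
  refine rel11Z hK hcP he hKc (Z := π.ker) hc h3 ?_ (A := lift2 π hc ho A (fun a ha => A_sq ha)) ?_ ?_ ?_
    (z := z') ?_ hz' ?_ χ hn
  · intro y hy
    refine memK (k := 3) ?_ ?_ (by norm_num)
    · rw [MonoidHom.mem_ker.1 hy]; exact one_mem _
    · rw [← h3]; exact Subgroup.orderOf_dvd_natCard _ hy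
  · intro y hy
    refine memK (k := 2) (A_cent hy.1) (orderOf_dvd_of_pow_eq_one (by rw [pow_two]; exact hy.2)) (by norm_num)
  · rw [card_lift2 hc ho _ hs, card_A]
  · intro g hg y hy
    rw [hNP] at hg
    refine ⟨?_, ?_⟩
    · rw [map_mul, map_mul, map_inv]
      exact A_norm _ hg _ hy.1
    · calc g * y * g⁻¹ * (g * y * g⁻¹) = g * (y * y) * g⁻¹ := by group
        _ = 1 := by rw [hy.2, mul_one, mul_inv_cancel]
  · exact ⟨by rw [hπz]; exact z_memA, hz'⟩
  · intro a ha ha1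
    have h1 : π a ≠ 1 := fun h => ha1 (eq_of_sq hc ho ha.2 (one_mul 1) (by rw [h, map_one]))
    obtain ⟨k₀, hk1, hk2, hk3⟩ := A_conj (π a) ha.1 h1
    obtain ⟨k, rfl⟩ := hs k₀
    refine ⟨k, memK (k := 9) hk1 (orderOf_dvd_of_pow_eq_one ?_) (by norm_num), ?_⟩
    · have h4 : k ^ 3 ∈ π.ker := by rw [MonoidHom.mem_ker, map_pow, hk2]
      have h5 : (⟨k ^ 3, h4⟩ : π.ker) ^ Nat.card π.ker = 1 := pow_card_eq_one'
      have h6 : (k ^ 3) ^ Nat.card π.ker = 1 := congrArg Subtype.val h5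
      rw [h3, ← pow_mul] at h6
      exact h6
    · refine eq_of_sq hc ho ?_ hz' (by rw [map_mul, map_mul, map_inv, hk3, hπz])
      calc k * a * k⁻¹ * (k * a * k⁻¹) = k * (a * a) * k⁻¹ := by group
        _ = 1 := by rw [ha.2, mul_one, mul_inv_cancel]

end Cfsg.Agent.H133.QS.R11
end

-- part: H133/QS/R13L
section
/-!
# `3.Fi24'`: the residues modulo 11 and 13 of the degrees in the explicit triple cover `L3` (helper133)
-/

set_option autoImplicit false
set_option maxRecDepth 100000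
set_option Elab.async false

namespace Cfsg.Agent.H133.QS.R13L

open Cfsg Subgroup
open Cfsg.Spor.Fi24 (Gen)
open Cfsg.Agent.H52.ThreeFi24 Cfsg.Agent.H52.ThreeFi24Chk Cfsg.Agent.R08.TThree
open Cfsg.Agent.H265.TF
open Cfsg.Agent.H845.T13Data (wU wV)
open Cfsg.Agent.H133.QS.R13 (a13 b13)
open Cfsg.Agent.LThreeFi24.FiveConj (eqB)

def bw : List Gen := (wU ++ .l :: wU.reverse) ++ (wV ++ .l :: wV.reverse)
def aw : List Gen := [.l, .k]

theorem chk_comm : eqB (bw ++ aw) (aw ++ bw) = true := by (rewrite [show @Cfsg.Agent.LThreeFi24.FiveConj.eqB = delta% @Cfsg.Agent.LThreeFi24.FiveConj.eqB from by delta Cfsg.Agent.LThreeFi24.FiveConj.eqB; rfl, show @Cfsg.Agent.LThreeFi24.FiveConj.eqL = delta% @Cfsg.Agent.LThreeFi24.FiveConj.eqL from by delta Cfsg.Agent.LThreeFi24.FiveConj.eqL; rfl, show @Cfsg.Agent.LThreeFi24.FiveConj.eqL._f = delta% @Cfsg.Agent.LThreeFi24.FiveConj.eqL._f from by delta Cfsg.Agent.LThreeFi24.FiveConj.eqL._f; rfl, Cfsg.Agent.Lib.PermNetFast.winv_fast];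 decide +kernel)
theorem chk_ne : Nat.beq (im (bw ++ aw ++ bw.reverse ++ aw.reverse)) 0 = false := by (rewrite [show @Cfsg.Agent.H52.ThreeFi24Chk.im = delta% @Cfsg.Agent.H52.ThreeFi24Chk.im from by delta Cfsg.Agent.H52.ThreeFi24Chk.im; rfl, Cfsg.Agent.Lib.PermNetFast.ptWord_fast]; decide +kernel)

theorem tri' : Tri π3 (wK bw rfl) (wK aw rfl) := tri_of_chk rfl rfl chk_comm chk_ne

theorem aw_eq : wK aw rfl = a13 := by
  apply Subtype.ext
  show Fischer.Fi24Rep.word aw = Fischer.Fi24Rep.gen .l * Fischer.Fi24Rep.gen .k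
  rw [aw, Fischer.Fi24Spider.word_cons, Fischer.Fi24Spider.word_cons, Fischer.Fi24Spider.word_nil, mul_one]

theorem bw_eq : wK bw rfl = b13 := by
  apply Subtype.ext
  show Fischer.Fi24Rep.word bw = H845.T13.u * H845.T13.v
  rw [bw, Fischer.Fi24Spider.word_append]
  rfl

/-- the lifts of `l k` and `u v` do not commute -/
theorem tri : Tri π3 b13 a13 := by rw [← aw_eq, ← bw_eq]; exact tri'

open Cfsg.Agent.SmallSimple in
/-- **the residues of the degrees of the faithful characters of `L3`** -/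
theorem res (χ : IrrCharacter L3) (hχ : ∃ ζ ∈ π3.ker, (χ : L3 → ℂ) ζ ≠ (χ : L3 → ℂ) 1) :
    (charDegree (χ : L3 → ℂ) % 11 = 0 ∨ charDegree (χ : L3 → ℂ) % 11 = 1 ∨ charDegree (χ : L3 → ℂ) % 11 = 2 ∨
      charDegree (χ : L3 → ℂ) % 11 = 3 ∨ charDegree (χ : L3 → ℂ) % 11 = 8 ∨ charDegree (χ : L3 → ℂ) % 11 = 9 ∨
      charDegree (χ : L3 → ℂ) % 11 = 10) ∧
    (charDegree (χ : L3 → ℂ) % 13 = 0 ∨ charDegree (χ : L3 → ℂ) % 13 = 3 ∨ charDegree (χ : L3 → ℂ) % 13 = 10) := by
  have : Finite P3 := card_P3.1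
  have : Finite L3 := inferInstanceAs (Finite ↥(_root_.commutator P3))
  have hn : (χ : L3 → ℂ) 1 = ((charDegree (χ : L3 → ℂ) : ℤ) : ℂ) := by
    rw [Blocks.Knorr.charDegree_eq χ.2]; norm_cast
  obtain ⟨-, a, b, ha, hb, hab⟩ := tri
  have h11 := R11.r11 pce.surj pce.cen card_ker_L3 χ hn
  have h13 := R13.r13 pce.surj pce.cen card_ker_L3 ⟨b, a, hb, ha, fun h => hab h.symm⟩ χ hχ hn
  omega

end Cfsg.Agent.H133.QS.R13L
end

-- part: H133/QS/ResFi
section
/-!
# `3.Fi24'`: the restriction of a faithful character of `L3` to `Fi23` (helper133)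

* `exists_lift_hom` : a homomorphism from a perfect group with trivial multiplier lifts to a central extension;
* `conj_com`, `conj_ncom` : the products of two transpositions of `Fi23` in `Fi24'`;
* `exists_res` : `χ ∘ j` is a character of `Fi23`, equal values at `z`, `g z`, the value 0 at `j z`;
* `ne_45747` : the degree 45747 is excluded, given the statement on `Fi23` (helper856).
-/

set_option autoImplicit false

namespace Cfsg.Agent.H133.QS.ResFi

open Cfsg Subgroup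
open Cfsg.Agent.H51.Mult (PCE)
open Cfsg.Agent.Characters.Core

universe u v w

/-- a homomorphism from a perfect group with trivial multiplier lifts to a central extension -/
theorem exists_lift_hom {X : Type u} [Group X] (hX : commutator X = ⊤) (hM : HasCyclicSchurMultiplier X 1)
    {L : Type v} [Group L] {K : Type w} [Group K] {π : L →* K} (hs : Function.Surjective π) (hc : π.ker ≤ center L)
    (ι : X →* K) : ∃ j : X →* L, ∀ x, π (j x) = ι x := by
  let F : Subgroup (X × L) := (ι.comp (MonoidHom.fst X L)).eqLocus (π.comp (MonoidHom.snd X L))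
  let τ : F →* X := (MonoidHom.fst X L).comp F.subtype
  have hτs : Function.Surjective τ := by
    intro x
    obtain ⟨l, hl⟩ := hs (ι x)
    exact ⟨⟨(x, l), hl.symm⟩, rfl⟩
  have hτc : τ.ker ≤ center F := by
    rintro ⟨⟨x, l⟩, hxl⟩ h
    have hx : x = 1 := h
    subst hx
    have hl : l ∈ π.ker := by
      have h1 : ι 1 = π l := hxl
      rw [map_one] at h1
      exact h1.symm
    rw [mem_center_iff]
    rintro ⟨⟨y, m⟩, hym⟩
    apply Subtype.ext
    show (y * 1, m * l) = (1 * y, l * m)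
    rw [mul_one, one_mul, mem_center_iff.1 (hc hl) m]
  have hp := H253.TC.pce_commutator hX hτs hτc
  have h1 := (H68.Bounds.ker_of_hasCyclic hM hp).2
  have h2 : Function.Injective (τ.comp (commutator F).subtype) := by
    rw [← MonoidHom.ker_eq_bot_iff]
    exact Subgroup.eq_bot_of_card_eq _ (Nat.dvd_one.1 h1)
  let e : commutator F ≃* X := MulEquiv.ofBijective _ ⟨h2, hp.surj⟩
  refine ⟨(MonoidHom.snd X L).comp (F.subtype.comp ((commutator F).subtype.comp e.symm.toMonoidHom)), fun x => ?_⟩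
  have h3 : ι (((e.symm x : commutator F) : F) : X × L).1 = π (((e.symm x : commutator F) : F) : X × L).2 :=
    ((e.symm x : commutator F) : F).2
  have h4 : (((e.symm x : commutator F) : F) : X × L).1 = x := e.apply_symm_apply x
  show π (((e.symm x : commutator F) : F) : X × L).2 = ι x
  rw [← h3, h4]

section Fi

open Cfsg.Agent.R08 Cfsg.Agent.R08.FiTwentyFour
open Cfsg.Agent.Fischer.Fi24Class (gen gen_sq)
open Cfsg.Agent.Fischer.Fi23Z (z0)

/-- the embedding of `Fi23` -/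
noncomputable def inc : Spor.Fi23 →* Spor.Fi24' := facts.phi.codRestrict _ fun x => by
  rw [mem_commutator_iff]
  exact facts.sgn_phi x

theorem mem_L {d : Spor.Fi23} (hd : d ∈ FiTwentyThree.D) : gen .l * facts.phi d ∈ L :=
  (facts.commuting_iff.2 ⟨d, hd, rfl⟩).1

theorem mul_L (d e : Spor.Fi23) : gen .l * facts.phi d * (gen .l * facts.phi e) = facts.phi (d * e) := by
  have h1 := facts.phi_comm d
  rw [map_mul]
  calc gen .l * facts.phi d * (gen .l * facts.phi e) = gen .l * (facts.phi d * gen .l) * facts.phi e := by group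
    _ = gen .l * (gen .l * facts.phi d) * facts.phi e := by rw [h1]
    _ = (gen .l * gen .l) * (facts.phi d * facts.phi e) := by group
    _ = facts.phi d * facts.phi e := by rw [gen_sq, one_mul]

theorem conj_com {d e : Spor.Fi23} (hd : d ∈ FiTwentyThree.D) (he : e ∈ FiTwentyThree.D) (hne : d ≠ e)
    (hde : d * e = e * d) : ∃ g : Spor.Fi24', g * inc z0 * g⁻¹ = inc (d * e) := by
  have hz := facts.commuting_iff.2 ⟨z0, FiTwentyThree.z0_mem_D, rfl⟩
  have hc : gen .l * facts.phi d * (gen .l * facts.phi e) = gen .l * facts.phi e * (gen .l * facts.phi d) := by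
    rw [mul_L, mul_L, hde]
  obtain ⟨g, hg, h1, h2⟩ := facts.trans2 (gen_mem_L .l) hz.1 hz.2.1.symm hz.2.2.symm (mem_L hd) (mem_L he)
    (fun h => hne (facts.phi_injective (mul_left_cancel h))) hc
  refine ⟨⟨g, hg⟩, Subtype.ext ?_⟩
  show g * facts.phi z0 * g⁻¹ = facts.phi (d * e)
  rw [← mul_L, ← h1, ← h2]
  have h3 : facts.phi z0 = gen .l * (gen .l * facts.phi z0) := by rw [← mul_assoc, gen_sq, one_mul]
  nth_rewrite 1 [h3]
  group

/-- the pairs of transpositions that do not commute are conjugate -/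
theorem trans_nc {a b a' b' : Spor.Fi24} (ha : a ∈ L) (hb : b ∈ L) (hab : a * b ≠ b * a)
    (ha' : a' ∈ L) (hb' : b' ∈ L) (hab' : a' * b' ≠ b' * a') :
    ∃ g, g * a * g⁻¹ = a' ∧ g * b * g⁻¹ = b' := by
  obtain ⟨R, h1, h2, h3⟩ := facts.exists_rank3
  have key : ∀ {a b : Spor.Fi24}, a ∈ L → b ∈ L → a * b ≠ b * a →
      ∃ g, g * R.t R.x0 * g⁻¹ = a ∧ g * R.t R.b * g⁻¹ = b := by
    intro a b ha hb hab
    rw [← h3] at ha hb
    obtain ⟨x, rfl⟩ := ha
    obtain ⟨y, rfl⟩ := hb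
    obtain ⟨h, rfl⟩ := R.trans x
    have h4 : ¬ R.Com R.x0 (h⁻¹ • y) := by
      intro h5
      apply hab
      have h6 := (R.com_smul h R.x0 (h⁻¹ • y)).2 h5
      rw [smul_inv_smul] at h6
      exact h6
    obtain ⟨m, hm, hm'⟩ := R.not_com_x0_iff.1 h4
    refine ⟨h * m, ?_, ?_⟩
    · rw [← R.map_smul, mul_smul, hm]
    · rw [← R.map_smul, mul_smul, hm', smul_inv_smul]
  obtain ⟨g, hg, hg'⟩ := key ha hb hab
  obtain ⟨k, hk, hk'⟩ := key ha' hb' hab'
  refine ⟨k * g⁻¹, ?_, ?_⟩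
  · rw [← hg, ← hk]; group
  · rw [← hg', ← hk']; group

theorem conj_ncom {d e : Spor.Fi23} (hd : d ∈ FiTwentyThree.D) (he : e ∈ FiTwentyThree.D)
    (hde : d * e ≠ e * d) : ∃ g : Spor.Fi24', g * R13.a13 * g⁻¹ = inc (d * e) ∨ g * R13.a13 * g⁻¹ = (inc (d * e))⁻¹ := by
  have hc : gen .l * facts.phi d * (gen .l * facts.phi e) ≠ gen .l * facts.phi e * (gen .l * facts.phi d) := by
    rw [mul_L, mul_L]
    exact fun h => hde (facts.phi_injective h)
  have hlk : gen .l * gen .k ≠ gen .k * gen .l := Fischer.Fi24Class.k_ncomm_l facts.card_ne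
  obtain ⟨g, h1, h2⟩ := trans_nc (gen_mem_L .l) (gen_mem_L .k) hlk (mem_L hd) (mem_L he) hc
  have h3 : g * (gen .l * gen .k) * g⁻¹ = facts.phi (d * e) := by
    rw [← mul_L, ← h1, ← h2]; group
  rcases Int.units_eq_one_or (Fischer.Fi24Final.sgn g) with h7 | h7
  · exact ⟨⟨g, mem_commutator_iff.2 h7⟩, Or.inl (Subtype.ext h3)⟩
  · have hs : Fischer.Fi24Final.sgn (gen .l) = -1 := Fischer.Fi24Final.sgn_gen _
    refine ⟨⟨g * gen .l, mem_commutator_iff.2 (by rw [map_mul, h7, hs]; decide)⟩, Or.inr (Subtype.ext ?_)⟩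
    show g * gen .l * (gen .l * gen .k) * (g * gen .l)⁻¹ = (facts.phi (d * e))⁻¹
    rw [← h3]
    have hl := gen_sq .l
    have hk := gen_sq .k
    have hl' : (gen .l)⁻¹ = gen .l := Fischer.Fi24Class.gen_inv _
    have hk' : (gen .k)⁻¹ = gen .k := Fischer.Fi24Class.gen_inv _
    calc g * gen .l * (gen .l * gen .k) * (g * gen .l)⁻¹ = g * (gen .l * gen .l) * gen .k * (gen .l)⁻¹ * g⁻¹ := by group
      _ = g * (gen .k * gen .l) * g⁻¹ := by rw [hl, hl']; group
      _ = g * ((gen .k)⁻¹ * (gen .l)⁻¹) * g⁻¹ := by rw [hl', hk']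
      _ = (g * (gen .l * gen .k) * g⁻¹)⁻¹ := by group

end Fi

/-! ### the restriction -/

section Res

open Cfsg.Agent.R08
open Cfsg.Agent.LThreeFi23 (el)
open Cfsg.Agent.Fischer.Fi23Z (z0)
open Cfsg.Agent.H265.TF

theorem el_com : el .g ≠ z0 ∧ el .g * z0 = z0 * el .g := by
  have := FiTwentyThree.finite_fi23
  have hK : ∀ x : Spor.Fi23.Gen, x ≠ .j → Fischer.Fi23Hom.gen x * z0 = z0 * Fischer.Fi23Hom.gen x := fun x hx =>
    Fischer.Fi23Class.comm_z0 FiTwentyThree.card_le _ (Fischer.Fi23Class.gen_mem_K x hx)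
  refine ⟨fun h => ?_, hK .g (by decide)⟩
  -- `f` and `g` would be equal, and `f` commutes with `j`
  have h1 : Fischer.Fi23Hom.gen .f = z0 := by
    have h2 : (Fischer.Fi23Hom.gen .f * z0) ^ 3 = 1 := by
      rw [← h]; exact Fischer.Fi23Final.gen_rel .f .g
    have h3 : (Fischer.Fi23Hom.gen .f * z0) ^ 2 = 1 := by
      have h4 : Fischer.Fi23Hom.gen .f * Fischer.Fi23Hom.gen .f = 1 := FiTwentyThree.sq_D (FiTwentyThree.gen_mem_D .f)
      have h5 : z0 * z0 = 1 := FiTwentyThree.sq_D FiTwentyThree.z0_mem_D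
      calc (Fischer.Fi23Hom.gen .f * z0) ^ 2 = Fischer.Fi23Hom.gen .f * (z0 * Fischer.Fi23Hom.gen .f) * z0 := by
            rw [pow_two]; group
        _ = (Fischer.Fi23Hom.gen .f * Fischer.Fi23Hom.gen .f) * (z0 * z0) := by rw [← hK .f (by decide)]; group
        _ = 1 := by rw [h4, h5, one_mul]
    rw [pow_succ, h3, one_mul] at h2
    exact (mul_eq_one_iff_eq_inv.1 h2).trans (inv_eq_of_mul_eq_one_left (FiTwentyThree.sq_D FiTwentyThree.z0_mem_D))
  apply Fischer.Fi23Class.z0_ncomm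
  rw [← h1]
  exact Fischer.Fi23Class.gen_comm .f .j (by decide)

theorem el_ncom : el .j * z0 ≠ z0 * el .j := fun h => Fischer.Fi23Class.z0_ncomm h.symm

/-- **The restriction of a character to `Fi23`.** -/
theorem exists_res {L : Type u} [Group L] [Finite L] {π : L →* Spor.Fi24'} (hs : Function.Surjective π)
    (hc : π.ker ≤ center L) (hk : Nat.card π.ker = 3) {c : Spor.Fi24'} (hT : Tri π c R13.a13) (χ : IrrCharacter L)
    (hχ : ∃ ζ ∈ π.ker, (χ : L → ℂ) ζ ≠ (χ : L → ℂ) 1) :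
    ∃ φ : Spor.Fi23 → ℂ, IsCharacter Spor.Fi23 φ ∧ φ 1 = (χ : L → ℂ) 1 ∧ φ (el .z) = φ (el .g * el .z) ∧
      φ (el .j * el .z) = 0 := by
  obtain ⟨j, hj⟩ := exists_lift_hom S2054.perfect_fi23 S2054.result hs hc inc
  have hcf := isIrr_isClassFunction χ.2
  have hfin : Finite Spor.Fi24' := by
    have := FiTwentyFour.finite_Fi24
    exact inferInstanceAs (Finite ↥(_root_.commutator Spor.Fi24))
  refine ⟨fun x => (χ : L → ℂ) (j x), ?_, ?_, ?_, ?_⟩
  · obtain ⟨n, ρ, h⟩ := isIrr_isCharacter χ.2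
    refine ⟨n, ρ.comp j, ?_⟩
    funext x
    rw [← h]
    rfl
  · show (χ : L → ℂ) (j 1) = _
    rw [map_one]
  · obtain ⟨g, hg⟩ := conj_com (FiTwentyThree.gen_mem_D .g) FiTwentyThree.z0_mem_D el_com.1 el_com.2
    obtain ⟨g, rfl⟩ := hs g
    have hz : z0 * z0 = 1 := FiTwentyThree.sq_D FiTwentyThree.z0_mem_D
    have hgg : el .g * el .g = 1 := FiTwentyThree.sq_D (FiTwentyThree.gen_mem_D .g)
    have e1 : g * j z0 * g⁻¹ = j (el .g * z0) := by
      refine eq_of_sq hc (by rw [hk]; decide) ?_ ?_ ?_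
      · calc g * j z0 * g⁻¹ * (g * j z0 * g⁻¹) = g * (j z0 * j z0) * g⁻¹ := by group
          _ = 1 := by rw [← map_mul, hz, map_one]; group
      · rw [← map_mul]
        have h1 : el .g * z0 * (el .g * z0) = 1 := by
          calc el .g * z0 * (el .g * z0) = el .g * (z0 * el .g) * z0 := by group
            _ = (el .g * el .g) * (z0 * z0) := by rw [← el_com.2]; group
            _ = 1 := by rw [hgg, hz, one_mul]
        rw [h1, map_one]
      · rw [map_mul, map_mul, map_inv, hj, hj]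
        exact hg
    show (χ : L → ℂ) (j z0) = (χ : L → ℂ) (j (el .g * z0))
    rw [← e1]
    exact (hcf (j z0) g).symm
  · show (χ : L → ℂ) (j (el .j * z0)) = 0
    obtain ⟨ζ, hζ, hζ1⟩ := hχ
    have hT' : ∃ c, Tri π c (inc (el .j * z0)) := by
      obtain ⟨g, hg | hg⟩ := conj_ncom (FiTwentyThree.gen_mem_D .j) FiTwentyThree.z0_mem_D el_ncom
      · exact ⟨g * c * g⁻¹, hg ▸ hT.conj hs g⟩
      · refine ⟨g * c * g⁻¹, ?_⟩
        have h1 := (hT.conj hs g).inv_right
        rwa [hg, inv_inv] at h1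
    obtain ⟨c', hT'⟩ := hT'
    have h1 := hT'.fuse hs hc hk (hj _) (ζ := ζ) hζ
    obtain ⟨m, hm⟩ := isConj_iff.1 h1
    obtain ⟨μ, hμ⟩ := H113.QS.exists_lies hc χ
    have h2 := hμ 1 ⟨ζ, hζ⟩
    have h3 := hμ (j (el .j * z0)) ⟨ζ, hζ⟩
    have h4 : (χ : L → ℂ) (j (el .j * z0) * ζ) = (χ : L → ℂ) (j (el .j * z0)) := by
      rw [← hm]; exact hcf _ _
    rw [one_mul] at h2
    rw [h4] at h3
    by_contra h0
    apply hζ1
    have h5 : (μ : π.ker → ℂ) ⟨ζ, hζ⟩ = 1 := by
      have h6 := mul_left_cancel₀ h0 ((mul_one _).trans h3)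
      exact h6.symm
    rw [h5, mul_one] at h2
    exact h2

open Cfsg.Agent.H52.ThreeFi24 Cfsg.Agent.H52.ThreeFi24Chk Cfsg.Agent.R08.TThree Cfsg.Agent.SmallSimple in
theorem exists_res_L3 (χ : IrrCharacter L3) (hχ : ∃ ζ ∈ π3.ker, (χ : L3 → ℂ) ζ ≠ (χ : L3 → ℂ) 1) :
    ∃ φ : Spor.Fi23 → ℂ, IsCharacter Spor.Fi23 φ ∧ φ 1 = (χ : L3 → ℂ) 1 ∧ φ (el .z) = φ (el .g * el .z) ∧
      φ (el .j * el .z) = 0 := by
  have : Finite P3 := card_P3.1
  have : Finite L3 := inferInstanceAs (Finite ↥(_root_.commutator P3))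
  exact exists_res pce.surj pce.cen card_ker_L3 R13L.tri χ hχ

open Cfsg.Agent.H52.ThreeFi24 Cfsg.Agent.H52.ThreeFi24Chk Cfsg.Agent.R08.TThree Cfsg.Agent.SmallSimple in
/-- **45747**, given the statement on `Fi23` -/
theorem ne_45747 (hno : ∀ φ : Spor.Fi23 → ℂ, IsCharacter Spor.Fi23 φ → φ (el .z) = φ (el .g * el .z) →
      φ (el .j * el .z) = 0 → φ 1 ≠ 45747) (χ : IrrCharacter L3)
    (hχ : ∃ ζ ∈ π3.ker, (χ : L3 → ℂ) ζ ≠ (χ : L3 → ℂ) 1) : charDegree (χ : L3 → ℂ) ≠ 45747 := by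
  intro h
  have : Finite P3 := card_P3.1
  have : Finite L3 := inferInstanceAs (Finite ↥(_root_.commutator P3))
  obtain ⟨φ, h1, h2, h3, h4⟩ := exists_res_L3 χ hχ
  apply hno φ h1 h3 h4
  rw [h2, Blocks.Knorr.charDegree_eq χ.2, h]
  norm_num

end Res

end Cfsg.Agent.H133.QS.ResFi
end

private theorem dce_a64445534095 : _root_.True := by
  try have : _root_.True := by simp only [_root_.Cfsg.Agent.H133.QS.R13L.aw.eq_1]
  try have : _root_.True := by simp only [_root_.Cfsg.Agent.H133.QS.R13L.bw.eq_1]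
  exact _root_.True.intro
end

-- part: H180/R7/SC_mg
section
prune_inst 0x5002202000004000240001ec383000000000b00000004000404800c0209008e20f800010a0020880400300048110000300000000000000400011901a0888042023240a18404000f000000415000081000000000000000000000000000004010000
set_option linter.all false
open scoped Cfsg.Agent.FastGrp

-- part: H180/R7/DatFam
section
/-!
# Five commuting classes of twins (helper180)

For five distinct commuting members `t i` of `T0 D z` the groups `Qc D (t i)` form a family `Fam`, on which the `t i` act as in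
`Inv`. An element `s` of `S0` of order three commuting with the `t i` and with an element `f` permuting them cyclically acts as
in `Act`.
-/

set_option autoImplicit false

namespace Cfsg.Agent.H180.R7

open Subgroup
open Cfsg.Agent.LThreeFi24.Comp Cfsg.Agent.LThreeFi24.Twin Cfsg.Agent.H841.Ext

variable {X : Type*} [Group X] {D : Set X} {x z : X} {d : Fin 5 → X} (H : Dat D x z d)

include H

theorem es_T0 {t : X} (ht : t ∈ T0 D z) : ES (zpowers x) (Qc D t) := by
  obtain ⟨g, -, hg⟩ := H.tr t ht.1 ht.2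
  have h1 := H.es.conj g⁻¹ (H.conj_Z g⁻¹) (by
    intro y hy
    have := H.conj_Z g y hy
    rwa [inv_inv])
  rw [Qc_conj H.ts, ← hg] at h1
  have e : g⁻¹ * (g * t * g⁻¹) * g⁻¹⁻¹ = t := by group
  rwa [e] at h1

theorem card_T0 {t : X} (ht : t ∈ T0 D z) : Nat.card (Qc D t) = Nat.card (Qc D (d 0)) := by
  obtain ⟨g, -, hg⟩ := H.tr t ht.1 ht.2
  have h1 := Qc_conj H.ts t g
  rw [hg] at h1
  rw [← h1]
  exact (Nat.card_congr ((Qc D t).equivMapOfInjective _ (MulAut.conj g).injective).toEquiv)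

variable {t : Fin 5 → X} (ht : ∀ i, t i ∈ T0 D z) (hinj : Function.Injective t) (htc : ∀ i j, Commute (t i) (t j))

include ht hinj htc

omit H in
theorem nb_t {i j : Fin 5} (hij : i ≠ j) : t j ∈ Nb D (t i) :=
  ⟨(ht j).1, fun h => hij (hinj h).symm, htc i j⟩

theorem fam [Finite X] (hc : Nat.card (Qc D (d 0)) = 27) (hx : Nat.card (zpowers x) = 3) :
    Fam (zpowers x) (QQ D) fun i => Qc D (t i) := by
  have hcom : ∀ i j, i ≠ j → ∀ g ∈ Qc D (t i), ∀ r ∈ Qc D (t j), Commute g r := fun i j hij g hg r hr =>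
    comm_Qc_Qc (ht i).1 (nb_t ht hinj htc hij) hg hr
  have csup : ∀ {A B C : Subgroup X}, (∀ g ∈ A, ∀ r ∈ C, Commute g r) → (∀ g ∈ B, ∀ r ∈ C, Commute g r) →
      (∀ g ∈ A ⊔ B, ∀ r ∈ C, Commute g r) := by
    intro A B C h1 h2 g hg r hr
    have h3 : A ⊔ B ≤ Subgroup.centralizer ({r} : Set X) := by
      apply sup_le
      · intro a ha
        rw [Subgroup.mem_centralizer_singleton_iff]
        exact (h1 a ha r hr).eq
      · intro a ha
        rw [Subgroup.mem_centralizer_singleton_iff]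
        exact (h2 a ha r hr).eq
    exact Subgroup.mem_centralizer_singleton_iff.1 (h3 hg)
  have k1 := hcom 0 1 (by decide)
  have k2 := csup (hcom 0 2 (by decide)) (hcom 1 2 (by decide))
  have k3 := csup (csup (hcom 0 3 (by decide)) (hcom 1 3 (by decide))) (hcom 2 3 (by decide))
  have k4 := csup (csup (csup (hcom 0 4 (by decide)) (hcom 1 4 (by decide))) (hcom 2 4 (by decide))) (hcom 3 4 (by decide))
  have es := fun i => es_T0 H (ht i)
  have c27 : ∀ i, Nat.card (Qc D (t i)) = 27 := fun i => (card_T0 H (ht i)).trans hc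
  have e1 := (es 0).sup (es 1) k1
  have e2 := e1.sup (es 2) k2
  have e3 := e2.sup (es 3) k3
  have e4 := e3.sup (es 4) k4
  have c1 := (es 0).card_sup (es 1) k1
  have c2 := e1.card_sup (es 2) k2
  have c3 := e2.card_sup (es 3) k3
  have c4 := e3.card_sup (es 4) k4
  rw [hx, c27 0, c27 1] at c1
  rw [hx, c27 2] at c2
  rw [hx, c27 3] at c3
  rw [hx, c27 4] at c4
  have hsup : (⨆ i, Qc D (t i)) = Qc D (t 0) ⊔ Qc D (t 1) ⊔ Qc D (t 2) ⊔ Qc D (t 3) ⊔ Qc D (t 4) := by
    apply le_antisymm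
    · apply iSup_le
      intro i
      fin_cases i
      · exact le_sup_left.trans (le_sup_left.trans (le_sup_left.trans le_sup_left))
      · exact le_sup_right.trans (le_sup_left.trans (le_sup_left.trans le_sup_left))
      · exact le_sup_right.trans (le_sup_left.trans le_sup_left)
      · exact le_sup_right.trans le_sup_left
      · exact le_sup_right
    · have h := fun i => le_iSup (fun i => Qc D (t i)) i
      exact sup_le (sup_le (sup_le (sup_le (h 0) (h 1)) (h 2)) (h 3)) (h 4)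
  have hQ := H.es_card hc hx
  have hle : (⨆ i, Qc D (t i)) ≤ QQ D := iSup_le fun i => Qc_le (ht i).1
  have heq : (⨆ i, Qc D (t i)) = QQ D := by
    apply Subgroup.eq_of_le_of_card_ge hle
    rw [hQ.2, hsup]
    omega
  exact
    { es := es
      c27 := c27
      com := fun i j hij g r hg hr => hcom i j hij g hg r hr
      sup := heq
      esQ := hQ.1
      cQ := hQ.2 }

omit ht hinj htc in
/-- members of `D` invert their group of twins modulo the centre -/
theorem inv_Qc {a u : X} (ha : a ∈ T0 D z) (hu : u ∈ Qc D a) : a * u * a⁻¹ * u ∈ zpowers x := by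
  have E := es_T0 H ha
  have nrm : ∀ u ∈ Qc D a, a * u * a⁻¹ ∈ Qc D a := by
    intro u hu
    have h := conj_mem_Qc H.ts (g := a) hu
    rwa [mul_inv_cancel_right] at h
  induction hu using Subgroup.closure_induction with
  | mem y hy =>
    obtain ⟨e, he, hw, rfl⟩ := hy
    have e1 : a * (a * e) * a⁻¹ * (a * e) = 1 := by
      rw [H.ts.inv_eq ha.1]
      calc a * (a * e) * a * (a * e) = (a * a) * e * (a * a) * e := by simp only [mul_assoc]
        _ = 1 := by rw [H.ts.sq a ha.1, one_mul, mul_one, H.ts.sq e he]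
    rw [e1]
    exact one_mem _
  | one => rw [mul_one, mul_one, mul_inv_cancel]; exact one_mem _
  | mul u v hu hv ihu ihv =>
    -- `a u v a⁻¹ u v = (a u a⁻¹) (a v a⁻¹) u v`
    have hu' : u ∈ Qc D a := hu
    have hv' : v ∈ Qc D a := hv
    have c1 := E.com _ (nrm v hv') u hu'
    have z1 := E.cen _ c1
    have e1 : a * (u * v) * a⁻¹ * (u * v) = (a * u * a⁻¹ * u) *
        ((u⁻¹ * ((a * v * a⁻¹) * u * (a * v * a⁻¹)⁻¹ * u⁻¹) * u) * (a * v * a⁻¹ * v)) := by group
    rw [e1]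
    refine mul_mem ihu (mul_mem ?_ ihv)
    rw [← (z1 _ (inv_mem hu')).eq, mul_assoc, inv_mul_cancel, mul_one]
    exact c1
  | inv u hu ih =>
    have hu' : u ∈ Qc D a := hu
    have h1 := E.cen _ ih
    have e1 : a * u⁻¹ * a⁻¹ * u⁻¹ = (u * (a * u * a⁻¹ * u) * u⁻¹)⁻¹ := by group
    rw [e1, ← (h1 u hu').eq, mul_inv_cancel_right]
    exact inv_mem ih

theorem inv_t : Inv (zpowers x) (fun i => Qc D (t i)) t where
  tz := by
    rintro i _ ⟨k, rfl⟩
    exact (H.cx _ (ht i).1).zpow_right k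
  tR := fun i j hij u hu => comm_Qc (nb_t ht hinj htc hij) hu
  inv := fun i u hu => inv_Qc H (ht i) hu

/-- **the action of `s`** -/
theorem act_t [Finite X] (hc : Nat.card (Qc D (d 0)) = 27) (hx : Nat.card (zpowers x) = 3) {s f : X}
    (hsx : Commute s x) (hst : ∀ i, Commute s (t i)) (hfs : Commute f s) (hf : ∀ i : Fin 5, f * t i * f⁻¹ = t (i + 1))
    (hsQ : s ∉ QQ D) : Act (zpowers x) (fun i => Qc D (t i)) t s := by
  have F := fam H ht hinj htc hc hx
  have T := inv_t H ht hinj htc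
  have nrm : ∀ i, ∀ u ∈ Qc D (t i), s * u * s⁻¹ ∈ Qc D (t i) := by
    intro i u hu
    have h := conj_mem_Qc H.ts (g := s) hu
    rwa [(hst i).eq, mul_inv_cancel_right] at h
  have cz : ∀ ζ ∈ zpowers x, Commute s ζ := by
    rintro _ ⟨k, rfl⟩
    exact hsx.zpow_right k
  -- trivial modulo `Z` on `R i` implies trivial on `R (i + 1)`
  have step : ∀ i : Fin 5, (∀ u ∈ Qc D (t i), u⁻¹ * (s * u * s⁻¹) ∈ zpowers x) →
      (∀ u ∈ Qc D (t (i + 1)), u⁻¹ * (s * u * s⁻¹) ∈ zpowers x) := by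
    intro i h u hu
    have h1 : f⁻¹ * u * f ∈ Qc D (t i) := by
      have h2 := conj_mem_Qc H.ts (g := f⁻¹) hu
      rw [← hf i] at h2
      have e1 : f⁻¹ * (f * t i * f⁻¹) * f⁻¹⁻¹ = t i := by group
      have e2 : f⁻¹ * u * f⁻¹⁻¹ = f⁻¹ * u * f := by group
      rwa [e1, e2] at h2
    have h2 := H.conj_Z f _ (h _ h1)
    have e : f * ((f⁻¹ * u * f)⁻¹ * (s * (f⁻¹ * u * f) * s⁻¹)) * f⁻¹ = u⁻¹ * (s * u * s⁻¹) := by
      calc f * ((f⁻¹ * u * f)⁻¹ * (s * (f⁻¹ * u * f) * s⁻¹)) * f⁻¹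
          = u⁻¹ * ((f * s) * (f⁻¹ * u * f) * (f * s)⁻¹) := by group
        _ = u⁻¹ * ((s * f) * (f⁻¹ * u * f) * (s * f)⁻¹) := by rw [hfs.eq]
        _ = _ := by group
    rwa [e] at h2
  refine ⟨hst, nrm, cz, ?_⟩
  intro i
  by_contra hcon
  push Not at hcon
  -- trivial on all
  have hall : ∀ j, ∀ u ∈ Qc D (t j), u⁻¹ * (s * u * s⁻¹) ∈ zpowers x := by
    have h1 := step i hcon
    have h2 := step _ h1
    have h3 := step _ h2
    have h4 := step _ h3
    have hcov : ∀ i j : Fin 5, j = i ∨ j = i + 1 ∨ j = i + 1 + 1 ∨ j = i + 1 + 1 + 1 ∨ j = i + 1 + 1 + 1 + 1 := by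
      decide
    intro j
    rcases hcov i j with rfl | rfl | rfl | rfl | rfl
    · exact hcon
    · exact h1
    · exact h2
    · exact h3
    · exact h4
  apply hsQ
  apply H.cent_le hc hx
  rw [Subgroup.mem_centralizer_iff]
  intro q hq
  obtain ⟨v, rfl⟩ := F.mem_range.1 hq
  refine (F.commute_Phi fun j => ?_).eq.symm
  -- as in `comm_Wi`
  obtain ⟨w, hw⟩ : ∃ w : X, w = v j := ⟨_, rfl⟩
  have hwm : w ∈ Qc D (t j) := by rw [hw]; exact (v j).2
  have hz := hall j w hwm
  have hz' := T.inv j w hwm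
  rw [← hw]
  obtain ⟨ζ, hζ⟩ : ∃ ζ : X, ζ = w⁻¹ * (s * w * s⁻¹) := ⟨_, rfl⟩
  obtain ⟨ξ, hξ⟩ : ∃ ξ : X, ξ = t j * w * (t j)⁻¹ * w := ⟨_, rfl⟩
  rw [← hζ] at hz
  rw [← hξ] at hz'
  have e1 : s * w * s⁻¹ = w * ζ := by rw [hζ]; group
  have e2 : t j * w * (t j)⁻¹ = ξ * w⁻¹ := by rw [hξ]; group
  have c1 : Commute ζ w := (F.es j).cen _ hz _ hwm
  have c2 : Commute ζ (t j) := (T.tz j _ hz).symm
  have c3 : Commute ξ s := (cz _ hz').symm
  have e3 : s * (t j * w * (t j)⁻¹) * s⁻¹ = t j * (s * w * s⁻¹) * (t j)⁻¹ := by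
    have h := hst j
    calc s * (t j * w * (t j)⁻¹) * s⁻¹ = (s * t j) * w * (s * t j)⁻¹ := by group
      _ = (t j * s) * w * (t j * s)⁻¹ := by rw [h.eq]
      _ = _ := by group
  have e4 : s * (ξ * w⁻¹) * s⁻¹ = ξ * w⁻¹ * ζ := by
    rw [← e2, e3, e1]
    calc t j * (w * ζ) * (t j)⁻¹ = t j * w * (ζ * (t j)⁻¹) := by group
      _ = t j * w * ((t j)⁻¹ * ζ) := by rw [c2.inv_right.eq]
      _ = _ := by group
  have e5 : s * (ξ * w⁻¹) * s⁻¹ = ξ * w⁻¹ * ζ⁻¹ := by
    calc s * (ξ * w⁻¹) * s⁻¹ = (s * ξ) * w⁻¹ * s⁻¹ := by group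
      _ = (ξ * s) * w⁻¹ * s⁻¹ := by rw [c3.eq]
      _ = ξ * (s * w * s⁻¹)⁻¹ := by group
      _ = ξ * (w * ζ)⁻¹ := by rw [e1]
      _ = ξ * (ζ⁻¹ * w⁻¹) := by rw [mul_inv_rev]
      _ = ξ * (w⁻¹ * ζ⁻¹) := by rw [c1.inv_inv.eq]
      _ = _ := by group
  have e6 : ζ = ζ⁻¹ := mul_left_cancel (e4.symm.trans e5)
  have e7 : ζ = 1 := by
    have h3 : ζ ^ 3 = 1 := (F.es j).cub _ ((F.es j).le hz)
    have h4 : ζ * ζ = 1 := by nth_rewrite 1 [e6]; exact inv_mul_cancel ζ
    rw [pow_succ, pow_two, h4, one_mul] at h3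
    exact h3
  show s * w = w * s
  rw [e7, mul_one] at e1
  exact mul_inv_eq_iff_eq_mul.1 e1

end Cfsg.Agent.H180.R7
end

-- part: H180/R7/Cnt
section
/-!
# Counting the centralizer of `g = q s` in `Q ⋊ S` (helper180)

* `card_le_mul` : `|C| ≤ |C ∩ Q| * |(Q C) ∩ C_S(s)|`;
* `exists_conj` : a 2-subgroup of `Q C` is conjugate under `Q` to a subgroup of `C`;
* `card_ref` : the bound for the reflections.
-/

set_option autoImplicit false

namespace Cfsg.Agent.H180.R7

open Subgroup Cfsg.Agent.H841.Ext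

variable {X : Type*} [Group X]

/-- a `p`-subgroup of `K` is conjugate in `K` to a subgroup of a subgroup of index prime to `p` (after helper49) -/
theorem conj_in {K H : Subgroup X} {p : ℕ} [Fact p.Prime] (hk : ¬ p ∣ H.relIndex K)
    {Q : Subgroup X} (hQ : IsPGroup p Q) (hQK : Q ≤ K) : ∃ k ∈ K, ∀ q ∈ Q, k⁻¹ * q * k ∈ H := by
  let φ : Q →* K := inclusion hQK
  let act : MulAction Q (K ⧸ H.subgroupOf K) := MulAction.compHom _ φ
  obtain ⟨x, hx⟩ := hQ.nonempty_fixed_point_of_prime_not_dvd_card (K ⧸ H.subgroupOf K) hk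
  obtain ⟨k, rfl⟩ := QuotientGroup.mk_surjective x
  refine ⟨k, k.2, fun q hq => ?_⟩
  have h1 : (φ ⟨q, hq⟩ • (QuotientGroup.mk k : K ⧸ H.subgroupOf K)) = QuotientGroup.mk k := hx ⟨q, hq⟩
  rw [MulAction.Quotient.smul_mk, eq_comm, QuotientGroup.eq, mem_subgroupOf] at h1
  have h2 : (k : X)⁻¹ * (q * k) ∈ H := h1
  rwa [← mul_assoc] at h2

section

variable [Finite X] {Q S C : Subgroup X} (hn : Q.Normal) (hQS : Q ⊓ S = ⊥) {q s : X} (hq : q ∈ Q) (hs : s ∈ S)
  (hC : C ≤ Q ⊔ S) (hCg : ∀ c ∈ C, Commute c (q * s))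

omit [Finite X] in
include hn hQS hq hs hC hCg in
/-- the image of `C` in `S` centralizes `s` -/
theorem le_sup_cent : C ≤ Q ⊔ ((Q ⊔ C) ⊓ (S ⊓ centralizer {s})) := by
  intro c hc
  obtain ⟨r, hr, b, hb, e⟩ := Subgroup.mem_sup_of_normal_left.1 (hC hc)
  have h1 : b ∈ Q ⊔ C := by
    have : b = r⁻¹ * c := by rw [← e, inv_mul_cancel_left]
    rw [this]
    exact mul_mem (Subgroup.mem_sup_left (inv_mem hr)) (Subgroup.mem_sup_right hc)
  have h2 : b * s * b⁻¹ * s⁻¹ ∈ Q ⊓ S := by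
    refine Subgroup.mem_inf.2 ⟨?_, mul_mem (mul_mem (mul_mem hb hs) (inv_mem hb)) (inv_mem hs)⟩
    -- `c g c⁻¹ g⁻¹ = 1`
    have h3 : c * (q * s) * c⁻¹ * (q * s)⁻¹ = 1 := by rw [(hCg c hc).eq]; group
    rw [← e] at h3
    have h4 : r * (b * q * b⁻¹) * ((b * s * b⁻¹ * s⁻¹) * (s * r⁻¹ * s⁻¹) * q⁻¹) = 1 := by
      rw [← h3]; group
    have h5 : b * s * b⁻¹ * s⁻¹ = (b * q * b⁻¹)⁻¹ * r⁻¹ * (q * (s * r * s⁻¹)) := by
      have h6 : (b * s * b⁻¹ * s⁻¹) * (s * r⁻¹ * s⁻¹) * q⁻¹ = (r * (b * q * b⁻¹))⁻¹ := eq_inv_of_mul_eq_one_right h4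
      calc b * s * b⁻¹ * s⁻¹ = ((b * s * b⁻¹ * s⁻¹) * (s * r⁻¹ * s⁻¹) * q⁻¹) * (q * (s * r * s⁻¹)) := by group
        _ = (r * (b * q * b⁻¹))⁻¹ * (q * (s * r * s⁻¹)) := by rw [h6]
        _ = _ := by group
    rw [h5]
    exact mul_mem (mul_mem (inv_mem (hn.conj_mem q hq b)) (inv_mem hr)) (mul_mem hq (hn.conj_mem r hr s))
  rw [hQS, Subgroup.mem_bot] at h2
  rw [← e]
  refine mul_mem (Subgroup.mem_sup_left hr) (Subgroup.mem_sup_right ⟨h1, hb, mem_centralizer_singleton_iff.2 ?_⟩)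
  calc b * s = (b * s * b⁻¹ * s⁻¹) * (s * b) := by group
    _ = s * b := by rw [h2, one_mul]

theorem card_le_mul_aux (hn : Q.Normal) {T : Subgroup X} (h : C ≤ Q ⊔ T) : Nat.card C ≤ Nat.card ↥(C ⊓ Q) * Nat.card T := by
  have e1 : Nat.card ↥(Q ⊓ C : Subgroup X) * Q.relIndex C = Nat.card C := by
    have := Subgroup.relIndex_mul_relIndex ⊥ (Q ⊓ C) C bot_le inf_le_right
    rwa [relIndex_bot_left, relIndex_bot_left, inf_relIndex_right] at this
  have e2 : Q.relIndex C ≤ Nat.card T := by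
    have h0 : Q.relIndex (Q ⊔ T) ≠ 0 := Subgroup.index_ne_zero_of_finite (H := Q.subgroupOf (Q ⊔ T))
    calc Q.relIndex C ≤ Q.relIndex (Q ⊔ T) := Subgroup.relIndex_le_of_le_right h h0
      _ = Q.relIndex T := Subgroup.relIndex_sup_left _ _
      _ ≤ Nat.card T := Nat.le_of_dvd Nat.card_pos (Subgroup.relIndex_dvd_card _ _)
  rw [← e1, inf_comm]
  exact Nat.mul_le_mul_left _ e2

include hn hQS hq hs hC hCg in
theorem card_le_mul : Nat.card C ≤ Nat.card ↥(C ⊓ Q) * Nat.card ↥((Q ⊔ C) ⊓ (S ⊓ centralizer {s})) :=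
  card_le_mul_aux hn (le_sup_cent hn hQS hq hs hC hCg)

/-- conjugating a 2-group into `C` -/
theorem exists_conj (hn : Q.Normal) (hQ : IsPGroup 3 Q) {B : Subgroup X} (hB : IsPGroup 2 B) (hBC : B ≤ Q ⊔ C) :
    ∃ w ∈ Q, ∀ b ∈ B, w⁻¹ * b * w ∈ C := by
  have : Fact (Nat.Prime 2) := ⟨Nat.prime_two⟩
  have : Fact (Nat.Prime 3) := ⟨Nat.prime_three⟩
  set M := Q ⊔ B with hM
  set C1 := C ⊓ M with hC1
  -- `Q C1 = M`
  have h1 : Q ⊔ C1 = M := by
    apply le_antisymm (sup_le le_sup_left inf_le_right)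
    intro m hm
    have h2 : m ∈ Q ⊔ C := (sup_le le_sup_left hBC : Q ⊔ B ≤ Q ⊔ C) hm
    obtain ⟨r, hr, c, hc, e⟩ := Subgroup.mem_sup_of_normal_left.1 h2
    have h3 : c ∈ M := by
      have : c = r⁻¹ * m := by rw [← e, inv_mul_cancel_left]
      rw [this]
      exact mul_mem (Subgroup.mem_sup_left (inv_mem hr)) hm
    rw [← e]
    exact mul_mem (Subgroup.mem_sup_left hr) (Subgroup.mem_sup_right ⟨hc, h3⟩)
  -- the index
  have h2 : C1.relIndex M ∣ Nat.card Q := by
    have e1 : Nat.card C1 * C1.relIndex M = Nat.card M := by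
      have := Subgroup.relIndex_mul_relIndex ⊥ C1 M bot_le inf_le_right
      rwa [relIndex_bot_left, relIndex_bot_left] at this
    have e2 : Nat.card Q * Q.relIndex M = Nat.card M := by
      have := Subgroup.relIndex_mul_relIndex ⊥ Q M bot_le le_sup_left
      rwa [relIndex_bot_left, relIndex_bot_left] at this
    have e3 : Q.relIndex M = Q.relIndex C1 := by rw [← h1, Subgroup.relIndex_sup_left]
    have e4 : Nat.card ↥(Q ⊓ C1 : Subgroup X) * Q.relIndex C1 = Nat.card C1 := by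
      have := Subgroup.relIndex_mul_relIndex ⊥ (Q ⊓ C1) C1 bot_le inf_le_right
      rwa [relIndex_bot_left, relIndex_bot_left, inf_relIndex_right] at this
    have hpos : 0 < Q.relIndex C1 := Nat.pos_of_ne_zero (Subgroup.index_ne_zero_of_finite (H := Q.subgroupOf C1))
    have e5 : Nat.card ↥(Q ⊓ C1 : Subgroup X) * C1.relIndex M = Nat.card Q := by
      apply Nat.eq_of_mul_eq_mul_right hpos
      calc Nat.card ↥(Q ⊓ C1 : Subgroup X) * C1.relIndex M * Q.relIndex C1
          = (Nat.card ↥(Q ⊓ C1 : Subgroup X) * Q.relIndex C1) * C1.relIndex M := by ring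
        _ = Nat.card Q * Q.relIndex C1 := by rw [e4, e1, ← e2, e3]
    exact ⟨_, by rw [mul_comm]; exact e5.symm⟩
  have h3 : ¬ 2 ∣ C1.relIndex M := by
    intro h
    obtain ⟨n, hn⟩ := hQ.exists_card_eq
    have h4 := h.trans h2
    rw [hn] at h4
    have := Nat.Prime.dvd_of_dvd_pow Nat.prime_two h4
    omega
  obtain ⟨k, hk, hk'⟩ := conj_in h3 hB (le_sup_right : B ≤ M)
  obtain ⟨b0, hb0, w, hw, e⟩ := Subgroup.mem_sup_of_normal_right.1 (show k ∈ B ⊔ Q by rw [sup_comm]; exact hk)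
  refine ⟨w, hw, fun b hb => ?_⟩
  have h4 := (hk' (b0 * b * b0⁻¹) (mul_mem (mul_mem hb0 hb) (inv_mem hb0))).1
  rw [← e] at h4
  have e1 : (b0 * w)⁻¹ * (b0 * b * b0⁻¹) * (b0 * w) = w⁻¹ * b * w := by group
  rwa [e1] at h4

end

/-- commuting involutions -/
theorem closure_comm {t : Fin 5 → X} (ht2 : ∀ i, t i * t i = 1) (htc : ∀ i j, Commute (t i) (t j)) :
    ∀ a ∈ closure (Set.range t), (∀ i, Commute a (t i)) ∧ a * a = 1 := by
  have h1 : ∀ a ∈ closure (Set.range t), ∀ i, Commute a (t i) := by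
    intro a ha
    induction ha using Subgroup.closure_induction with
    | mem y hy => obtain ⟨j, rfl⟩ := hy; exact fun i => htc j i
    | one => exact fun i => Commute.one_left _
    | mul a b _ _ iha ihb => exact fun i => (iha i).mul_left (ihb i)
    | inv a _ iha => exact fun i => (iha i).inv_left
  have h2 : ∀ a ∈ closure (Set.range t), ∀ b ∈ closure (Set.range t), Commute a b := by
    intro a ha b hb
    induction hb using Subgroup.closure_induction with
    | mem y hy => obtain ⟨j, rfl⟩ := hy; exact h1 a ha j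
    | one => exact Commute.one_right _
    | mul u v _ _ ihu ihv => exact ihu.mul_right ihv
    | inv u _ ihu => exact ihu.inv_right
  intro a ha
  refine ⟨h1 a ha, ?_⟩
  induction ha using Subgroup.closure_induction with
  | mem y hy => obtain ⟨j, rfl⟩ := hy; exact ht2 j
  | one => exact one_mul 1
  | mul a b ha hb iha ihb =>
    have h3 := h2 a ha b hb
    calc a * b * (a * b) = a * (b * a) * b := by simp only [mul_assoc]
      _ = a * (a * b) * b := by rw [h3.eq]
      _ = (a * a) * (b * b) := by simp only [mul_assoc]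
      _ = 1 := by rw [iha, ihb, one_mul]
  | inv a _ iha => rw [← mul_inv_rev, iha, inv_one]

/-- **the bound for the reflections** -/
theorem card_ref [Finite X] {Z Q : Subgroup X} {R : Fin 5 → Subgroup X} {t : Fin 5 → X} {s : X} (F : Fam Z Q R)
    (T : Inv Z R t) (A : Act Z R t s) (hn : Q.Normal) {S C : Subgroup X} (hQS : Q ⊓ S = ⊥) (hs : s ∈ S) (hs3 : s ^ 3 = 1)
    {q : X} (hq : q ∈ Q) (hg : (q * s) ^ 3 ≠ 1) (hC : C ≤ Q ⊔ S) (hCg : ∀ c ∈ C, Commute c (q * s))
    (htt : ∀ i j, t i * t j ∈ S) (ht2 : ∀ i, t i * t i = 1) (htc : ∀ i j, Commute (t i) (t j)) {m : ℕ}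
    (hcard : Nat.card ↥(S ⊓ centralizer {s}) ≤ 2 * m) : Nat.card C ≤ 3 ^ 5 * m := by
  have h1 := card_le_mul hn hQS hq hs hC hCg
  have h2 : Nat.card ↥(C ⊓ Q) ≤ 3 ^ 5 := by
    refine le_trans ?_ (Act.card_le F A T hs3 hq hg)
    apply Nat.le_of_dvd Nat.card_pos
    apply Subgroup.card_dvd_of_le
    intro c hc
    exact ⟨mem_centralizer_singleton_iff.2 (hCg c hc.1).eq, hc.2⟩
  have h3 : Nat.card ↥((Q ⊔ C) ⊓ (S ⊓ centralizer {s})) ≤ m := by
    have hdvd : Nat.card ↥((Q ⊔ C) ⊓ (S ⊓ centralizer {s})) ∣ Nat.card ↥(S ⊓ centralizer {s}) :=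
      Subgroup.card_dvd_of_le inf_le_right
    obtain ⟨k, hk⟩ := hdvd
    have hpos : 0 < Nat.card ↥(S ⊓ centralizer {s}) := Nat.card_pos
    rcases Nat.lt_or_ge k 2 with hk2 | hk2
    · exfalso
      have hk1 : k = 1 := by
        interval_cases k
        · omega
        · rfl
      rw [hk1, mul_one] at hk
      have heq : (Q ⊔ C) ⊓ (S ⊓ centralizer {s}) = S ⊓ centralizer {s} :=
        Subgroup.eq_of_le_of_card_ge inf_le_right hk.le
      -- the 2-group
      let B : Subgroup X := closure (Set.range t) ⊓ (S ⊓ centralizer {s})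
      have hB2 : IsPGroup 2 B := by
        intro b
        refine ⟨1, ?_⟩
        rw [pow_one, pow_two]
        exact Subtype.ext (closure_comm ht2 htc b b.2.1).2
      have hBC : B ≤ Q ⊔ C := by
        intro b hb
        have : b ∈ (Q ⊔ C) ⊓ (S ⊓ centralizer {s}) := by rw [heq]; exact hb.2
        exact this.1
      have hQ3 : IsPGroup 3 Q := IsPGroup.of_card F.cQ
      obtain ⟨w, hw, hwB⟩ := exists_conj hn hQ3 hB2 hBC
      -- `w g w⁻¹ = q' s`
      obtain ⟨q', hq'⟩ : ∃ q' : X, q' = w * q * (s * w⁻¹ * s⁻¹) := ⟨_, rfl⟩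
      have hq'Q : q' ∈ Q := by
        rw [hq']
        exact mul_mem (mul_mem hw hq) (hn.conj_mem _ (inv_mem hw) s)
      have e1 : w * (q * s) * w⁻¹ = q' * s := by rw [hq']; group
      have h4 : ∀ i j, i ≠ j → Commute q' (t i * t j) := by
        intro i j hij
        have hb : t i * t j ∈ B := by
          exact ⟨mul_mem (Subgroup.subset_closure ⟨i, rfl⟩) (Subgroup.subset_closure ⟨j, rfl⟩), htt i j,
            mem_centralizer_singleton_iff.2 ((A.st i).mul_right (A.st j)).eq.symm⟩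
        have h5 := hCg _ (hwB _ hb)
        have h6 : Commute (t i * t j) (q' * s) := by
          rw [← e1]
          show t i * t j * (w * (q * s) * w⁻¹) = w * (q * s) * w⁻¹ * (t i * t j)
          calc t i * t j * (w * (q * s) * w⁻¹) = w * ((w⁻¹ * (t i * t j) * w) * (q * s)) * w⁻¹ := by group
            _ = w * ((q * s) * (w⁻¹ * (t i * t j) * w)) * w⁻¹ := by rw [h5.eq]
            _ = _ := by group
        have h7 : Commute (t i * t j) s := ((A.st i).mul_right (A.st j)).symm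
        have h8 := h6.mul_right h7.inv_right
        rw [mul_inv_cancel_right] at h8
        exact h8.symm
      have h9 := Inv.mem_Z F T hq'Q h4
      apply hg
      have h10 : (q' * s) ^ 3 = 1 := by
        rw [(A.cz _ h9).symm.mul_pow, F.esQ.cub _ hq'Q, hs3, one_mul]
      have h11 : (q * s) ^ 3 = w⁻¹ * (q' * s) ^ 3 * w := by
        rw [← e1, conj_pow]; group
      rw [h11, h10]; group
    · have h4 : Nat.card ↥((Q ⊔ C) ⊓ (S ⊓ centralizer {s})) * 2 ≤
          Nat.card ↥((Q ⊔ C) ⊓ (S ⊓ centralizer {s})) * k := Nat.mul_le_mul_left _ hk2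
      rw [← hk] at h4
      omega
  exact h1.trans (Nat.mul_le_mul h2 h3)

end Cfsg.Agent.H180.R7
end

-- part: H180/R7/Two
section
/-!
# `Fi24'`: elements of order 9 whose cube is 3-central (helper180)

`SCases` : the statement on the elements of order three of `U5(2)` which is needed;
`x_two` : `|C(g)| ≤ 10077696` for every `g` of order 9 of `Fi24'` whose cube is conjugate to `X 2` or its inverse.
-/

set_option autoImplicit false
set_option maxRecDepth 100000

namespace Cfsg.Agent.H180.R7.Two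

open Subgroup
open Cfsg.Agent.LThreeFi24.Comp Cfsg.Agent.LThreeFi24.Twin Cfsg.Agent.H841.Ext
open Cfsg.Agent.H841.Tri
open Cfsg.Agent.LThreeFi24.SNine
open Cfsg.Agent.R08.FiTwentyFour (L mul_mem_commutator)
open Cfsg.Spor (Fi24)

/-- the elements of order three of `U5(2)` -/
def SCases : Prop := ∀ s : Fi24, s ∈ Cfsg.Agent.H834.U5.S0 → s ∈ commutator Fi24 → s ^ 3 = 1 → s ≠ 1 →
  Nat.card ↥(Cfsg.Agent.H834.U5.S0 ⊓ commutator Fi24 ⊓ centralizer {s}) ≤ 3888 ∨
  (Nat.card ↥(Cfsg.Agent.H834.U5.S0 ⊓ commutator Fi24 ⊓ centralizer {s}) ≤ 77760 ∧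
    ∃ f ∈ Cfsg.Agent.H834.U5.S0, Commute f s ∧ ∃ t : Fin 5 → Fi24, Function.Injective t ∧
      (∀ i, t i ∈ Cfsg.Agent.H834.U5.T0) ∧ (∀ i j, Commute (t i) (t j)) ∧ (∀ i, Commute s (t i)) ∧
      ∀ i : Fin 5, f * t i * f⁻¹ = t (i + 1))

/-- the even elements -/
abbrev Kc : Subgroup NX := (commutator Fi24).comap NX.subtype

/-- the complement -/
noncomputable abbrev Sc : Subgroup NX := Cfsg.Agent.H841.Ext.S0 DN zN ⊓ Kc

theorem finite_NX : Finite NX := by
  have : Finite Fi24 := Cfsg.Agent.R08.FiTwentyFour.finite_Fi24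
  infer_instance

theorem Q_le_Kc : QQ DN ≤ Kc := by
  rw [Subgroup.closure_le]
  rintro _ ⟨a, ha, b, hb, -, -, rfl⟩
  show ((a * b : NX) : Fi24) ∈ commutator Fi24
  exact mul_mem_commutator ha.1 hb.1

theorem inf_Sc : QQ DN ⊓ Sc = ⊥ := by
  have := finite_NX
  obtain ⟨f, hf⟩ := exists_fdat
  have := simple_psu5
  have h1 := dat.inf_S0 hf two_dvd_psu5 dat.normal_Q (IsPGroup.of_card card_QQ)
  rw [eq_bot_iff, ← h1]
  exact inf_le_inf_left _ inf_le_left

/-- the centralizer of `x3` -/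
theorem cent_xN {c : NX} (hc : Commute c xN) : c ∈ QQ DN ⊔ Cfsg.Agent.H841.Ext.S0 DN zN := by
  have := finite_NX
  rw [← dat.closure_D]
  have hle : Subgroup.closure DN ≤ centralizer {xN} := by
    rw [Subgroup.closure_le]
    intro t ht
    exact mem_centralizer_singleton_iff.2 (dat.cx t ht).eq
  have hcard : Nat.card (Subgroup.closure DN) = 3 ^ 11 * (2 * 13685760) := by
    obtain ⟨hn, ⟨j⟩⟩ := quot_S
    have hQ : QQ DN ≤ Subgroup.closure DN := by rw [dat.closure_D]; exact le_sup_left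
    rw [Subgroup.card_eq_card_quotient_mul_card_subgroup ((QQ DN).subgroupOf (Subgroup.closure DN)),
      Nat.card_congr (Subgroup.subgroupOfEquivOfLe hQ).toEquiv, card_QQ, Nat.card_congr j.toEquiv, Nat.card_prod,
      card_psu5]
    have h : Nat.card M2 = 2 := by
      rw [Nat.card_eq_fintype_card]
      decide
    rw [h]
    ring
  have heq : Subgroup.closure DN = centralizer {xN} := by
    apply Subgroup.eq_of_le_of_card_ge hle
    obtain ⟨k, hk⟩ := Subgroup.card_subgroup_dvd_card (centralizer ({xN} : Set NX))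
    have hk2 : 2 ≤ k := by
      by_contra hcon
      have hk1 : k = 1 := by
        have hpos : 0 < Nat.card NX := Nat.card_pos
        have : k ≠ 0 := by rintro rfl; omega
        omega
      rw [hk1, mul_one] at hk
      obtain ⟨n, hn⟩ := exists_inv
      apply hn
      have h1 : centralizer ({xN} : Set NX) = ⊤ := Subgroup.eq_top_of_card_eq _ hk.symm
      have h2 : n ∈ centralizer ({xN} : Set NX) := by rw [h1]; exact Subgroup.mem_top _
      rw [mem_centralizer_singleton_iff] at h2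
      rw [h2, mul_inv_cancel_right]
    rw [card_NX] at hk
    rw [hcard]
    have h3 : Nat.card (centralizer ({xN} : Set NX)) * 2 ≤ Nat.card (centralizer ({xN} : Set NX)) * k :=
      Nat.mul_le_mul_left _ hk2
    rw [← hk] at h3
    have e : 3 ^ 11 * (2 * (2 * 13685760)) = 3 ^ 11 * (2 * 13685760) * 2 := by norm_num
    rw [e] at h3
    exact Nat.le_of_mul_le_mul_right h3 (by norm_num)
  rw [heq]
  exact mem_centralizer_singleton_iff.2 hc.eq

theorem cent_le {c : NX} (hc : Commute c xN) (hK : c ∈ Kc) : c ∈ QQ DN ⊔ Sc := by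
  have hn : (QQ DN).Normal := dat.normal_Q
  obtain ⟨q, hq, s, hs, e⟩ := Subgroup.mem_sup_of_normal_left.1 (cent_xN hc)
  have hsK : s ∈ Kc := by
    have : s = q⁻¹ * c := by rw [← e, inv_mul_cancel_left]
    rw [this]
    exact mul_mem (inv_mem (Q_le_Kc hq)) hK
  rw [← e]
  exact mul_mem (Subgroup.mem_sup_left hq) (Subgroup.mem_sup_right ⟨hs, hsK⟩)

/-- the order of the centralizer in the complement -/
theorem card_cent_le {s : NX} : Nat.card ↥(Sc ⊓ centralizer {s}) ≤
    Nat.card ↥(Cfsg.Agent.H834.U5.S0 ⊓ commutator Fi24 ⊓ centralizer {(s : Fi24)}) := by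
  have hfin : Finite Fi24 := Cfsg.Agent.R08.FiTwentyFour.finite_Fi24
  have h1 : Nat.card ↥(Sc ⊓ centralizer {s}) = Nat.card ↥((Sc ⊓ centralizer {s}).map NX.subtype) :=
    Nat.card_congr ((Sc ⊓ centralizer {s}).equivMapOfInjective _ (Subgroup.subtype_injective _)).toEquiv
  rw [h1]
  apply Nat.le_of_dvd Nat.card_pos
  apply Subgroup.card_dvd_of_le
  rintro _ ⟨c, ⟨⟨h2, h3⟩, h4⟩, rfl⟩
  refine ⟨⟨?_, h3⟩, mem_centralizer_singleton_iff.2 (congrArg Subtype.val (mem_centralizer_singleton_iff.1 h4))⟩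
  have : ((c : NX) : Fi24) ∈ (Cfsg.Agent.H841.Ext.S0 DN zN).map NX.subtype := ⟨c, h2, rfl⟩
  rwa [map_S0] at this

/-- **the bound in `N(⟨x3⟩)`** -/
theorem bound_NX (hS : SCases) {g : NX} (hg3 : g ^ 3 = xN) (hgK : g ∈ Kc) :
    Nat.card ↥(centralizer ({g} : Set NX) ⊓ Kc) ≤ 10077696 := by
  have := finite_NX
  have hn : (QQ DN).Normal := dat.normal_Q
  have hgx : Commute g xN := by rw [← hg3]; exact (Commute.refl _).pow_right _
  have hx1 : xN ≠ 1 := by
    intro h
    have := card_xN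
    rw [h, Subgroup.zpowers_one_eq_bot, Subgroup.card_bot] at this
    norm_num at this
  have hx3 : xN ^ 3 = 1 := by
    have := card_xN
    rw [Nat.card_zpowers] at this
    rw [← this]; exact pow_orderOf_eq_one _
  obtain ⟨q, hq, s, hs, rfl⟩ := Subgroup.mem_sup_of_normal_left.1 (cent_le hgx hgK)
  have hEs := es_QQ
  -- `s ^ 3 = 1`
  have hs3 : s ^ 3 = 1 := by
    have h1 : s ^ 3 ∈ QQ DN ⊓ Sc := by
      refine Subgroup.mem_inf.2 ⟨?_, pow_mem hs 3⟩
      have e : s ^ 3 = (q * (s * q * s⁻¹) * (s ^ 2 * q * (s ^ 2)⁻¹))⁻¹ * (q * s) ^ 3 := by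
        have e3 : s * s * s = s ^ 3 := by rw [pow_succ, pow_two]
        rw [pow_succ (q * s), pow_two (q * s), ← e3, pow_two s]
        simp only [mul_inv_rev, mul_assoc, inv_inv, inv_mul_cancel_left]
      rw [e, hg3]
      exact mul_mem (inv_mem (mul_mem (mul_mem hq (hn.conj_mem q hq s)) (hn.conj_mem q hq (s ^ 2))))
        (hEs.le (mem_zpowers _))
    rw [inf_Sc, Subgroup.mem_bot] at h1
    exact h1
  have hs1 : s ≠ 1 := by
    intro h
    rw [h, mul_one] at hg3
    rw [hEs.cub q hq] at hg3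
    exact hx1 hg3.symm
  have hg3' : (q * s) ^ 3 ≠ 1 := by rw [hg3]; exact hx1
  have hC : centralizer ({q * s} : Set NX) ⊓ Kc ≤ QQ DN ⊔ Sc := by
    rintro c ⟨h1, h2⟩
    refine cent_le ?_ h2
    rw [← hg3]
    exact Commute.pow_right (mem_centralizer_singleton_iff.1 h1) _
  have hCg : ∀ c ∈ centralizer ({q * s} : Set NX) ⊓ Kc, Commute c (q * s) := fun c hc =>
    mem_centralizer_singleton_iff.1 hc.1
  have hsF : (s : Fi24) ∈ Cfsg.Agent.H834.U5.S0 := by
    rw [← map_S0]; exact ⟨s, hs.1, rfl⟩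
  rcases hS s hsF hs.2 (congrArg Subtype.val hs3) (fun h => hs1 (Subtype.ext h)) with hbd | ⟨hbd, f, hf, hfs, t, hinj, htT, htc,
    hst, hft⟩
  · -- not a reflection
    have h1 := card_le_mul hn inf_Sc hq hs hC hCg
    have hgo : orderOf (q * s) = 3 ^ 2 := by
      apply orderOf_eq_prime_pow
      · rw [pow_one]; exact hg3'
      · rw [show (3 : ℕ) ^ (1 + 1) = 3 * 3 by norm_num, pow_mul, hg3, hx3]
    obtain ⟨p0, hp0, hpt0⟩ := Cfsg.Agent.H597.OreFi.NineB.exists_moved (b := 2) le_rfl hgo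
    have hr := Cfsg.Agent.H597.OreFi.rank dat Cfsg.Agent.H834.GeoDN.geoDN card_Qc card_xN (g := q * s) hgx (n := 2)
      (by rw [← hgo, pow_orderOf_eq_one]) hp0 hpt0
    have h2 : Nat.card ↥((centralizer ({q * s} : Set NX) ⊓ Kc) ⊓ QQ DN) ≤ 3 ^ 7 := by
      refine le_trans ?_ hr
      apply Nat.le_of_dvd Nat.card_pos
      apply Subgroup.card_dvd_of_le
      exact inf_le_inf_right _ inf_le_left
    have h3 : Nat.card ↥((QQ DN ⊔ (centralizer ({q * s} : Set NX) ⊓ Kc)) ⊓ (Sc ⊓ centralizer {s})) ≤ 3888 := by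
      refine le_trans ?_ (card_cent_le.trans hbd)
      apply Nat.le_of_dvd Nat.card_pos
      exact Subgroup.card_dvd_of_le inf_le_right
    exact (h1.trans (Nat.mul_le_mul h2 h3)).trans (by norm_num)
  · -- a reflection
    let tN : Fin 5 → NX := fun i => mk (t i) (T0_E3 (htT i))
    have htN : ∀ i, tN i ∈ Cfsg.Agent.H841.Ext.T0 DN zN := fun i => mem_T0_iff.2 (htT i)
    have hinjN : Function.Injective tN := fun i j h => hinj (congrArg Subtype.val h)
    have htcN : ∀ i j, Commute (tN i) (tN j) := fun i j => Subtype.ext (htc i j).eq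
    have hstN : ∀ i, Commute s (tN i) := fun i => Subtype.ext (hst i).eq
    obtain ⟨fN, hfN, hff⟩ : f ∈ (Cfsg.Agent.H841.Ext.S0 DN zN).map NX.subtype := by rw [map_S0]; exact hf
    have hff' : (fN : Fi24) = f := hff
    have hfsN : Commute fN s := Subtype.ext (by
      show (fN : Fi24) * s = s * fN
      rw [hff']; exact hfs.eq)
    have hftN : ∀ i : Fin 5, fN * tN i * fN⁻¹ = tN (i + 1) := fun i => Subtype.ext (by
      show (fN : Fi24) * t i * (fN : Fi24)⁻¹ = t (i + 1)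
      rw [hff']; exact hft i)
    have F := fam dat htN hinjN htcN card_Qc card_xN
    have T := inv_t dat htN hinjN htcN
    have hsQ : s ∉ QQ DN := by
      intro h
      apply hs1
      have h1 : s ∈ QQ DN ⊓ Sc := ⟨h, hs⟩
      rwa [inf_Sc, Subgroup.mem_bot] at h1
    have hqx : Commute q xN := (hEs.cen xN (mem_zpowers _) q hq).symm
    have hsx : Commute s xN := by
      have h := hqx.inv_left.mul_left hgx
      rwa [inv_mul_cancel_left] at h
    have A := act_t dat htN hinjN htcN card_Qc card_xN hsx hstN hfsN hftN hsQ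
    have htt : ∀ i j, tN i * tN j ∈ Sc := fun i j =>
      ⟨mul_mem (Subgroup.subset_closure (htN i)) (Subgroup.subset_closure (htN j)),
        mul_mem_commutator (htT i).1 (htT j).1⟩
    have ht2 : ∀ i, tN i * tN i = 1 := fun i => dat.ts.sq _ (htN i).1
    have h := card_ref F T A hn inf_Sc hs hs3 hq hg3' hC hCg htt ht2 htcN (m := 38880) (card_cent_le.trans hbd)
    exact h.trans (by norm_num)

/-- **the bound** -/
theorem bound (hS : SCases) {g : Spor.Fi24'} (hg3 : (g : Fi24) ^ 3 = x3) :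
    Nat.card (centralizer ({g} : Set Spor.Fi24')) ≤ 10077696 := by
  have hgx : Commute (g : Fi24) x3 := by rw [← hg3]; exact (Commute.refl _).pow_right _
  let gN : NX := ⟨(g : Fi24), mem_NX_of_comm hgx⟩
  refine le_trans (le_of_eq ?_) (bound_NX hS (g := gN) (Subtype.ext hg3) g.2)
  let C := centralizer ({gN} : Set NX) ⊓ Kc
  have h1 : Nat.card (centralizer ({g} : Set Spor.Fi24')) =
      Nat.card ((centralizer ({g} : Set Spor.Fi24')).map (commutator Fi24).subtype) :=
    Nat.card_congr ((centralizer ({g} : Set Spor.Fi24')).equivMapOfInjective _ (Subgroup.subtype_injective _)).toEquiv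
  have h2 : Nat.card C = Nat.card (C.map NX.subtype) :=
    Nat.card_congr (C.equivMapOfInjective _ (Subgroup.subtype_injective _)).toEquiv
  have h3 : (centralizer ({g} : Set Spor.Fi24')).map (commutator Fi24).subtype = C.map NX.subtype := by
    ext y
    constructor
    · rintro ⟨c, hc, rfl⟩
      have h4 : Commute (c : Fi24) (g : Fi24) := congrArg Subtype.val (mem_centralizer_singleton_iff.1 hc)
      have h5 : Commute (c : Fi24) x3 := by rw [← hg3]; exact h4.pow_right 3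
      exact ⟨⟨(c : Fi24), mem_NX_of_comm h5⟩, ⟨mem_centralizer_singleton_iff.2 (Subtype.ext h4), c.2⟩, rfl⟩
    · rintro ⟨c, ⟨h4, h5⟩, rfl⟩
      exact ⟨⟨(c : Fi24), h5⟩, mem_centralizer_singleton_iff.2 (Subtype.ext
        (congrArg Subtype.val (mem_centralizer_singleton_iff.1 h4) : (c : Fi24) * g = g * c)), rfl⟩
  rw [h1, h3, ← h2]

end Cfsg.Agent.H180.R7.Two
end

-- part: H304/R7/Quad
section
/-!
# Minus type quadratic form of dimension 6 over `F_3` (helper304)

* `card_sing` : totally singular subgroups have at most 9 elements;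
* `card_not_two` : subgroups on which the form does not take the value 2 have at most 27 elements;
* `eq_id` : commuting linear maps `k`, `m` of `F_3`-spaces, `k ^ r = 1`, `3 ∤ r`, `m` of 3-power order, `k = 1` on the fixed
  vectors of `m`: then `k = 1`.
-/

set_option autoImplicit false

namespace Cfsg.Agent.H304.R7.Quad

open Cfsg.Agent.H841.Sev (W I6)

/-- the form -/
abbrev q (u : W) : ZMod 3 := Cfsg.quadFormMinus 2 (ZMod 3) 0 1 u

abbrev x0 (u : W) : ZMod 3 := u (.inl (.inl 0))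
abbrev x1 (u : W) : ZMod 3 := u (.inl (.inl 1))
abbrev y0 (u : W) : ZMod 3 := u (.inl (.inr 0))
abbrev y1 (u : W) : ZMod 3 := u (.inl (.inr 1))
abbrev za (u : W) : ZMod 3 := u (.inr 0)
abbrev zb (u : W) : ZMod 3 := u (.inr 1)

/-- the polar form -/
def bq (u v : W) : ZMod 3 := x0 u * y0 v + y0 u * x0 v + (x1 u * y1 v + y1 u * x1 v) + 2 * (za u * za v + zb u * zb v)

theorem q_eq (u : W) : q u = x0 u * y0 u + x1 u * y1 u + (za u * za u + zb u * zb u) := by
  unfold q Cfsg.quadFormMinus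
  rw [Fin.sum_univ_two]
  ring

theorem q_add (u v : W) : q (u + v) = q u + q v + bq u v := by
  rw [q_eq, q_eq, q_eq]
  unfold bq x0 x1 y0 y1 za zb
  simp only [Pi.add_apply]
  ring

theorem q_sub (u v : W) : q (u - v) = q u + q v - bq u v := by
  rw [q_eq, q_eq, q_eq]
  unfold bq x0 x1 y0 y1 za zb
  simp only [Pi.sub_apply]
  ring

theorem ext_six {u : W} (h1 : x0 u = 0) (h2 : x1 u = 0) (h3 : y0 u = 0) (h4 : y1 u = 0) (h5 : za u = 0) (h6 : zb u = 0) :
    u = 0 := by
  funext i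
  rcases i with (i | i) | i
  · fin_cases i
    · exact h1
    · exact h2
  · fin_cases i
    · exact h3
    · exact h4
  · fin_cases i
    · exact h5
    · exact h6

theorem sq_sum : ∀ a b : ZMod 3, a * a + b * b = 0 → a = 0 ∧ b = 0 := by decide

theorem z_zero {u : W} (h : q u = 0) (h1 : x0 u = 0) (h2 : x1 u = 0) : za u = 0 ∧ zb u = 0 := by
  rw [q_eq, h1, h2, zero_mul, zero_mul, zero_add, zero_add] at h
  exact sq_sum _ _ h

theorem card_le_of_map {U : AddSubgroup W} (f : W → ZMod 3 × ZMod 3) (hf : ∀ u v, f (u - v) = f u - f v)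
    (h : ∀ u ∈ U, f u = 0 → u = 0) : Nat.card U ≤ 9 := by
  have hinj : Function.Injective (fun u : U => f u) := by
    intro u v huv
    apply Subtype.ext
    apply sub_eq_zero.1
    apply h _ (U.sub_mem u.2 v.2)
    rw [hf]
    exact sub_eq_zero.2 huv
  refine (Nat.card_le_card_of_injective _ hinj).trans ?_
  rw [Nat.card_prod, Nat.card_zmod]

theorem arith : ∀ a b c d : ZMod 3, (a ≠ 0 ∨ b ≠ 0) → (c ≠ 0 ∨ d ≠ 0) → a * c + b * d = 0 →
    (a ≠ 0 ∧ d ≠ 0) ∨ (b ≠ 0 ∧ c ≠ 0) := by decide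

/-- totally singular subgroups -/
theorem card_sing {U : AddSubgroup W} (hU : ∀ u ∈ U, q u = 0) : Nat.card U ≤ 9 := by
  have hb : ∀ u ∈ U, ∀ v ∈ U, bq u v = 0 := by
    intro u hu v hv
    have h := q_add u v
    rw [hU u hu, hU v hv, hU _ (U.add_mem hu hv), zero_add, zero_add] at h
    exact h.symm
  by_cases h0 : ∃ u ∈ U, x0 u ≠ 0 ∨ x1 u ≠ 0
  · by_cases h1 : ∃ u ∈ U, x0 u = 0 ∧ x1 u = 0 ∧ (y0 u ≠ 0 ∨ y1 u ≠ 0)
    · obtain ⟨u, hu, hux⟩ := h0
      obtain ⟨v, hv, hv0, hv1, hvy⟩ := h1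
      have hz := z_zero (hU v hv) hv0 hv1
      have key : ∀ w ∈ U, x0 w * y0 v + x1 w * y1 v = 0 := by
        intro w hw
        have h := hb w hw v hv
        unfold bq at h
        rw [hv0, hv1, hz.1, hz.2] at h
        simpa using h
      have key2 : ∀ w ∈ U, x0 w = 0 → x1 w = 0 → x0 u * y0 w + x1 u * y1 w = 0 := by
        intro w hw hw0 hw1
        have h := hb u hu w hw
        have hz := z_zero (hU w hw) hw0 hw1
        unfold bq at h
        rw [hw0, hw1, hz.1, hz.2] at h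
        simpa using h
      rcases arith _ _ _ _ hux hvy (key u hu) with ⟨ha, hd⟩ | ⟨ha, hd⟩
      · -- the coordinates `x0`, `y1`
        refine card_le_of_map (fun u => (x0 u, y1 u)) (fun _ _ => rfl) ?_
        intro w hw h
        have w0 : x0 w = 0 := congrArg Prod.fst h
        have w1 : y1 w = 0 := congrArg Prod.snd h
        have k1 := key w hw
        rw [w0, zero_mul, zero_add] at k1
        have w2 : x1 w = 0 := (mul_eq_zero.1 k1).resolve_right hd
        have k2 := key2 w hw w0 w2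
        rw [w1, mul_zero, add_zero] at k2
        have w3 : y0 w = 0 := (mul_eq_zero.1 k2).resolve_left ha
        have hz := z_zero (hU w hw) w0 w2
        exact ext_six w0 w2 w3 w1 hz.1 hz.2
      · refine card_le_of_map (fun u => (x1 u, y0 u)) (fun _ _ => rfl) ?_
        intro w hw h
        have w0 : x1 w = 0 := congrArg Prod.fst h
        have w1 : y0 w = 0 := congrArg Prod.snd h
        have k1 := key w hw
        rw [w0, zero_mul, add_zero] at k1
        have w2 : x0 w = 0 := (mul_eq_zero.1 k1).resolve_right hd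
        have k2 := key2 w hw w2 w0
        rw [w1, mul_zero, zero_add] at k2
        have w3 : y1 w = 0 := (mul_eq_zero.1 k2).resolve_left ha
        have hz := z_zero (hU w hw) w2 w0
        exact ext_six w2 w0 w1 w3 hz.1 hz.2
    · push Not at h1
      refine card_le_of_map (fun u => (x0 u, x1 u)) (fun _ _ => rfl) ?_
      intro w hw h
      have w0 : x0 w = 0 := congrArg Prod.fst h
      have w1 : x1 w = 0 := congrArg Prod.snd h
      have w2 := h1 w hw w0 w1
      have hz := z_zero (hU w hw) w0 w1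
      exact ext_six w0 w1 w2.1 w2.2 hz.1 hz.2
  · push Not at h0
    refine card_le_of_map (fun u => (y0 u, y1 u)) (fun _ _ => rfl) ?_
    intro w hw h
    have w0 : y0 w = 0 := congrArg Prod.fst h
    have w1 : y1 w = 0 := congrArg Prod.snd h
    have w2 := h0 w hw
    have hz := z_zero (hU w hw) w2.1 w2.2
    exact ext_six w2.1 w2.2 w0 w1 hz.1 hz.2

theorem arith2 : ∀ a b : ZMod 3, a ≠ 2 → b ≠ 2 → ∀ c : ZMod 3, a + b + c ≠ 2 → a + b - c ≠ 2 → a = 0 → b = 0 → c = 0 := by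
  decide

theorem arith3 : ∀ c : ZMod 3, (1 : ZMod 3) + 1 + c ≠ 2 → 1 + 1 + c = 0 ∨ 1 + 1 - c = 0 := by decide

theorem arith4 : ∀ a : ZMod 3, a ≠ 2 → a ≠ 0 → a = 1 := by decide

/-- subgroups on which the form does not take the value 2 -/
theorem card_not_two {S : AddSubgroup W} (hS : ∀ u ∈ S, q u ≠ 2) : Nat.card S ≤ 27 := by
  have q0 : q 0 = 0 := by
    rw [q_eq]
    show (0 : ZMod 3) * 0 + 0 * 0 + (0 * 0 + 0 * 0) = 0
    decide
  have qn : ∀ u, q (-u) = q u := by
    intro u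
    have h := q_sub 0 u
    rw [zero_sub, q0, zero_add] at h
    have hb : bq 0 u = 0 := by
      unfold bq
      show (0 : ZMod 3) * _ + 0 * _ + (0 * _ + 0 * _) + 2 * (0 * _ + 0 * _) = 0
      ring
    rw [h, hb, sub_zero]
  let U : AddSubgroup W :=
    { carrier := {u | u ∈ S ∧ q u = 0}
      zero_mem' := ⟨S.zero_mem, q0⟩
      add_mem' := by
        rintro u v ⟨hu, hu0⟩ ⟨hv, hv0⟩
        refine ⟨S.add_mem hu hv, ?_⟩
        have h1 := hS _ (S.add_mem hu hv)
        have h2 := hS _ (S.sub_mem hu hv)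
        rw [q_add] at h1
        rw [q_sub] at h2
        have h3 := arith2 _ _ (hS u hu) (hS v hv) _ h1 h2 hu0 hv0
        rw [q_add, hu0, hv0, h3, add_zero, add_zero]
      neg_mem' := by
        rintro u ⟨hu, hu0⟩
        exact ⟨S.neg_mem hu, by rw [qn, hu0]⟩ }
  have hUm : ∀ u, u ∈ U ↔ u ∈ S ∧ q u = 0 := fun u => Iff.rfl
  have hU : Nat.card U ≤ 9 := card_sing fun u hu => ((hUm u).1 hu).2
  have key : ∃ u1 : W, ∀ u ∈ S, ∃ c : ZMod 3, u - c • u1 ∈ U := by
    by_cases h : ∃ u ∈ S, q u ≠ 0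
    · obtain ⟨u1, hu1, hq1⟩ := h
      have hq1' := arith4 _ (hS u1 hu1) hq1
      refine ⟨u1, fun u hu => ?_⟩
      by_cases hq : q u = 0
      · exact ⟨0, by rw [zero_smul, sub_zero]; exact (hUm u).2 ⟨hu, hq⟩⟩
      · have hq' := arith4 _ (hS u hu) hq
        have h1 := hS _ (S.add_mem hu hu1)
        rw [q_add, hq', hq1'] at h1
        rcases arith3 _ h1 with h2 | h2
        · refine ⟨-1, ?_⟩
          rw [neg_one_smul, sub_neg_eq_add]
          refine (hUm _).2 ⟨S.add_mem hu hu1, ?_⟩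
          rw [q_add, hq', hq1', h2]
        · refine ⟨1, ?_⟩
          rw [one_smul]
          refine (hUm _).2 ⟨S.sub_mem hu hu1, ?_⟩
          rw [q_sub, hq', hq1', h2]
    · push Not at h
      exact ⟨0, fun u hu => ⟨0, by rw [zero_smul, sub_zero]; exact (hUm u).2 ⟨hu, h u hu⟩⟩⟩
  obtain ⟨u1, h1⟩ := key
  have h2 : ∀ u : S, ∃ c : ZMod 3, (u : W) - c • u1 ∈ U := fun u => h1 u u.2
  choose c hc using h2
  have hinj : Function.Injective (fun u : S => ((c u, (⟨(u : W) - c u • u1, hc u⟩ : U)) : ZMod 3 × U)) := by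
    intro u v huv
    have e1 : c u = c v := congrArg Prod.fst huv
    have e2 : (u : W) - c u • u1 = (v : W) - c v • u1 := congrArg (fun x : ZMod 3 × U => (x.2 : W)) huv
    rw [e1] at e2
    exact Subtype.ext (sub_left_injective e2)
  calc Nat.card S ≤ Nat.card (ZMod 3 × U) := Nat.card_le_card_of_injective _ hinj
    _ = 3 * Nat.card U := by rw [Nat.card_prod, Nat.card_zmod]
    _ ≤ 3 * 9 := Nat.mul_le_mul_left _ hU
    _ = 27 := by norm_num

/-! ### Commuting linear maps -/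

universe u

theorem fix_modEq {α : Type u} [Finite α] (f : α → α) {p n : ℕ} [Fact p.Prime] (hf : f^[p ^ n] = id) :
    Nat.card α ≡ Nat.card {x // f x = x} [MOD p] := by
  classical
  have := Fintype.ofFinite α
  have h := Equiv.Perm.card_fixedPoints_modEq (f := (f : Function.End α)) (p := p) (n := n) hf
  rw [Nat.card_eq_fintype_card, Nat.card_eq_fintype_card]
  have e : Fintype.card (Function.fixedPoints f) = Fintype.card {x // f x = x} := Fintype.card_congr (Equiv.refl _)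
  rw [← e]
  exact h

theorem eq_id {X : Type u} [AddCommGroup X] [Module (ZMod 3) X] [Finite X] {k m : X →ₗ[ZMod 3] X} {r b : ℕ}
    (hk : (⇑k)^[r] = id) (hr : (r : ZMod 3) ≠ 0) (hm : (⇑m)^[3 ^ b] = id) (hc : ∀ u, k (m u) = m (k u))
    (hf : ∀ u, m u = u → k u = u) : k = LinearMap.id := by
  have f3 : Fact (Nat.Prime 3) := ⟨by norm_num⟩
  let R : AddSubgroup X := ((k - LinearMap.id).range).toAddSubgroup
  have hR : ∀ x, x ∈ R ↔ ∃ w, k w - w = x := fun x => Iff.rfl
  have h0 : ∀ x ∈ R, m x = x → x = 0 := by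
    intro x hx hmx
    obtain ⟨w, hw⟩ := (hR x).1 hx
    have hkx := hf x hmx
    have hi : ∀ i : ℕ, (⇑k)^[i] w = w + (i : ZMod 3) • x := by
      intro i
      induction i with
      | zero => rw [Nat.cast_zero, zero_smul, add_zero]; rfl
      | succ i ih =>
        rw [Function.iterate_succ_apply', ih, map_add, map_smul, hkx, Nat.cast_succ, add_smul, one_smul, ← hw]
        abel
    have h1 := hi r
    rw [hk] at h1
    have h2 : (r : ZMod 3) • x = 0 := by
      have h3 : w + 0 = w + (r : ZMod 3) • x := by rw [add_zero]; exact h1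
      exact (add_left_cancel h3).symm
    exact (smul_eq_zero.1 h2).resolve_left hr
  have hmR : ∀ x : R, m (x : X) ∈ R := by
    intro x
    obtain ⟨w, hw⟩ := (hR x).1 x.2
    refine (hR _).2 ⟨m w, ?_⟩
    rw [hc, ← hw, map_sub]
  let f : R → R := fun x => ⟨m (x : X), hmR x⟩
  have hf' : ∀ (n : ℕ) (x : R), ((f^[n] x : R) : X) = (⇑m)^[n] (x : X) := by
    intro n
    induction n with
    | zero => intro x; rfl
    | succ n ih => intro x; rw [Function.iterate_succ_apply, Function.iterate_succ_apply, ih]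
  have hf3 : f^[3 ^ b] = id := by
    funext x
    apply Subtype.ext
    rw [hf', hm]
    rfl
  have h1 := fix_modEq f hf3
  have h2 : Nat.card {x : R // f x = x} = 1 := by
    rw [Nat.card_eq_one_iff_unique]
    refine ⟨⟨fun x y => ?_⟩, ⟨⟨0, Subtype.ext (map_zero m)⟩⟩⟩
    have hx : ((x : R) : X) = 0 := h0 _ (x : R).2 (congrArg Subtype.val x.2)
    have hy : ((y : R) : X) = 0 := h0 _ (y : R).2 (congrArg Subtype.val y.2)
    exact Subtype.ext (Subtype.ext (hx.trans hy.symm))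
  rw [h2] at h1
  have h3 : ∀ x : R, x = 0 := by
    intro x
    by_contra hx
    have h4 : addOrderOf x = 3 := by
      refine addOrderOf_eq_prime ?_ hx
      apply Subtype.ext
      show (3 : ℕ) • (x : X) = 0
      rw [← Nat.cast_smul_eq_nsmul (ZMod 3)]
      rw [ZMod.natCast_self 3, zero_smul]
    have h5 : 3 ∣ Nat.card R := h4 ▸ addOrderOf_dvd_natCard x
    unfold Nat.ModEq at h1
    omega
  ext w
  have h4 := h3 ⟨k w - w, (hR _).2 ⟨w, rfl⟩⟩
  have h5 : k w - w = 0 := congrArg Subtype.val h4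
  exact sub_eq_zero.1 h5

/-- a linear map of order 5 or 7 is trivial on invariant subgroups of order at most 27 -/
theorem fix_small {X : Type u} [AddCommGroup X] [Module (ZMod 3) X] [Finite X] {S : AddSubgroup X} {n : ℕ}
    (hX : Nat.card X = 3 ^ n) (hS : Nat.card S ≤ 27) {k : X →ₗ[ZMod 3] X} (hkS : ∀ x ∈ S, k x ∈ S) {r : ℕ}
    (hr : r = 5 ∨ r = 7) (hk : (⇑k)^[r] = id) : ∀ x ∈ S, k x = x := by
  have fr : Fact (Nat.Prime r) := ⟨by rcases hr with rfl | rfl <;> norm_num⟩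
  let f : S → S := fun x => ⟨k (x : X), hkS _ x.2⟩
  have hf' : ∀ (n : ℕ) (x : S), ((f^[n] x : S) : X) = (⇑k)^[n] (x : X) := by
    intro n
    induction n with
    | zero => intro x; rfl
    | succ n ih => intro x; rw [Function.iterate_succ_apply, Function.iterate_succ_apply, ih]
  have hfr : f^[r ^ 1] = id := by
    funext x
    apply Subtype.ext
    rw [hf', pow_one, hk]
    rfl
  have h1 := fix_modEq f hfr
  let F : AddSubgroup S :=
    { carrier := {x | k (x : X) = (x : X)}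
      zero_mem' := map_zero k
      add_mem' := by
        intro a b ha hb
        show k ((a : X) + (b : X)) = (a : X) + (b : X)
        rw [map_add, show k (a : X) = a from ha, show k (b : X) = b from hb]
      neg_mem' := by
        intro a ha
        show k (-(a : X)) = -(a : X)
        rw [map_neg, show k (a : X) = a from ha] }
  have hF : Nat.card {x : S // f x = x} = Nat.card F :=
    Nat.card_congr (Equiv.subtypeEquivRight fun x => ⟨fun h => congrArg Subtype.val h, fun h => Subtype.ext h⟩)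
  rw [hF] at h1
  obtain ⟨d, -, hd⟩ := (Nat.dvd_prime_pow Nat.prime_three).1 (hX ▸ AddSubgroup.card_addSubgroup_dvd_card S)
  obtain ⟨e, hed, he⟩ := (Nat.dvd_prime_pow Nat.prime_three).1 (hd ▸ AddSubgroup.card_addSubgroup_dvd_card F)
  have hd3 : d ≤ 3 := by
    by_contra hcon
    have : 3 ^ 4 ≤ 3 ^ d := Nat.pow_le_pow_right (by norm_num) (by omega)
    omega
  have hde : e = d := by
    rw [hd, he] at h1
    unfold Nat.ModEq at h1
    rcases hr with rfl | rfl <;> interval_cases d <;> interval_cases e <;> first | rfl | (exfalso; revert h1; norm_num)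
  have hT : F = ⊤ := AddSubgroup.eq_top_of_card_eq _ (by rw [he, hd, hde])
  intro x hx
  have : (⟨x, hx⟩ : S) ∈ F := by rw [hT]; trivial
  exact this

end Cfsg.Agent.H304.R7.Quad
end

-- part: H304/R7/XOne
section
/-!
# `Fi24'`: elements of order 9 whose cube has width 6 (helper304)

`x_one` : `|C(g)| ≤ 7558272` for every `g` of order 9 of `Fi24'` whose cube is conjugate to `X 1` or its inverse.
-/

set_option autoImplicit false
set_option maxRecDepth 100000

namespace Cfsg.Agent.H304.R7.XOne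

open Subgroup
open Cfsg Cfsg.Agent.Fischer.Fi24Final
open Cfsg.Agent.H841.Sev
open Cfsg.Agent.LThreeFi24.SNine (x2)
open Cfsg.Agent.R08.FiTwentyFour (L mem_commutator_iff sgn_L mul_mem_commutator)
open Cfsg.Agent.H48.OreFi
open Cfsg.Agent.H48.OreFi.WOne (C' C'_le card_C' exists_inter fx mem_fx pow_iter a6l_id card_W x2_ne cl ca)
open Cfsg.Spor (Fi24)

local notation "gn" => Cfsg.Agent.Fischer.Fi24Class.gen

theorem cube_aux {G : Type*} [Group G] {g t a : G} (h7 : g * t = t * a * g) (h6 : g * a = a * g)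
    (h8 : a * a * a = 1) : g ^ 3 * t = t * g ^ 3 := by
  have h7' : ∀ x, g * (t * x) = t * (a * (g * x)) := fun x => by rw [← mul_assoc, h7]; simp only [mul_assoc]
  have h6' : ∀ x, g * (a * x) = a * (g * x) := fun x => by rw [← mul_assoc, h6, mul_assoc]
  have h8' : ∀ x, a * (a * (a * x)) = x := fun x => by rw [← mul_assoc, ← mul_assoc, h8, one_mul]
  rw [mul_assoc] at h7
  rw [pow_three]
  simp only [mul_assoc, h7, h7', h6', h8']

/-- the matrix of `g` fixes the vectors commuting with `g` -/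
theorem ac_fix {g : Fi24} (hN : g ∈ N) {c : V} (hg : Commute g (vec c)) : ac (Ph ⟨g, hN⟩) c = c := by
  apply vec_inj
  rw [← Ph_spec ⟨g, hN⟩ c]
  show g * vec c * g⁻¹ = vec c
  rw [hg.eq, mul_inv_cancel_right]

/-- **the three transpositions over a fixed reflection** -/
theorem lam {g : Fi24} (hN : g ∈ N) {c : V} (hg : Commute g (vec c)) {t : Fi24} (ht : t ∈ L) (h : Cen t c) :
    Commute (g ^ 3) t := by
  have h2 : Cen (g * t * g⁻¹) c := by
    have := h.conj hN
    rwa [ac_fix hN hg] at this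
  obtain ⟨v, hv⟩ := mem_A.1 (h.mul_mem h2)
  have t2 : t * t = 1 := Cfsg.Agent.R08.FiTwentyFour.sq ht
  have tinv : t⁻¹ = t := inv_eq_of_mul_eq_one_left t2
  have h3 : t * vec v * t⁻¹ = (vec v)⁻¹ := by
    rw [hv, tinv]
    calc t * (t * (g * t * g⁻¹)) * t = (t * t) * (g * t * g⁻¹) * t := by group
      _ = g * t * g⁻¹ * t := by rw [t2, one_mul]
      _ = (t⁻¹ * (g * t⁻¹ * g⁻¹))⁻¹ := by group
      _ = (t * (g * t * g⁻¹))⁻¹ := by rw [tinv]
  rw [h.2, ← vec_neg] at h3
  have h4 : rc c v = -v := vec_inj h3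
  have h5 : v = (-(Bf v c)) • c := by
    unfold rc at h4
    have h6 : v + v = Bf v c • c := by
      calc v + v = (v - Bf v c • c) + v + Bf v c • c := by abel
        _ = _ := by rw [h4, neg_add_cancel, zero_add]
    have h7 : v + v = -v := by
      have : (2 : ZMod 3) • v = (-1 : ZMod 3) • v := by
        have : (2 : ZMod 3) = -1 := by decide
        rw [this]
      rwa [two_smul, neg_one_smul] at this
    rw [neg_smul, ← h6, h7, neg_neg]
  have h6 : Commute g (vec v) := by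
    rw [h5, vec_smul]
    exact hg.pow_right _
  have h7 : g * t = t * vec v * g := by
    rw [hv]
    calc g * t = (g * t * g⁻¹) * g := by group
      _ = (t * t) * (g * t * g⁻¹) * g := by rw [t2, one_mul]
      _ = _ := by group
  have h8 : vec v * vec v * vec v = 1 := by
    have := vec_cube v
    rwa [pow_succ, pow_two] at this
  exact cube_aux h7 h6.eq h8

/-- fixed vectors of norm 1 are orthogonal to `y2` -/
theorem lam' {g : Fi24} (hN : g ∈ N) (h3 : g ^ 3 = x2) {c : V} (hQ : Qf c = 1) (hg : Commute g (vec c)) :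
    Bf y2 c = 0 := by
  obtain ⟨t, ht, -, htN, htR⟩ := exists_transp hQ
  have hC : Cen t c := ⟨hQ, fun v => by
    have := Ph_spec ⟨t, htN⟩ v
    rw [htR, ac_R1] at this
    exact this⟩
  have h1 := lam hN hg ht hC
  rw [h3, x2_vec] at h1
  have h2 : t * vec y2 * t⁻¹ = vec y2 := by rw [← h1.eq, mul_inv_cancel_right]
  rw [hC.2] at h2
  have h4 := vec_inj h2
  unfold rc at h4
  have h5 : Bf y2 c • c = 0 := by
    have := sub_eq_self.1 h4
    exact this
  rcases smul_eq_zero.1 h5 with h | h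
  · exact h
  · rw [h] at hQ
    exact absurd hQ (by decide)

/-- the values of the form on the fixed vectors -/
theorem ne_two {g : Fi24} (hY : g ∈ NY) (h3 : g ^ 3 = x2) {u : W} (hu : a6 (Ps ⟨g, hY⟩) u = u) :
    Cfsg.Agent.H304.R7.Quad.q u ≠ 2 := by
  intro hq
  have hQ : Qf (PL u) = 2 := by rw [Q_PL]; exact hq
  have hc : Commute g (vec (PL u)) := by
    have h1 := Ps_spec ⟨g, hY⟩ u
    rw [hu] at h1
    have h2 := Ph_spec ⟨g, NY_le_N hY⟩ (PL u)
    rw [h1] at h2
    exact mul_inv_eq_iff_eq_mul.1 h2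
  have hc2 : Commute g (vec y2) := by rw [← x2_vec, ← h3]; exact (Commute.refl g).pow_right 3
  have h1 := lam' (NY_le_N hY) h3 (c := PL u + y2) ?_ ?_
  · rw [Bf_add_right, Bf_comm, Bf_PL_y, zero_add, Bf_self, Qy2] at h1
    exact absurd h1 (by decide)
  · rw [Qf_add, hQ, Qy2, Bf_PL_y]
    decide
  · rw [vec_add]
    exact hc.mul_right hc2

/-- the number of fixed vectors -/
theorem card_fx_le {g : Fi24} (hY : g ∈ NY) (h3 : g ^ 3 = x2) : Nat.card (fx (a6l (Ps ⟨g, hY⟩))) ≤ 27 :=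
  Cfsg.Agent.H304.R7.Quad.card_not_two fun _ hu => ne_two hY h3 (mem_fx.1 hu)

/-- the vectors commuting with `g` -/
theorem card_comm {g : Fi24} (hY : g ∈ NY) (h3 : g ^ 3 = x2) : Nat.card {v : V // Commute g (vec v)} ≤ 81 := by
  have hc2 : Commute g (vec y2) := by rw [← x2_vec, ← h3]; exact (Commute.refl g).pow_right 3
  have hm : ∀ v : {v : V // Commute g (vec v)}, LL (v : V) ∈ fx (a6l (Ps ⟨g, hY⟩)) := by
    intro v
    have e1 : PL (LL (v : V)) = (v : V) + (-Bf (v : V) y2) • y2 := by rw [PL_LL, neg_smul, sub_eq_add_neg]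
    have h1 : Commute g (vec (PL (LL (v : V)))) := by
      rw [e1, vec_add, vec_smul]
      exact v.2.mul_right (hc2.pow_right _)
    have h2 := ac_fix (NY_le_N hY) h1
    rw [mem_fx]
    apply PL_inj
    show PL (a6 (Ps ⟨g, hY⟩) (LL (v : V))) = _
    rw [← Ps_spec ⟨g, hY⟩]
    exact h2
  have hinj : Function.Injective (fun v : {v : V // Commute g (vec v)} =>
      ((Bf (v : V) y2, (⟨LL (v : V), hm v⟩ : fx (a6l (Ps ⟨g, hY⟩)))) : ZMod 3 × fx (a6l (Ps ⟨g, hY⟩)))) := by
    intro v w hvw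
    have e1 : Bf (v : V) y2 = Bf (w : V) y2 := congrArg Prod.fst hvw
    have e2 : LL (v : V) = LL (w : V) := congrArg (fun x : ZMod 3 × fx (a6l (Ps ⟨g, hY⟩)) => (x.2 : W)) hvw
    apply Subtype.ext
    have h1 := PL_LL (v : V)
    have h2 := PL_LL (w : V)
    rw [e1, e2, h2] at h1
    exact (sub_left_injective h1).symm
  calc Nat.card {v : V // Commute g (vec v)} ≤ Nat.card (ZMod 3 × fx (a6l (Ps ⟨g, hY⟩))) :=
        Nat.card_le_card_of_injective _ hinj
    _ = 3 * Nat.card (fx (a6l (Ps ⟨g, hY⟩))) := by rw [Nat.card_prod, Nat.card_zmod]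
    _ ≤ 3 * 27 := Nat.mul_le_mul_left _ (card_fx_le hY h3)
    _ = 81 := by norm_num

/-- the centre of a transposition commuting with `g` commutes with `g` -/
theorem comm_centre {g : Fi24} (hN : g ∈ N) (ho : Odd (orderOf g)) {t : Fi24} {c : V} (h : Cen t c) (hg : Commute g t) :
    Commute g (vec c) := by
  have h1 := h.conj hN
  rw [hg.eq, mul_inv_cancel_right] at h1
  -- the two centres agree up to sign
  have hQ := h.1
  have hpm : ac (Ph ⟨g, hN⟩) c = c ∨ ac (Ph ⟨g, hN⟩) c = -c := by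
    rcases Cen.of_comm h1 h (Commute.refl t) with h2 | h2 | h2
    · exfalso
      have h3 := h.2 c
      rw [h1.2 c] at h3
      have h4 := vec_inj h3
      unfold rc at h4
      rw [Bf_comm c, h2, zero_smul, sub_zero, Bf_self, hQ, mul_one] at h4
      have h5 : (2 : ZMod 3) • c = 0 := by
        have := sub_eq_self.1 h4.symm
        exact this
      rcases smul_eq_zero.1 h5 with h6 | h6
      · exact absurd h6 (by decide)
      · rw [h6] at hQ
        exact absurd hQ (by decide)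
    · exact Or.inl h2
    · exact Or.inr h2
  have hs := Ph_spec ⟨g, hN⟩ c
  rcases hpm with h2 | h2
  · rw [h2] at hs
    exact mul_inv_eq_iff_eq_mul.1 hs
  · exfalso
    rw [h2, vec_neg] at hs
    have h3 : g * vec c * g⁻¹ = (vec c)⁻¹ := hs
    obtain ⟨k, hk⟩ := ho
    have h4 : g ^ 2 * vec c = vec c * g ^ 2 := by
      have h5 : g ^ 2 * vec c * (g ^ 2)⁻¹ = vec c := by
        calc g ^ 2 * vec c * (g ^ 2)⁻¹ = g * (g * vec c * g⁻¹) * g⁻¹ := by rw [pow_two]; group
          _ = g * (vec c)⁻¹ * g⁻¹ := by rw [h3]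
          _ = (g * vec c * g⁻¹)⁻¹ := by group
          _ = vec c := by rw [h3, inv_inv]
      exact mul_inv_eq_iff_eq_mul.1 h5
    have h5 : Commute (g ^ 2) (vec c) := h4
    have h6 : Commute g (vec c) := by
      have h7 : g = (g ^ 2) ^ (k + 1) := by
        rw [← pow_mul, show 2 * (k + 1) = 2 * k + 1 + 1 by ring, ← hk, pow_succ, pow_orderOf_eq_one, one_mul]
      rw [h7]
      exact h5.pow_left _
    rw [h6.eq, mul_inv_cancel_right, ← vec_neg] at h3
    have h8 := vec_inj h3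
    have h9 : (2 : ZMod 3) • c = 0 := by
      rw [two_smul]
      nth_rewrite 1 [h8]
      exact neg_add_cancel c
    rcases smul_eq_zero.1 h9 with h | h
    · exact absurd h (by decide)
    · rw [h] at hQ
      exact absurd hQ (by decide)

theorem Cen_a : Cen (gn .a) (Pi.single 5 1) := by
  refine ⟨Qf_single 5, fun v => ?_⟩
  have h := act 5 v
  rw [tv5] at h
  exact h

/-- two commuting transpositions of `C(x2)` with centres conjugate to those of `l` and `a` do not both commute with `g` -/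
theorem not_both {g y : Fi24} (hN : g ∈ N) (ho : Odd (orderOf g)) (h3 : g ^ 3 = x2) (hyN : y ∈ N) (hy : y * x2 = x2 * y)
    (h1 : Commute g (y * gn .l * y⁻¹)) (h2 : Commute g (y * gn .a * y⁻¹)) : False := by
  have c1 := Cen_l.conj hyN
  have c2 := Cen_a.conj hyN
  have g1 := comm_centre hN ho c1 h1
  have g2 := comm_centre hN ho c2 h2
  have hyy : ac (Ph ⟨y, hyN⟩) y2 = y2 := ac_fix hyN (by rw [← x2_vec]; exact hy)
  have gy : Commute g (vec y2) := by rw [← x2_vec, ← h3]; exact (Commute.refl g).pow_right 3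
  have b1 : Bf (ac (Ph ⟨y, hyN⟩) r1) y2 = 0 := by
    rw [← hyy, Bf_ac]
    decide
  have b2 : Bf (ac (Ph ⟨y, hyN⟩) (Pi.single 5 1)) y2 = 0 := by
    rw [← hyy, Bf_ac]
    decide
  have b3 : Bf (ac (Ph ⟨y, hyN⟩) r1) (ac (Ph ⟨y, hyN⟩) (Pi.single 5 1)) = 0 := by
    rw [Bf_ac]
    decide
  have h4 := lam' hN h3 (c := ac (Ph ⟨y, hyN⟩) r1 + ac (Ph ⟨y, hyN⟩) (Pi.single 5 1) + y2) ?_ ?_
  · rw [Bf_comm, Bf_add_left, Bf_add_left, b1, b2, Bf_self, Qy2] at h4
    exact absurd h4 (by decide)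
  · rw [Qf_add, Qf_add, Qf_ac, Qf_ac, b3, Bf_add_left, b1, b2, Qr1, Qf_single, Qy2]
    decide
  · rw [vec_add, vec_add]
    exact (g1.mul_right g2).mul_right gy

end Cfsg.Agent.H304.R7.XOne
end

-- part: H304/R7/XMain
section
/-!
# `Fi24'`: elements of order 9 whose cube has width 6: the bound (helper304)

`x_one` : `|C(g)| ≤ 7558272` for every `g` of order 9 of `Fi24'` whose cube is conjugate to `X 1` or its inverse.
-/

set_option autoImplicit false
set_option maxRecDepth 100000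

namespace Cfsg.Agent.H304.R7.XOne

open Subgroup
open Cfsg Cfsg.Agent.Fischer.Fi24Final
open Cfsg.Agent.H841.Sev
open Cfsg.Agent.LThreeFi24.SNine (x2)
open Cfsg.Agent.R08.FiTwentyFour (L mem_commutator_iff sgn_L mul_mem_commutator)
open Cfsg.Agent.H48.OreFi
open Cfsg.Agent.H48.OreFi.WOne (C' C'_le card_C' exists_inter fx mem_fx pow_iter a6l_id card_W x2_ne cl ca)
open Cfsg.Spor (Fi24)

local notation "gn" => Cfsg.Agent.Fischer.Fi24Class.gen

theorem finite24 : Finite Fi24 := Cfsg.Agent.R08.FiTwentyFour.finite_Fi24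

/-- elements of order 5 or 7 do not commute with `g` -/
theorem no_prime {g x : Fi24} (hY : g ∈ NY) (ho : g ^ 9 = 1) (h3 : g ^ 3 = x2) (hxY : x ∈ NY) (hc : Commute x g) {r : ℕ}
    (hr : r = 5 ∨ r = 7) (hx : orderOf x = r) : False := by
  let k : O6 := Ps ⟨x, hxY⟩
  let m : O6 := Ps ⟨g, hY⟩
  have hkm : ∀ u, a6l k (a6l m u) = a6l m (a6l k u) := by
    intro u
    have e : k * m = m * k := by
      rw [← map_mul, ← map_mul]
      congr 1
      exact Subtype.ext hc.eq
    show a6 k (a6 m u) = a6 m (a6 k u)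
    rw [← a6_mul, ← a6_mul, e]
  have hkr : (⇑(a6l k))^[r] = id := by
    rw [pow_iter]
    have : k ^ r = 1 := by
      rw [← map_pow]
      have e : (⟨x, hxY⟩ : NY) ^ r = 1 := Subtype.ext (by
        show x ^ r = 1
        rw [← hx]; exact pow_orderOf_eq_one x)
      rw [e, map_one]
    rw [this]
    funext u
    exact a6_one u
  have hm9 : (⇑(a6l m))^[3 ^ 2] = id := by
    rw [pow_iter]
    have : m ^ 3 ^ 2 = 1 := by
      rw [← map_pow]
      have e : (⟨g, hY⟩ : NY) ^ 3 ^ 2 = 1 := Subtype.ext ho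
      rw [e, map_one]
    rw [this]
    funext u
    exact a6_one u
  have hk := Quad.eq_id (k := a6l k) (m := a6l m) hkr
    (by rcases hr with rfl | rfl <;> decide) hm9 hkm (fun u hu =>
      Quad.fix_small (S := fx (a6l m)) (k := a6l k) card_W (card_fx_le hY h3) (fun w hw => by
        rw [mem_fx, ← hkm, mem_fx.1 hw]) hr hkr u (mem_fx.2 hu))
  have hxA : x ∈ A := Ps_eq_one.1 (a6l_id hk)
  have hx3 : orderOf x ∣ 3 := orderOf_dvd_of_pow_eq_one (A_cube hxA)
  rw [hx] at hx3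
  rcases hr with rfl | rfl
  · omega
  · omega

/-- the order of the group induced on `y2^⊥` by `C'` -/
theorem card_range : Nat.card ((Ps.comp (Subgroup.inclusion C'_le)).range) = 2 ^ 8 * 3 ^ 6 * 5 * 7 := by
  have hfin := finite24
  have hAC : A ≤ C' := by
    intro a ha
    refine ⟨mem_centralizer_singleton_iff.2 ?_, mem_commutator_iff.2 ?_⟩
    · rw [x2_vec]; exact (A_comm ha (vec_mem _)).eq
    · have h1 : sgn a ^ 3 = 1 := by rw [← map_pow, A_cube ha, map_one]
      rcases Int.units_eq_one_or (sgn a) with h | h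
      · exact h
      · rw [h] at h1
        exact absurd h1 (by decide)
  have h1 := Subgroup.card_mul_index (Ps.comp (Subgroup.inclusion C'_le)).ker
  rw [Subgroup.index_ker, card_C'] at h1
  have h2 : (Ps.comp (Subgroup.inclusion C'_le)).ker = A.subgroupOf C' := by
    ext x
    rw [MonoidHom.mem_ker, mem_subgroupOf]
    exact Ps_eq_one
  rw [h2, Nat.card_congr (subgroupOfEquivOfLe hAC).toEquiv, card_A] at h1
  omega

theorem bound_x2 {g : Spor.Fi24'} (hg : orderOf g = 9) (hp : (g : Fi24) ^ 3 = x2) :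
    Nat.card (centralizer ({g} : Set Spor.Fi24')) ≤ 7558272 := by
  have hfin := finite24
  have f2 : Fact (Nat.Prime 2) := ⟨Nat.prime_two⟩
  let K : Subgroup Fi24 := centralizer ({(g : Fi24)} : Set Fi24) ⊓ commutator Fi24
  have cK : Nat.card (centralizer ({g} : Set Spor.Fi24')) = Nat.card K := by
    have e1 : K = (centralizer ({g} : Set Spor.Fi24')).map (commutator Fi24).subtype := by
      ext x
      constructor
      · rintro ⟨h1, h2⟩
        refine ⟨⟨x, h2⟩, ?_, rfl⟩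
        have h3 : x * (g : Fi24) = g * x := mem_centralizer_singleton_iff.1 h1
        exact mem_centralizer_singleton_iff.2 (Subtype.ext h3)
      · rintro ⟨x, hx, rfl⟩
        refine ⟨?_, x.2⟩
        have hx' : x * g = g * x := mem_centralizer_singleton_iff.1 hx
        exact mem_centralizer_singleton_iff.2 (congrArg Subtype.val hx')
    rw [e1]
    exact Nat.card_congr ((centralizer ({g} : Set Spor.Fi24')).equivMapOfInjective _
      (Subgroup.subtype_injective _)).toEquiv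
  have hKg : ∀ x ∈ K, Commute x (g : Fi24) := fun x hx => mem_centralizer_singleton_iff.1 hx.1
  have hKC : K ≤ C' := by
    intro x hx
    refine ⟨mem_centralizer_singleton_iff.2 ?_, hx.2⟩
    rw [← hp]
    exact ((hKg x hx).pow_right _).eq
  have hgC : (g : Fi24) ∈ C' := hKC ⟨mem_centralizer_singleton_iff.2 rfl, g.2⟩
  have hgY : (g : Fi24) ∈ NY := C'_le hgC
  have hgN : (g : Fi24) ∈ N := NY_le_N hgY
  have ho : orderOf (g : Fi24) = 9 := by rw [Subgroup.orderOf_coe, hg]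
  have hodd : Odd (orderOf (g : Fi24)) := by rw [ho]; decide
  have h9 : (g : Fi24) ^ 9 = 1 := by rw [← ho]; exact pow_orderOf_eq_one _
  -- the primes 5 and 7
  have n57 : ∀ r : ℕ, r = 5 ∨ r = 7 → ¬ r ∣ Nat.card K := by
    intro r hr h
    have fr : Fact (Nat.Prime r) := ⟨by rcases hr with rfl | rfl <;> norm_num⟩
    obtain ⟨x, hx⟩ := exists_prime_orderOf_dvd_card' r h
    exact no_prime hgY h9 hp (C'_le (hKC x.2)) (hKg x x.2) hr (by rw [Subgroup.orderOf_coe, hx])
  -- the prime 2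
  have n2 : ¬ 2 ^ 8 ∣ Nat.card K := by
    intro h
    obtain ⟨T₀, hT₀⟩ := Sylow.exists_subgroup_card_pow_prime 2 h
    let T : Subgroup Fi24 := T₀.map K.subtype
    have cT : Nat.card T = 2 ^ 8 := by
      rw [← hT₀]
      exact Nat.card_congr (T₀.equivMapOfInjective _ K.subtype_injective).symm.toEquiv
    have hTK : T ≤ K := by rintro _ ⟨x, -, rfl⟩; exact x.2
    have lL := Cfsg.Agent.R08.FiTwentyFour.gen_mem_L .l
    have aL := Cfsg.Agent.R08.FiTwentyFour.gen_mem_L .a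
    have hla : Commute (gn .l) (gn .a) := (Cfsg.Agent.Fischer.Fi24Class.comm_l .a (by decide)).symm
    have hne : gn .l ≠ gn .a := (Cfsg.Agent.Fischer.Fi24Class.a_ne_l Cfsg.Agent.R08.FiTwentyFour.facts.card_ne).symm
    have hla2 : (gn .l * gn .a) ^ 2 = (1 : Fi24) := by
      rw [pow_two, show gn .l * gn .a * (gn .l * gn .a) = gn .l * (gn .a * gn .l) * gn .a by group, hla.symm.eq,
        show gn .l * (gn .l * gn .a) * gn .a = (gn .l * gn .l) * (gn .a * gn .a) by group,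
        Cfsg.Agent.R08.FiTwentyFour.sq lL, Cfsg.Agent.R08.FiTwentyFour.sq aL, one_mul]
    have hla1 : gn .l * gn .a ≠ (1 : Fi24) := by
      intro h
      apply hne
      exact mul_right_cancel (h.trans (Cfsg.Agent.R08.FiTwentyFour.sq aL).symm)
    let E : Subgroup Fi24 := zpowers (gn .l * gn .a)
    have cE : Nat.card E = 2 ^ 1 := by rw [Nat.card_zpowers, orderOf_eq_prime hla2 hla1, pow_one]
    have hE : E ≤ C' := by
      rw [zpowers_le]
      exact ⟨mem_centralizer_singleton_iff.2 (cl.mul_left ca).eq, mul_mem_commutator lL aL⟩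
    have hn : ¬ 2 ^ (8 + 1) ∣ Nat.card C' := by rw [card_C']; norm_num
    obtain ⟨y, hyC, hy⟩ := exists_inter (hTK.trans hKC) hE cT cE hn (m := 1) (by norm_num)
    have hnt : Nontrivial (T ⊓ E.map (MulAut.conj y).toMonoidHom : Subgroup Fi24) := by
      rw [← Finite.one_lt_card_iff_nontrivial]
      omega
    obtain ⟨w, hw⟩ := exists_ne (1 : (T ⊓ E.map (MulAut.conj y).toMonoidHom : Subgroup Fi24))
    obtain ⟨hwT, v, hv, hvw⟩ := w.2
    have hv2 : v = 1 ∨ v = gn .l * gn .a := by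
      obtain ⟨n, rfl⟩ := mem_zpowers_iff.1 hv
      rcases Int.even_or_odd' n with ⟨c, rfl | rfl⟩
      · left
        rw [zpow_mul, show (gn .l * gn .a : Fi24) ^ (2 : ℤ) = (gn .l * gn .a) ^ 2 from rfl, hla2, one_zpow]
      · right
        rw [zpow_add, zpow_mul, show (gn .l * gn .a : Fi24) ^ (2 : ℤ) = (gn .l * gn .a) ^ 2 from rfl, hla2, one_zpow,
          one_mul, zpow_one]
    rcases hv2 with rfl | rfl
    · apply hw
      apply Subtype.ext
      rw [← hvw]
      exact map_one _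
    · have h1 : (w : Fi24) = (y * gn .l * y⁻¹) * (y * gn .a * y⁻¹) := by
        rw [← hvw]
        show y * (gn .l * gn .a) * y⁻¹ = _
        group
      have h2 : Commute (g : Fi24) ((y * gn .l * y⁻¹) * (y * gn .a * y⁻¹)) := by
        rw [← h1]; exact (hKg _ (hTK hwT)).symm
      have hcc : Commute (y * gn .l * y⁻¹) (y * gn .a * y⁻¹) := by
        show y * gn .l * y⁻¹ * (y * gn .a * y⁻¹) = y * gn .a * y⁻¹ * (y * gn .l * y⁻¹)
        calc y * gn .l * y⁻¹ * (y * gn .a * y⁻¹) = y * (gn .l * gn .a) * y⁻¹ := by group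
          _ = y * (gn .a * gn .l) * y⁻¹ := by rw [hla.eq]
          _ = _ := by group
      have g1 : Commute (g : Fi24) (y * gn .l * y⁻¹) := by
        refine NineA.comm_all Cfsg.Agent.R08.TetFi24A.tr hodd
          (Cfsg.Agent.R08.FiTwentyFour.conj lL y) (Cfsg.Agent.R08.FiTwentyFour.conj aL y) ?_ hcc h2
        intro h
        exact hne (mul_left_cancel (mul_right_cancel h))
      have g2 : Commute (g : Fi24) (y * gn .a * y⁻¹) := by
        refine NineA.comm_all Cfsg.Agent.R08.TetFi24A.tr hodd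
          (Cfsg.Agent.R08.FiTwentyFour.conj aL y) (Cfsg.Agent.R08.FiTwentyFour.conj lL y) ?_ hcc.symm ?_
        · intro h
          exact hne (mul_left_cancel (mul_right_cancel h)).symm
        · rw [hcc.symm.eq]; exact h2
      exact not_both hgN hodd hp (NY_le_N (C'_le hyC)) (mem_centralizer_singleton_iff.1 hyC.1) g1 g2
  -- the order
  have h1 := Subgroup.card_mul_index (Ps.comp (Subgroup.inclusion (hKC.trans C'_le))).ker
  rw [Subgroup.index_ker] at h1
  have h2 : Nat.card (Ps.comp (Subgroup.inclusion (hKC.trans C'_le))).range ∣ 2 ^ 8 * 3 ^ 6 * 5 * 7 := by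
    rw [← card_range]
    apply Subgroup.card_dvd_of_le
    rintro _ ⟨x, rfl⟩
    exact ⟨⟨x, hKC x.2⟩, rfl⟩
  have h3 : Nat.card (Ps.comp (Subgroup.inclusion (hKC.trans C'_le))).ker = Nat.card (K ⊓ A : Subgroup Fi24) := by
    have e : (Ps.comp (Subgroup.inclusion (hKC.trans C'_le))).ker = (K ⊓ A).subgroupOf K := by
      ext x
      rw [MonoidHom.mem_ker, mem_subgroupOf, mem_inf]
      constructor
      · intro h; exact ⟨x.2, Ps_eq_one.1 h⟩
      · rintro ⟨-, h⟩; exact Ps_eq_one.2 h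
    rw [e]
    exact Nat.card_congr (subgroupOfEquivOfLe inf_le_left).toEquiv
  have h4 : Nat.card (K ⊓ A : Subgroup Fi24) ≤ 81 := by
    refine le_trans ?_ (card_comm hgY hp)
    have hex : ∀ x : (K ⊓ A : Subgroup Fi24), ∃ v : {v : V // Commute (g : Fi24) (vec v)}, vec (v : V) = x := by
      intro x
      obtain ⟨v, hv⟩ := mem_A.1 x.2.2
      exact ⟨⟨v, by rw [hv]; exact (hKg _ x.2.1).symm⟩, hv⟩
    choose f hf using hex
    apply Nat.card_le_card_of_injective f
    intro x y hxy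
    apply Subtype.ext
    rw [← hf x, ← hf y, hxy]
  obtain ⟨s, -, hs⟩ := (Nat.dvd_prime_pow Nat.prime_three).1
    (card_A ▸ Subgroup.card_dvd_of_le (inf_le_right : (K ⊓ A : Subgroup Fi24) ≤ A))
  have hs4 : s ≤ 4 := by
    by_contra hcon
    have : 3 ^ 5 ≤ 3 ^ s := Nat.pow_le_pow_right (by norm_num) (by omega)
    omega
  have hdvd : Nat.card K ∣ 2 ^ 8 * 3 ^ 10 * 5 * 7 := by
    rw [← h1, h3, hs]
    have : (2 : ℕ) ^ 8 * 3 ^ 10 * 5 * 7 = 3 ^ 4 * (2 ^ 8 * 3 ^ 6 * 5 * 7) := by norm_num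
    rw [this]
    exact Nat.mul_dvd_mul (pow_dvd_pow 3 hs4) h2
  have d1 : Nat.card K ∣ 2 ^ 8 * 3 ^ 10 * 5 :=
    (Nat.Coprime.dvd_of_dvd_mul_right
      ((Nat.Prime.coprime_iff_not_dvd (by norm_num)).2 (n57 7 (Or.inr rfl))).symm hdvd)
  have d2 : Nat.card K ∣ 2 ^ 8 * 3 ^ 10 :=
    (Nat.Coprime.dvd_of_dvd_mul_right
      ((Nat.Prime.coprime_iff_not_dvd (by norm_num)).2 (n57 5 (Or.inl rfl))).symm d1)
  rw [cK]
  obtain ⟨x, y, hx, hy, hxy⟩ := (Nat.dvd_mul).1 d2
  obtain ⟨i, hi, rfl⟩ := (Nat.dvd_prime_pow Nat.prime_two).1 hx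
  obtain ⟨j, hj, rfl⟩ := (Nat.dvd_prime_pow Nat.prime_three).1 hy
  have hi8 : i ≤ 7 := by
    by_contra hcon
    have : i = 8 := by omega
    subst this
    exact n2 (by rw [← hxy]; exact dvd_mul_right _ _)
  calc Nat.card K = 2 ^ i * 3 ^ j := hxy.symm
    _ ≤ 2 ^ 7 * 3 ^ 10 := Nat.mul_le_mul (Nat.pow_le_pow_right (by norm_num) hi8) (Nat.pow_le_pow_right (by norm_num) hj)
    _ = 7558272 := by norm_num

/-- **the elements of order 9 whose cube has width 6** -/
theorem x_one {g : Spor.Fi24'} (hg : orderOf g = 9)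
    (h : ∃ y : Fi24, y * (g : Fi24) ^ 3 * y⁻¹ = Cfsg.Agent.H842.ThreeCl.X 1 ∨
      y * (g : Fi24) ^ 3 * y⁻¹ = (Cfsg.Agent.H842.ThreeCl.X 1)⁻¹) :
    Nat.card (centralizer ({g} : Set Spor.Fi24')) ≤ 7558272 := by
  have key : ∀ k : Spor.Fi24', orderOf k = 9 → (k : Fi24) ^ 3 = Cfsg.Agent.H842.ThreeCl.X 1 →
      Nat.card (centralizer ({k} : Set Spor.Fi24')) ≤ 7558272 := by
    intro k hk hk3
    obtain ⟨r, hr⟩ : ∃ r : Fi24, r = Cfsg.Agent.Fischer.Fi24Rep.word Cfsg.Agent.H841.Sev.ur := ⟨_, rfl⟩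
    have hx : r * (k : Fi24) ^ 3 * r⁻¹ = x2 := by
      rw [hk3, hr]
      exact Cfsg.Agent.H841.Sev.x2_conj
    rw [← Nine.card_cent_equiv (Nine.cj r) k]
    refine bound_x2 (by rw [MulEquiv.orderOf_eq, hk]) ?_
    rw [Nine.coe_cj, conj_pow]
    exact hx
  obtain ⟨y, hy⟩ := h
  rcases hy with hy | hy
  · rw [← Nine.card_cent_equiv (Nine.cj y) g]
    refine key _ (by rw [MulEquiv.orderOf_eq, hg]) ?_
    rw [Nine.coe_cj, conj_pow]
    exact hy
  · rw [← Nine.card_cent_equiv (Nine.cj y) g, ← Nine.card_cent_inv]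
    refine key _ (by rw [orderOf_inv, MulEquiv.orderOf_eq, hg]) ?_
    show (((Nine.cj y g : Spor.Fi24') : Fi24)⁻¹) ^ 3 = _
    rw [inv_pow, Nine.coe_cj, conj_pow, hy, inv_inv]

end Cfsg.Agent.H304.R7.XOne
end

-- part: H180/R7/Asm
section
/-!
# `Fi24'`: the elements of order 9 (helper180): the assembly

`of_parts` : `|C(g)| ≤ 10077696` for every `g` of order 9 of `Fi24'`, given the statement `SCases` on `U5(2)` and the bound
for the elements whose cube is conjugate to `X 3` or its inverse.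
-/

set_option autoImplicit false
set_option maxRecDepth 100000

namespace Cfsg.Agent.H180.R7

open Subgroup
open Cfsg.Agent.H48.OreFi.Nine (cj coe_cj card_cent_equiv card_cent_inv)
open Cfsg.Agent.LThreeFi24.SNine (x3)
open Cfsg.Agent.H842.ThreeCl (X)
open Cfsg.Spor (Fi24)

theorem x_two (hS : Two.SCases) {g : Spor.Fi24'} (h : ∃ y : Fi24, y * (g : Fi24) ^ 3 * y⁻¹ = X 2 ∨
    y * (g : Fi24) ^ 3 * y⁻¹ = (X 2)⁻¹) : Nat.card (centralizer ({g} : Set Spor.Fi24')) ≤ 10077696 := by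
  have hx : X 2 = x3 := by
    rw [Cfsg.Agent.LThreeFi24.CaseB.word_x3]
    rfl
  rw [hx] at h
  obtain ⟨y, hy⟩ := h
  have hpow : ((cj y g : Spor.Fi24') : Fi24) ^ 3 = y * (g : Fi24) ^ 3 * y⁻¹ := by
    rw [coe_cj, conj_pow]
  rcases hy with hy | hy
  · rw [← card_cent_equiv (cj y) g]
    exact Two.bound hS (hpow.trans hy)
  · rw [← card_cent_equiv (cj y) g, ← card_cent_inv]
    apply Two.bound hS
    show (((cj y g : Spor.Fi24') : Fi24)⁻¹) ^ 3 = x3
    rw [inv_pow, hpow, hy, inv_inv]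

theorem of_parts (hS : Two.SCases) (hB : ∀ g : Spor.Fi24', orderOf g = 9 →
      (∃ y : Fi24, y * (g : Fi24) ^ 3 * y⁻¹ = X 3 ∨ y * (g : Fi24) ^ 3 * y⁻¹ = (X 3)⁻¹) →
        Nat.card (centralizer ({g} : Set Spor.Fi24')) ≤ 10077696)
    {g : Spor.Fi24'} (hg : orderOf g = 9) : Nat.card (centralizer ({g} : Set Spor.Fi24')) ≤ 10077696 := by
  have ho : orderOf (g ^ 3) = 3 := by
    rw [orderOf_pow, hg]
    rfl
  have hs3 : ((g ^ 3 : Spor.Fi24') : Fi24) ^ 3 = 1 := by
    have h : (g ^ 3) ^ 3 = 1 := by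
      have h' := pow_orderOf_eq_one (g ^ 3)
      rwa [ho] at h'
    exact congrArg Subtype.val h
  have hs1 : ((g ^ 3 : Spor.Fi24') : Fi24) ≠ 1 := by
    intro h
    have h1 : g ^ 3 = 1 := Subtype.ext h
    rw [h1, orderOf_one] at ho
    omega
  obtain ⟨i, y, hy⟩ := Cfsg.Agent.H842.ThreeCl.all Cfsg.Agent.H49.Four.TEight.fgroup24' Cfsg.Agent.H49.Four.TEight.isT8
    hs3 hs1
  have hi : ∀ i : Fin 5, i = 0 ∨ i = 1 ∨ i = 2 ∨ i = 3 ∨ i = 4 := by decide
  rcases hi i with rfl | rfl | rfl | rfl | rfl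
  · exact (Cfsg.Agent.H48.OreFi.NineA.zero_false hy).elim
  · exact (Cfsg.Agent.H304.R7.XOne.x_one hg ⟨y, hy⟩).trans (by norm_num)
  · exact x_two hS ⟨y, hy⟩
  · exact hB g hg ⟨y, hy⟩
  · exact (Cfsg.Agent.H48.WFour.no_cube hy).elim

end Cfsg.Agent.H180.R7
end

-- part: H933/R7/Main
section
/-!
# `Fi24`: the elements of order three of `S0 = 2 × PSU(5, 2)` (helper933, for S2492)

* `s_cases` : `s ∈ S0 ∩ Fi24'` of order three has at most 3888 commuting elements in `S0 ∩ Fi24'`, or at most 77760 and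
  there is a cycle of five commuting transpositions commuting with `s`.
-/

set_option autoImplicit false
set_option maxRecDepth 100000

namespace Cfsg.Agent.H933.R7

/-- the predecessor of a point -/
def PA : List ℕ := [0, 134, 10, 27, 26, 13, 90, 30, 17, 1, 34, 36, 4, 22, 6, 114, 8, 120, 6, 11, 7, 15, 97, 27, 
  28, 21, 32, 125, 1, 5, 43, 28, 141, 13, 79, 9, 108, 119, 125, 154, 85, 67, 80, 155, 140, 164, 158, 137, 55, 147, 
  163, 131, 134, 38, 102, 134, 150, 136, 146, 148, 115, 157, 142, 49, 112, 151, 162, 52, 132, 94, 150, 103, 120, 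
  64, 161, 123, 42, 128, 131, 96, 131, 129, 114, 37, 65, 44, 150, 119, 143, 160, 73, 121, 105, 155, 47, 50, 144, 
  113, 56, 147, 66, 136, 61, 90, 88, 57, 130, 91, 76, 100, 94, 81, 119, 83, 99, 67, 70, 102, 139, 70, 86, 72, 139, 
  157, 51, 93, 78, 140, 48, 87, 98, 116, 29, 158, 86, 39, 56, 51, 97, 59, 106, 64, 67, 160, 80, 65, 50, 101, 129, 
  108, 0, 55, 79, 163, 137, 57, 24, 164, 111, 114, 80, 49, 120, 83, 130]

/-- the generator of a point -/
def PG : List ℕ := [0, 1, 4, 3, 3, 2, 1, 4, 3, 4, 3, 3, 4, 3, 2, 1, 2, 1, 3, 2, 3, 3, 1, 4, 4, 4, 2, 1, 3, 4, 1, 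
  2, 1, 4, 1, 3, 1, 1, 3, 3, 4, 1, 3, 2, 2, 3, 2, 3, 3, 4, 4, 2, 3, 4, 2, 4, 4, 3, 1, 1, 3, 2, 2, 1, 2, 3, 2, 4, 
  0, 3, 2, 2, 2, 1, 3, 2, 4, 4, 3, 4, 1, 2, 2, 3, 4, 3, 0, 2, 3, 1, 4, 4, 4, 1, 4, 3, 2, 2, 3, 2, 4, 1, 3, 3, 2, 
  2, 1, 2, 2, 3, 2, 1, 3, 4, 4, 2, 3, 4, 3, 4, 4, 3, 4, 3, 3, 2, 2, 1, 2, 3, 2, 4, 1, 3, 2, 2, 2, 1, 3, 2, 4, 4, 
  3, 4, 0, 2, 2, 3, 4, 3, 1, 2, 3, 1, 4, 4, 1, 1, 4, 3, 2, 2, 3, 2, 4]

/-- the depth of a point -/
def DP : List ℕ := [0, 4, 11, 9, 9, 10, 8, 8, 5, 5, 10, 10, 10, 9, 9, 8, 6, 4, 9, 11, 9, 9, 8, 9, 6, 10, 8, 8, 5, 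
  11, 7, 6, 7, 10, 9, 6, 9, 4, 8, 8, 9, 6, 6, 6, 7, 6, 9, 7, 5, 6, 7, 5, 4, 9, 9, 4, 2, 4, 9, 7, 7, 7, 7, 7, 5, 6, 
  5, 5, 13, 9, 2, 9, 4, 6, 8, 8, 7, 7, 5, 8, 5, 6, 8, 5, 7, 8, 2, 4, 8, 7, 7, 6, 6, 6, 8, 8, 7, 7, 3, 6, 6, 4, 8, 
  8, 9, 5, 5, 7, 8, 7, 9, 7, 4, 6, 7, 6, 3, 9, 9, 3, 3, 5, 9, 7, 6, 7, 6, 7, 6, 5, 4, 4, 12, 9, 3, 9, 3, 6, 8, 8, 
  6, 6, 6, 7, 6, 7, 8, 5, 6, 9, 1, 5, 9, 7, 7, 5, 7, 6, 8, 8, 6, 7, 4, 6, 5]

/-- the graph and the tree -/
theorem chk_adj : (allN 165 fun i => or (Nat.beq i 0) (and (and (Nat.blt (PA.getD i 0) 165) (Nat.blt (PG.getD i 0) 5))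
    (and (and (Nat.blt (DP.getD (PA.getD i 0) 0) (DP.getD i 0)) (Nat.beq (gt (GT (PG.getD i 0)) (PA.getD i 0)) i))
      (allN 165 fun j => adB i j == adB (PA.getD i 0) (gt (GT (PG.getD i 0)) j))))) = true := by decide +kernel

theorem chk_adj0 : (allN 165 fun j => adB 0 j == Nat.beq (gt (GT 0) j) j) = true := by decide +kernel

theorem chk_sg : (allN 5 fun k => allN 165 fun i => Nat.beq (gt (GT k) i) (Cfsg.Agent.H834.U5.sgf k i)) = true := by
  decide +kernel

open Cfsg.Agent.H834.U5 hiding K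
open Cfsg.Agent.Fischer.Fi24Final (sgn)
open Cfsg.Agent.Lib.FieldFour
open Cfsg.Spor (Fi24)

theorem gt_eq {k i : ℕ} (hk : k < 5) (hi : i < 165) : gt (GT k) i = sgf k i :=
  Nat.eq_of_beq_eq_true (allN_spec (allN_spec chk_sg k hk) i hi)

theorem Ps_inj {i j : ℕ} (hi : i < 165) (hj : j < 165) (h : Ps i = Ps j) : i = j := by
  have h1 := isPt_Ps hi
  rw [h] at h1
  exact pt_inj hi hj (h1.uniq (isPt_Ps hj))

theorem ge_zero_eq : ge 0 = Ps 0 := by rw [Ps_zero, ge_zero]

theorem adB_iff_aux (d : ℕ) : ∀ i < 165, DP.getD i 0 ≤ d → ∀ j < 165,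
    (adB i j = true ↔ Commute (Ps i) (Ps j)) := by
  have hzero : ∀ j < 165, (adB 0 j = true ↔ Commute (Ps 0) (Ps j)) := by
    intro j hj
    have h1 := allN_spec chk_adj0 j hj
    rw [beq_iff_eq] at h1
    have h2 : Commute (Ps 0) (Ps j) ↔ Ps (sgf 0 j) = Ps j := by
      rw [← conj_Ps (k := 0) (by norm_num) hj, ge_zero_eq, mul_inv_eq_iff_eq_mul]
      rfl
    rw [h1, h2, gt_eq (by norm_num) hj]
    constructor
    · intro h; rw [Nat.eq_of_beq_eq_true h]
    · intro h; rw [Ps_inj (sgf_lt (by norm_num) hj) hj h]; exact Nat.beq_refl _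
  induction d with
  | zero =>
    intro i hi hd j hj
    have h := allN_spec chk_adj i hi
    simp only [Bool.or_eq_true, Bool.and_eq_true] at h
    rcases h with h | ⟨-, ⟨h, -⟩, -⟩
    · rw [Nat.eq_of_beq_eq_true h]; exact hzero j hj
    · have h1 : DP.getD (PA.getD i 0) 0 < DP.getD i 0 := Nat.le_of_ble_eq_true h
      omega
  | succ d ih =>
    intro i hi hd j hj
    have h := allN_spec chk_adj i hi
    simp only [Bool.or_eq_true, Bool.and_eq_true] at h
    rcases h with h | ⟨⟨hp, hk⟩, ⟨h1, h2⟩, h3⟩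
    · rw [Nat.eq_of_beq_eq_true h]; exact hzero j hj
    · have hp' : PA.getD i 0 < 165 := Nat.le_of_ble_eq_true hp
      have hk' : PG.getD i 0 < 5 := Nat.le_of_ble_eq_true hk
      have h1' : DP.getD (PA.getD i 0) 0 < DP.getD i 0 := Nat.le_of_ble_eq_true h1
      have h2' := Nat.eq_of_beq_eq_true h2
      have h4 := allN_spec h3 j hj
      rw [beq_iff_eq] at h4
      rw [gt_eq hk' hp'] at h2'
      rw [gt_eq hk' hj] at h4
      rw [h4, ih _ hp' (by omega) _ (sgf_lt hk' hj)]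
      have h5 := conj_Ps hk' hp'
      rw [h2'] at h5
      have h6 := conj_Ps hk' (sgf_lt hk' hj)
      rw [sgf_inv hk' hj] at h6
      rw [← h5, ← h6, commute_conj]

theorem adB_iff {i j : ℕ} (hi : i < 165) (hj : j < 165) : adB i j = true ↔ Commute (Ps i) (Ps j) :=
  adB_iff_aux _ i hi le_rfl j hj

/-! ### The action -/

theorem exists_im (x : S0) (i : Fin 165) : ∃ j : Fin 165, (x : Fi24) * Ps i * (x : Fi24)⁻¹ = Ps j := by
  obtain ⟨j, hj, h⟩ := exists_Ps (conj_mem x.2 (Ps_mem_T0 i.2))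
  exact ⟨⟨j, hj⟩, h⟩

/-- the image of a label -/
noncomputable def im (x : S0) (i : Fin 165) : Fin 165 := (exists_im x i).choose

theorem im_spec (x : S0) (i : Fin 165) : (x : Fi24) * Ps i * (x : Fi24)⁻¹ = Ps (im x i) := (exists_im x i).choose_spec

theorem im_eq {x : S0} {i j : Fin 165} (h : (x : Fi24) * Ps i * (x : Fi24)⁻¹ = Ps j) : im x i = j :=
  Fin.ext (Ps_inj (im x i).2 j.2 ((im_spec x i).symm.trans h))

theorem im_mul (x y : S0) (i : Fin 165) : im (x * y) i = im x (im y i) := by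
  apply im_eq
  rw [← im_spec, ← im_spec]
  show (x : Fi24) * y * Ps i * ((x : Fi24) * y)⁻¹ = _
  group

theorem im_one (i : Fin 165) : im 1 i = i := by
  apply im_eq
  show (1 : Fi24) * Ps i * (1 : Fi24)⁻¹ = _
  group

/-- the action on the labels -/
noncomputable def act : S0 →* Pm where
  toFun x := ⟨im x, im x⁻¹, fun i => by rw [← im_mul, inv_mul_cancel, im_one],
    fun i => by rw [← im_mul, mul_inv_cancel, im_one]⟩
  map_one' := Equiv.ext im_one
  map_mul' x y := Equiv.ext (im_mul x y)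

theorem act_apply (x : S0) (i : Fin 165) : act x i = im x i := rfl

theorem act_eq_one {x : S0} : act x = 1 ↔ (x : Fi24) = 1 ∨ (x : Fi24) = z0 := by
  constructor
  · intro h
    apply kerlemma x.2
    intro t ht
    obtain ⟨i, hi, rfl⟩ := exists_Ps ht
    have h1 := im_spec x ⟨i, hi⟩
    rw [← act_apply, h] at h1
    exact mul_inv_eq_iff_eq_mul.1 h1
  · intro h
    ext i
    congr 1
    rw [act_apply]
    apply im_eq
    rw [mul_inv_eq_iff_eq_mul]
    rcases h with h | h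
    · rw [h, one_mul, mul_one]; rfl
    · rw [h]
      exact (S0_z0 (T0_sub (Ps_mem_T0 i.2))).symm

/-- the generators of `S0` -/
noncomputable def gs (k : ℕ) : S0 := ⟨ge (min k 4), T0_sub (ge_mem_T0 (by omega))⟩

theorem tab_gs (k : ℕ) : Tab (act (gs k)) (GT k) := by
  have key : ∀ m, m < 5 → GT k = GT m → min k 4 = m → Tab (act (gs k)) (GT k) := by
    intro m hm h1 h2 i
    rw [act_apply, h1, gt_eq hm i.2]
    have h3 : im (gs k) i = ⟨sgf m i, sgf_lt hm i.2⟩ := by
      apply im_eq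
      show ge (min k 4) * Ps i * (ge (min k 4))⁻¹ = _
      rw [h2]
      exact conj_Ps hm i.2
    rw [h3]
  match k with
  | 0 => exact key 0 (by norm_num) rfl rfl
  | 1 => exact key 1 (by norm_num) rfl rfl
  | 2 => exact key 2 (by norm_num) rfl rfl
  | 3 => exact key 3 (by norm_num) rfl rfl
  | k + 4 => exact key 4 (by norm_num) rfl (by omega)

theorem card_range : Nat.card act.range = 13685760 := by
  obtain ⟨f, hf, hk, -⟩ := exists_hom
  have h1 : act.ker = f.ker := by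
    ext x
    rw [MonoidHom.mem_ker, MonoidHom.mem_ker, act_eq_one, hk]
  have h2 : Nat.card act.range = act.ker.index := (Subgroup.index_ker act).symm
  have h3 : Nat.card f.range = f.ker.index := (Subgroup.index_ker f).symm
  rw [h2, h1, ← h3, MonoidHom.range_eq_top.2 hf, Subgroup.card_top, Cfsg.Agent.SylowU5.Iso.card_PSU (by decide)]

theorem env : Env act.range (fun k => act (gs k)) where
  tab := tab_gs
  mem k := ⟨_, rfl⟩
  card := card_range
  adj := by
    rintro _ ⟨x, rfl⟩ i j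
    have h1 : adB ((act x i : Fin 165) : ℕ) ((act x j : Fin 165) : ℕ) = true ↔ adB i j = true := by
      rw [adB_iff (act x i).2 (act x j).2, adB_iff i.2 j.2, act_apply, act_apply, ← im_spec, ← im_spec, commute_conj]
    rw [Bool.eq_iff_iff]
    exact h1

theorem sgn_of_mem {x : Fi24} (hx : x ∈ commutator Fi24) : sgn x = 1 := by
  have h : commutator Fi24 ≤ sgn.ker := Abelianization.commutator_subset_ker sgn
  exact h hx

theorem z0_notMem : z0 ∉ commutator Fi24 := by
  intro h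
  have h1 := sgn_of_mem h
  rw [sgn_z0] at h1
  exact absurd h1 (by decide)

theorem eq_one_of_act {x : S0} (h : act x = 1) (hx : (x : Fi24) ∈ commutator Fi24) : (x : Fi24) = 1 := by
  rcases act_eq_one.1 h with h1 | h1
  · exact h1
  · rw [h1] at hx
    exact absurd hx z0_notMem

/-- **The elements of order three.** -/
theorem s_cases {s : Fi24} (hs : s ∈ S0) (hK : s ∈ commutator Fi24) (h3 : s ^ 3 = 1) (h1 : s ≠ 1) :
    Nat.card ↥(S0 ⊓ commutator Fi24 ⊓ Subgroup.centralizer {s}) ≤ 3888 ∨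
      (Nat.card ↥(S0 ⊓ commutator Fi24 ⊓ Subgroup.centralizer {s}) ≤ 77760 ∧
        ∃ f ∈ S0, Commute f s ∧ ∃ t : Fin 5 → Fi24, Function.Injective t ∧ (∀ i, t i ∈ T0) ∧
          (∀ i j, Commute (t i) (t j)) ∧ (∀ i, Commute (t i) s) ∧ ∀ i, f * t i * f⁻¹ = t (i + 1)) := by
  have hσ : (act ⟨s, hs⟩) ^ 3 = 1 := by
    rw [← map_pow]
    have h : (⟨s, hs⟩ : S0) ^ 3 = 1 := Subtype.ext h3
    rw [h, map_one]
  have hσ1 : act ⟨s, hs⟩ ≠ 1 := fun h => h1 (eq_one_of_act h hK)
  have hC := main env ⟨_, rfl⟩ hσ hσ1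
  have key : Nat.card ↥(S0 ⊓ commutator Fi24 ⊓ Subgroup.centralizer {s}) ≤
      Nat.card ↥(Ce act.range (act ⟨s, hs⟩)) := by
    refine Nat.card_le_card_of_injective (fun y => ⟨act ⟨y, y.2.1.1⟩, ?_⟩) ?_
    · refine mem_Ce.2 ⟨⟨_, rfl⟩, ?_⟩
      rw [← map_mul, ← map_mul]
      congr 1
      exact Subtype.ext (Subgroup.mem_centralizer_singleton_iff.1 y.2.2).symm
    · intro y z hyz
      have h4 : act ⟨y, y.2.1.1⟩ = act ⟨z, z.2.1.1⟩ := congrArg Subtype.val hyz
      have h5 : act ((⟨y, y.2.1.1⟩ : S0)⁻¹ * ⟨z, z.2.1.1⟩) = 1 := by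
        rw [map_mul, map_inv, h4, inv_mul_cancel]
      have h6 := eq_one_of_act h5 (mul_mem (inv_mem y.2.1.2) z.2.1.2)
      have h7 : (y : Fi24)⁻¹ * (z : Fi24) = 1 := h6
      exact Subtype.ext (inv_mul_eq_one.1 h7)
  rcases hC with h | ⟨h, f, ⟨y, rfl⟩, hf, t, ht, hfix, hadj, hft⟩
  · exact Or.inl (key.trans h)
  · refine Or.inr ⟨key.trans h, y, y.2, ?_, fun i => Ps (t i), ?_, ?_, ?_, ?_, ?_⟩
    · have h4 : act (y * ⟨s, hs⟩ * y⁻¹ * (⟨s, hs⟩ : S0)⁻¹) = 1 := by
        rw [map_mul, map_mul, map_mul, map_inv, map_inv, hf.eq, mul_inv_cancel_right, mul_inv_cancel]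
      have h5 := eq_one_of_act h4 (Subgroup.commutator_mem_commutator (Subgroup.mem_top (y : Fi24)) (Subgroup.mem_top s))
      have h6 : (y : Fi24) * s * (y : Fi24)⁻¹ * s⁻¹ = 1 := h5
      show (y : Fi24) * s = s * y
      rw [mul_inv_eq_one, mul_inv_eq_iff_eq_mul] at h6
      exact h6
    · intro i j hij
      exact ht (Fin.ext (Ps_inj (t i).2 (t j).2 hij))
    · intro i
      exact Ps_mem_T0 (t i).2
    · intro i j
      exact (adB_iff (t i).2 (t j).2).1 (hadj i j)
    · intro i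
      have h4 := im_spec ⟨s, hs⟩ (t i)
      rw [← act_apply, hfix] at h4
      have h5 : s * Ps (t i) = Ps (t i) * s := mul_inv_eq_iff_eq_mul.1 h4
      exact h5.symm
    · intro i
      have h4 := im_spec y (t i)
      rw [← act_apply, hft] at h4
      exact h4

end Cfsg.Agent.H933.R7
end

-- part: H180/R7/SC
section
/-!
# `Fi24'`: the elements of order 9 (helper180)

* `x_two'` : the cube is conjugate to `X 2` or its inverse;
* `of_three` : `|C(g)| ≤ 10077696` for every `g` of order 9 of `Fi24'`, given the bound for the elements whose cube is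
  conjugate to `X 3` or its inverse.
-/

set_option autoImplicit false
set_option maxRecDepth 100000

namespace Cfsg.Agent.H180.R7

open Subgroup
open Cfsg.Agent.H842.ThreeCl (X)
open Cfsg.Spor (Fi24)

theorem sCases : Two.SCases := by
  intro s hs hK h3 h1
  rcases Cfsg.Agent.H933.R7.s_cases hs hK h3 h1 with h | ⟨h, f, hf, hfs, t, h4, h5, h6, h7, h8⟩
  · exact Or.inl h
  · exact Or.inr ⟨h, f, hf, hfs, t, h4, h5, h6, fun i => (h7 i).symm, h8⟩

theorem of_three (hB : ∀ g : Spor.Fi24', orderOf g = 9 →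
      (∃ y : Fi24, y * (g : Fi24) ^ 3 * y⁻¹ = X 3 ∨ y * (g : Fi24) ^ 3 * y⁻¹ = (X 3)⁻¹) →
        Nat.card (centralizer ({g} : Set Spor.Fi24')) ≤ 10077696)
    {g : Spor.Fi24'} (hg : orderOf g = 9) : Nat.card (centralizer ({g} : Set Spor.Fi24')) ≤ 10077696 :=
  of_parts sCases hB hg

end Cfsg.Agent.H180.R7
end

-- part: H597/R7/LineBK
section
/-!
# `Fi24`: two lines of transpositions commuting with `y = l k b c e f`, kernel checks (helper597)

`v0 = h x1` with `x1` at the point 3235; `v1 = c v0 c⁻¹` with `c = h b1`, `b1` at the point 241704; `t` at the point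
291721; `y v0⁻¹ v1 = t (y t y⁻¹)`.
-/

set_option autoImplicit false
set_option maxRecDepth 100000
set_option Elab.async false

namespace Cfsg.Agent.H597.R7.LineBK

open Cfsg Cfsg.Agent.Lib.PermNet Cfsg.Agent.Lib.PermNetPt Cfsg.Agent.Fischer.Fi24RepDef Cfsg.Agent.Fischer.Fi24Rep
open Cfsg.Agent.Fischer.Fi24RepOrb (UG)
open Cfsg.Agent.KFacts.FiTF.FixMask
open Cfsg.Agent.H840.Wd
open Cfsg.Spor (Fi24)
open Cfsg.Spor.Fi24 (Gen)

/-- the word of `y` -/
def yw : List Gen := [.l, .k, .b, .c, .e, .f]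

/-- the word taking `l` to `x1` -/
def ux : List Gen :=
  [.d, .e, .c, .d, .h, .f, .e, .d, .c, .a, .b, .k, .a, .l, .k]

/-- the word of `x1` -/
def xw : List Gen := ux ++ Gen.l :: ux.reverse

/-- the word taking `l` to `b1` -/
def ub : List Gen :=
  [.d, .e, .c, .d, .h, .i, .b, .c, .d, .h, .g, .e, .f, .a, .b, .c, .d, .e, .l, .k, .a, .b, .c, .d, .h, .i, .f, .d,
  .e, .b, .c, .d, .h, .j, .g, .f, .e, .d, .c, .b, .a, .k]

/-- the word of `b1` -/
def bw : List Gen := ub ++ Gen.l :: ub.reverse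

/-- the word taking `l` to `t` -/
def ut : List Gen :=
  [.d, .h, .i, .g, .f, .e, .d, .h, .b, .c, .d, .e, .a, .b, .c, .d, .h, .i, .f, .e, .a, .b, .c, .d, .h, .j, .g, .f,
  .e, .d, .c, .b, .a, .k]

/-- the word of `t` -/
def tw : List Gen := ut ++ Gen.l :: ut.reverse

/-- the points of `x1`, `b1`, `t` -/
theorem pt_x : chkPt (nw ux false) 0 3235 = true := by decide +kernel
theorem pt_b : chkPt (nw ub false) 0 241704 = true := by decide +kernel
theorem pt_t : chkPt (nw ut false) 0 291721 = true := by decide +kernel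

/-- `y` fixes the points of `h`, `x1`, `b1` and moves `t` -/
theorem y_h : chkPt (nw yw false) 4 4 = true := by decide +kernel
theorem y_x : chkPt (nw yw false) 3235 3235 = true := by decide +kernel
theorem y_b : chkPt (nw yw false) 241704 241704 = true := by decide +kernel
theorem y_t : chkPt (nw yw false) 291721 291801 = true := by decide +kernel

/-- `t` does not commute with its image under `y` -/
theorem t_y : chkPt (nw tw false) 291801 305301 = true := by decide +kernel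

/-- `h` commutes with neither `x1` nor `b1` -/
theorem h_x : chkPt (nw [.h] false) 3235 3251 = true := by decide +kernel
theorem y3 : eqB (yw ++ (yw ++ yw)) [] = true := by decide +kernel

/-- `y v0⁻¹ v1 = t (y t y⁻¹)` -/
theorem ident : eqB (yw ++ ((xw ++ ([.h] : List Cfsg.Spor.Fi24.Gen)) ++ ((([.h] : List Cfsg.Spor.Fi24.Gen) ++ bw) ++ ((([.h] : List Cfsg.Spor.Fi24.Gen) ++ xw) ++ (bw ++ ([.h] : List Cfsg.Spor.Fi24.Gen))))))
    (tw ++ (yw ++ (tw ++ yw.reverse))) = true := by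
  (rewrite [show @Cfsg.Agent.H840.Wd.eqB = delta% @Cfsg.Agent.H840.Wd.eqB from by delta Cfsg.Agent.H840.Wd.eqB; rfl, show @Cfsg.Agent.H840.Wd.eqL = delta% @Cfsg.Agent.H840.Wd.eqL from by delta Cfsg.Agent.H840.Wd.eqL; rfl, show @Cfsg.Agent.H840.Wd.eqL._f = delta% @Cfsg.Agent.H840.Wd.eqL._f from by delta Cfsg.Agent.H840.Wd.eqL._f; rfl, Cfsg.Agent.Lib.PermNetFast.winv_fast]; decide +kernel)

end Cfsg.Agent.H597.R7.LineBK
end
end

-- part: H611/QF/RowB_mg
section
prune_inst 0x20100605000002000004051250003e839f000190002b0800d1040e440684af4209000f20c020130a0022aa0400300068135c00704010000000000400411d0080988a4202a248a18425000f80b006415000081000000000000000000000000000004010000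
set_option linter.all false
open scoped Cfsg.Agent.FastGrp

-- part: H611/QF/Row
section
/-!
# The row `Fi24'` of S2491, S2492 from its pieces (helper611)

* `all_good` : every element of `Fi24'` is good in a perfect central extension with kernel of order 3, from the degree
  bounds of `L` (`45747` for the residues `± 1`, `201825` for `± 14` modulo 29) and the pieces R2, R4, R5, R6, R7;
* `rowA` : the row.
-/

set_option autoImplicit false
set_option maxRecDepth 100000

namespace Cfsg.Agent.H611.QF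

open Cfsg Subgroup Cfsg.Agent.H51.Mult Cfsg.Agent.H777.Ore Cfsg.Agent.H265.TF
open Cfsg.Agent.H52.ThreeFi24

universe u

theorem degK : DegK 57477 125120 := ⟨Cfsg.Agent.H26.Ore.Fi24Deg.hDN, Cfsg.Agent.H26.Ore.Fi24Deg.hDX⟩

end Cfsg.Agent.H611.QF
end

-- part: H834/R4/Norm
section
/-!
# `Fi24`: the stabilizer of the eight transpositions contains a Sylow 2-subgroup of `C(l, k)` (helper834)

* `conj_into` : Sylow conjugacy in `C(l, k)`;
* `conj_N` : every 2-element of `C(l, k)` is conjugate into the stabilizer, by an element of `Fi24'`;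
* `even_of_act` : the stabilizer induces even permutations;
* `exists_comm` : an element of `V` is a commutator of an element of order 7 with an element of `V`.
-/

set_option autoImplicit false
set_option maxRecDepth 100000
set_option exponentiation.threshold 30000

namespace Cfsg.Agent.H834.R4

open Cfsg
open Cfsg.Agent.Fischer.Fi24RepDef Cfsg.Agent.Fischer.Fi24Rep
open Cfsg.Agent.R08.FiTwentyFour (L)
open Cfsg.Agent.H840.Lk
open Cfsg.Spor (Fi24)
open Subgroup Equiv

/-- the stabilizer of the eight transpositions -/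
def NN : Subgroup Fi24 where
  carrier := {n | n ∈ Clk ∧ ∃ σ, Act n σ}
  mul_mem' := by
    rintro n m ⟨h1, σ, h2⟩ ⟨h3, τ, h4⟩
    exact ⟨Clk.mul_mem h1 h3, σ * τ, h2.mul h4⟩
  one_mem' := ⟨Clk.one_mem, 1, Act.one⟩
  inv_mem' := by
    rintro n ⟨h1, σ, h2⟩
    exact ⟨Clk.inv_mem h1, σ⁻¹, h2.inv⟩

theorem NN_le : NN ≤ Clk := fun _ h => h.1

theorem finite_Clk : Finite Clk := Nat.finite_of_card_ne_zero (by rw [card_Clk]; norm_num)

theorem finite_NN : Finite NN := by
  haveI := finite_Clk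
  exact Finite.of_injective (Subgroup.inclusion NN_le) (Subgroup.inclusion_injective NN_le)

/-- the action -/
noncomputable def φN : NN →* Perm (Fin 8) := MonoidHom.mk' (fun n => n.2.2.choose) (fun a b =>
  Act.uniq (a * b).2.2.choose_spec (a.2.2.choose_spec.mul b.2.2.choose_spec))

theorem φN_eq {n : NN} {σ : Perm (Fin 8)} (h : Act n.1 σ) : φN n = σ := Act.uniq n.2.2.choose_spec h

theorem DD_le_NN : DD ≤ NN := fun _ h => ⟨DD_le h, 1, act_DD h⟩

theorem card_NN : Nat.card φN.ker * Nat.card φN.range = Nat.card NN := by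
  rw [← Subgroup.index_ker, Subgroup.card_mul_index]

theorem card_kerN : 2 ^ 7 ∣ Nat.card φN.ker := by
  refine card_DD.trans ?_
  have h1 : ∀ d : DD, (⟨d.1, DD_le_NN d.2⟩ : NN) ∈ φN.ker := fun d => φN_eq (act_DD d.2)
  let f : DD →* φN.ker := MonoidHom.mk' (fun d => ⟨⟨d.1, DD_le_NN d.2⟩, h1 d⟩) (fun _ _ => rfl)
  refine Subgroup.card_dvd_of_injective f ?_
  intro a b hab
  exact Subtype.ext (congrArg (fun z : φN.ker => (z.1.1 : Fi24)) hab)

theorem alt_le_range : alternatingGroup (Fin 8) ≤ φN.range := by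
  intro σ hσ
  obtain ⟨n, h1, -, h3⟩ := exists_act (Perm.mem_alternatingGroup.1 hσ)
  exact ⟨⟨n, h1, σ, h3⟩, φN_eq h3⟩

theorem card_alt : Nat.card (alternatingGroup (Fin 8)) = 2 ^ 6 * 315 := by
  have h1 := two_mul_nat_card_alternatingGroup (α := Fin 8)
  rw [Nat.card_perm, Nat.card_eq_fintype_card (α := Fin 8), Fintype.card_fin] at h1
  have h2 : Nat.factorial 8 = 40320 := by decide
  omega

theorem card_rangeN : 2 ^ 6 ∣ Nat.card φN.range := by
  have h1 := Subgroup.card_dvd_of_le alt_le_range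
  rw [card_alt] at h1
  exact (Nat.dvd_mul_right _ _).trans h1

theorem card_NN_dvd : 2 ^ 13 ∣ Nat.card NN := by
  have e : 2 ^ 13 = 2 ^ 7 * 2 ^ 6 := by norm_num
  rw [← card_NN, e]
  exact mul_dvd_mul card_kerN card_rangeN

theorem not_dvd14 : ¬ 2 ^ 14 ∣ Nat.card Clk := by
  rw [card_Clk]; norm_num

theorem fac_two : (Nat.card Clk).factorization 2 = 13 := by
  apply le_antisymm
  · by_contra h
    exact not_dvd14 (((Nat.prime_two).pow_dvd_iff_le_factorization (by rw [card_Clk]; norm_num)).2 (by omega))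
  · refine ((Nat.prime_two).pow_dvd_iff_le_factorization (by rw [card_Clk]; norm_num)).1 ?_
    rw [card_Clk]; norm_num

theorem fac_seven : (Nat.card Clk).factorization 7 = 1 := by
  have h7 : Nat.Prime 7 := by norm_num
  apply le_antisymm
  · by_contra h
    have : 7 ^ 2 ∣ Nat.card Clk := (h7.pow_dvd_iff_le_factorization (by rw [card_Clk]; norm_num)).2 (by omega)
    rw [card_Clk] at this
    revert this
    norm_num
  · refine (h7.pow_dvd_iff_le_factorization (by rw [card_Clk]; norm_num)).1 ?_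
    rw [card_Clk]; norm_num

/-- **The stabilizer induces even permutations.** -/
theorem even_of_act {n : Fi24} (hn : n ∈ Clk) {σ : Perm (Fin 8)} (h : Act n σ) : Perm.sign σ = 1 := by
  by_contra hs
  have h1 : φN.range = ⊤ := by
    rw [eq_top_iff]
    intro τ _
    have hσ : σ ∈ φN.range := ⟨⟨n, hn, σ, h⟩, φN_eq h⟩
    by_cases ht : Perm.sign τ = 1
    · exact alt_le_range (Perm.mem_alternatingGroup.2 ht)
    · have h2 : Perm.sign (τ * σ⁻¹) = 1 := by
        rw [map_mul, map_inv]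
        rcases Int.units_eq_one_or (Perm.sign τ) with h3 | h3
        · exact absurd h3 ht
        rcases Int.units_eq_one_or (Perm.sign σ) with h4 | h4
        · exact absurd h4 hs
        rw [h3, h4]; decide
      have h3 := alt_le_range (Perm.mem_alternatingGroup.2 h2)
      have h4 := φN.range.mul_mem h3 hσ
      rwa [inv_mul_cancel_right] at h4
  have h2 : 2 ^ 7 ∣ Nat.card φN.range := by
    rw [h1, Subgroup.card_top, Nat.card_perm, Nat.card_eq_fintype_card (α := Fin 8), Fintype.card_fin]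
    decide
  have h3 : 2 ^ 14 ∣ Nat.card NN := by
    have e : 2 ^ 14 = 2 ^ 7 * 2 ^ 7 := by norm_num
    rw [← card_NN, e]
    exact mul_dvd_mul card_kerN h2
  exact not_dvd14 (h3.trans (Subgroup.card_dvd_of_le NN_le))

/-- Sylow conjugacy -/
theorem conj_sylow {G : Type*} [Group G] [Finite G] {p : ℕ} [Fact p.Prime] {H : Subgroup G}
    (hH : Nat.card H = p ^ (Nat.card G).factorization p) {x : G} {n : ℕ} (hx : x ^ p ^ n = 1) :
    ∃ g : G, g * x * g⁻¹ ∈ H := by
  have h1 : IsPGroup p (zpowers x) := IsPGroup.of_card (n := (Nat.card (zpowers x)).factorization p) (by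
    rw [Nat.card_zpowers]
    obtain ⟨k, -, hk⟩ := (Nat.dvd_prime_pow (Fact.out : p.Prime)).1 (orderOf_dvd_of_pow_eq_one hx)
    rw [hk, (Fact.out : p.Prime).factorization_pow, Finsupp.single_eq_same])
  obtain ⟨P, hP⟩ := h1.exists_le_sylow
  obtain ⟨g, hg⟩ := MulAction.exists_smul_eq G P (Sylow.ofCard H hH)
  refine ⟨g, ?_⟩
  have h2 : (g • P : Sylow p G).toSubgroup = H := by rw [hg]; rfl
  rw [← h2, Sylow.coe_subgroup_smul, Subgroup.mem_pointwise_smul_iff_inv_smul_mem]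
  have h3 : (MulAut.conj g)⁻¹ • (g * x * g⁻¹) = x := by
    rw [← map_inv, MulAut.smul_def, MulAut.conj_apply]
    group
  rw [h3]
  exact hP (mem_zpowers x)

theorem conj_into {p : ℕ} [Fact p.Prime] {H : Subgroup Fi24} (hH : H ≤ Clk)
    (hc : Nat.card H = p ^ (Nat.card Clk).factorization p) {x : Fi24} (hx : x ∈ Clk) {n : ℕ} (hx1 : x ^ p ^ n = 1) :
    ∃ g ∈ Clk, g * x * g⁻¹ ∈ H := by
  haveI := finite_Clk
  have h1 : Nat.card (H.subgroupOf Clk) = p ^ (Nat.card Clk).factorization p := by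
    rw [← hc, Nat.card_congr (Subgroup.subgroupOfEquivOfLe hH).toEquiv]
  obtain ⟨g, hg⟩ := conj_sylow h1 (x := (⟨x, hx⟩ : Clk)) (n := n) (Subtype.ext hx1)
  exact ⟨g.1, g.2, hg⟩

theorem b_NN : dq 0 ∈ NN := DD_le_NN (dq_DD 0)

theorem odd_b : dq 0 ∉ commutator Fi24 := Cfsg.Agent.R08.FiTwentyFour.odd (dq_mem 0)

/-- **a 2-element of `C(l, k)` is conjugate into the stabilizer** -/
theorem conj_N {t : Fi24} (ht : t ∈ Clk) {n : ℕ} (h2 : t ^ 2 ^ n = 1) :
    ∃ h ∈ Clk, h ∈ commutator Fi24 ∧ h * t * h⁻¹ ∈ NN := by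
  haveI := finite_NN
  obtain ⟨K, hK⟩ := Sylow.exists_subgroup_card_pow_prime 2 card_NN_dvd
  have hK1 : Nat.card (K.map NN.subtype) = 2 ^ (Nat.card Clk).factorization 2 := by
    rw [fac_two, ← hK]
    exact Nat.card_congr (K.equivMapOfInjective _ NN.subtype_injective).symm.toEquiv
  have hK2 : K.map NN.subtype ≤ NN := by
    rintro _ ⟨x, -, rfl⟩
    exact x.2
  obtain ⟨g, hg, h3⟩ := conj_into (hK2.trans NN_le) hK1 ht h2
  have h4 := hK2 h3
  by_cases hgc : g ∈ commutator Fi24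
  · exact ⟨g, hg, hgc, h4⟩
  · refine ⟨dq 0 * g, Clk.mul_mem (dq_Clk 0) hg, ?_, ?_⟩
    · rw [Subgroup.mul_mem_iff_of_index_two comm_index]
      exact iff_of_false odd_b hgc
    · have e : dq 0 * g * t * (dq 0 * g)⁻¹ = dq 0 * (g * t * g⁻¹) * (dq 0)⁻¹ := by group
      rw [e]
      exact NN.mul_mem (NN.mul_mem b_NN h4) (NN.inv_mem b_NN)

/-! ### The action of an element of order 7 on `V` -/

/-- the even part of `DD` -/
def VV : Subgroup Fi24 := DD ⊓ commutator Fi24

theorem VV_conj {n v : Fi24} {σ : Perm (Fin 8)} (hn : Act n σ) (hv : v ∈ VV) : n * v * n⁻¹ ∈ VV := by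
  refine ⟨?_, ?_⟩
  · obtain ⟨w, hw⟩ := EE_surj ⟨v, hv.1⟩
    have h1 : (EE w : Fi24) = v := congrArg Subtype.val hw
    rw [← h1, EE_act hn]
    exact (EE _).2
  · have : (commutator Fi24).Normal := inferInstance
    exact this.conj_mem _ hv.2 _

/-- **an element inducing a 7-cycle has no fixed point on `VV`** -/
theorem fix_VV {x v : Fi24} {τ : Perm (Fin 8)} (hx : Act x (τ * c7 * τ⁻¹)) (hv : v ∈ VV) (h : x * v * x⁻¹ = v) :
    v = 1 := by
  obtain ⟨w, hw⟩ := EE_surj ⟨v, hv.1⟩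
  have hwv : (EE w : Fi24) = v := congrArg Subtype.val hw
  set σ := τ * c7 * τ⁻¹ with hσ
  have h1 : EE (w ∘ (σ⁻¹ : Perm (Fin 8))) = EE w := by
    apply Subtype.ext
    rw [← EE_act hx, hwv, h]
  have h2 : EE (w ∘ (σ⁻¹ : Perm (Fin 8)) + w) = 1 := by
    rw [EE_add, h1, ← EE_add]
    have : w + w = 0 := by
      funext i
      exact zmod2' _
    rw [this, EE_zero]
  have h3 := EE_ker h2
  -- the fixed index
  have hfix : σ⁻¹ (τ 7) = τ 7 := by
    have h4 : σ (τ 7) = τ 7 := by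
      show τ (c7 (τ⁻¹ (τ 7))) = τ 7
      have h5 : τ⁻¹ (τ 7) = 7 := τ.symm_apply_apply 7
      rw [h5]
      rfl
    rw [Perm.inv_eq_iff_eq, h4]
  have h4 : ∀ i, w (σ⁻¹ i) = w i := by
    intro i
    have h5 := h3 i (τ 7)
    have h6 : (w ∘ (σ⁻¹ : Perm (Fin 8)) + w) (τ 7) = 0 := by
      show w (σ⁻¹ (τ 7)) + w (τ 7) = 0
      rw [hfix, zmod2']
    rw [h6] at h5
    exact zmod2'' _ _ h5
  have h5 : ∀ i, (w (τ (c7 i)) = 1 ↔ w (τ i) = 1) := by
    intro i
    have h6 := h4 (σ (τ i))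
    have h7 : σ⁻¹ (σ (τ i)) = τ i := σ.symm_apply_apply _
    have h8 : σ (τ i) = τ (c7 i) := by
      show τ (c7 (τ⁻¹ (τ i))) = _
      have : τ⁻¹ (τ i) = i := τ.symm_apply_apply i
      rw [this]
    rw [h7, h8] at h6
    rw [h6]
  have h6 := c7_inv (ε := fun i => w (τ i) = 1) h5
  have z01 : ∀ a : ZMod 2, a = 0 ∨ a = 1 := by decide
  have h7 : ∀ i : Fin 8, i ≠ 7 → w (τ i) = w (τ 0) := by
    intro i hi
    have h8 := h6 i 0 hi (by decide)
    rcases z01 (w (τ i)) with a1 | a1 <;> rcases z01 (w (τ 0)) with a2 | a2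
    · rw [a1, a2]
    · exact absurd (h8.2 a2) (by rw [a1]; decide)
    · exact absurd (h8.1 a1) (by rw [a2]; decide)
    · rw [a1, a2]
  have h8 : ∑ i, w i = 0 := EE_even (by rw [hwv]; exact hv.2)
  have h9 : ∑ i, w i = ∑ i, w (τ i) := (Equiv.sum_comp τ w).symm
  rw [h9, Fin.sum_univ_eight, h7 1 (by decide), h7 2 (by decide), h7 3 (by decide), h7 4 (by decide),
    h7 5 (by decide), h7 6 (by decide)] at h8
  have h10 : w (τ 7) = w (τ 0) := by
    revert h8
    generalize w (τ 0) = a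
    generalize w (τ 7) = b
    revert a b
    decide
  have h11 : w = fun _ => w (τ 0) := by
    funext i
    obtain ⟨j, rfl⟩ := τ.surjective i
    by_cases hj : j = 7
    · rw [hj, h10]
    · exact h7 j hj
  rw [← hwv, h11, EE_const]
  rfl

/-- **commutators** -/
theorem exists_comm {x v : Fi24} {τ : Perm (Fin 8)} (hx : Act x (τ * c7 * τ⁻¹)) (hv : v ∈ VV) :
    ∃ w ∈ VV, x * w * x⁻¹ * w⁻¹ = v := by
  haveI : Finite VV := by
    haveI := finite_Clk
    exact Finite.of_injective (Subgroup.inclusion ((inf_le_left : VV ≤ DD).trans DD_le)) (Subgroup.inclusion_injective _)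
  let f : VV → VV := fun w => ⟨x * w * x⁻¹ * (w : Fi24)⁻¹, VV.mul_mem (VV_conj hx w.2) (VV.inv_mem w.2)⟩
  have hf : Function.Injective f := by
    intro a b hab
    have h1 : x * a * x⁻¹ * (a : Fi24)⁻¹ = x * b * x⁻¹ * (b : Fi24)⁻¹ := congrArg Subtype.val hab
    have h2 : x * ((b : Fi24)⁻¹ * a) * x⁻¹ = (b : Fi24)⁻¹ * a := by
      have c1 : Commute (x * (a : Fi24) * x⁻¹) (a : Fi24)⁻¹ := DD_comm (VV_conj hx a.2).1 (DD.inv_mem a.2.1)
      calc x * ((b : Fi24)⁻¹ * a) * x⁻¹ = (x * b * x⁻¹)⁻¹ * (x * a * x⁻¹ * (a : Fi24)⁻¹) * a := by group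
        _ = (x * b * x⁻¹)⁻¹ * (x * b * x⁻¹ * (b : Fi24)⁻¹) * a := by rw [h1]
        _ = _ := by group
    have h3 := fix_VV hx (VV.mul_mem (VV.inv_mem b.2) a.2) h2
    apply Subtype.ext
    have h4 : (a : Fi24) = b * ((b : Fi24)⁻¹ * a) := by group
    rw [h4, h3, mul_one]
  obtain ⟨w, hw⟩ := Finite.surjective_of_injective hf ⟨v, hv⟩
  exact ⟨w, w.2, congrArg Subtype.val hw⟩

end Cfsg.Agent.H834.R4
end

-- part: H834/R4/Seven
section
/-!
# `3.Fi24'`: elements of order 7 of `C(l, k)` and the pairing with `s0 = l k` (helper834)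

* `z7` : an element of order 7 commuting with `l`, `k` and `c0`;
* `exists_c` : every `x ∈ C(l, k)` with `x ^ 7 = 1` commutes with some `c` with `Tri p c s0`.
-/

set_option autoImplicit false
set_option maxRecDepth 100000
set_option exponentiation.threshold 30000

namespace Cfsg.Agent.H834.R4

open Cfsg Cfsg.Agent.Lib.PermNet Cfsg.Agent.Lib.PermNetPt
open Cfsg.Agent.Fischer.Fi24RepDef hiding c0
open Cfsg.Agent.Fischer.Fi24Rep
open Cfsg.Agent.Fischer.Fi24Spider (word_append word_cons word_nil)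
open Cfsg.Agent.KFacts.FiTF.Pts Cfsg.Agent.KFacts.FiTF.FixMask
open Cfsg.Agent.KFacts.FiTF.Defs (tr)
open Cfsg.Agent.R08.FiTwentyFour (L)
open Cfsg.Agent.LThreeFi24.FiveConj (eqB eq_of_eqB)
open Cfsg.Agent.H827.CocoD (word_mem)
open Cfsg.Agent.H265.TF (wK tpw cw0 sw0 s0 c0 Tri Good)
open Cfsg.Agent.H840.Lk
open Cfsg.Spor (Fi24)
open Cfsg.Spor.Fi24 (Gen)
open Subgroup Equiv

/-- half of the word of the transposition in `c0` -/
def tu : List Gen := [.a,.b,.c,.d,.h,.i,.e,.d,.h,.f,.g,.e,.f,.c,.d,.e,.b,.c,.d,.h,.i,.f,.d,.e,.b,.c,.d,.h,.j,.g,.f,.e,.d,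
  .c,.b]

theorem tpw_eq : tpw = tu ++ .a :: tu.reverse := by decide

theorem tu_chk : chkPt (nw tu false) 1 25345 = true := by decide +kernel

theorem isPt_tp : IsPt (word tpw) 25345 := by
  rw [tpw_eq]
  exact isPt_tr (u := tu) (x := .a) tu_chk

def g7 : List Gen := [.g,.i,.c,.d,.h,.e,.d,.c,.a,.b,.k,.a,.l,.k,.l,.k,.l,.a,.k,.b,.a,.c,.d,.e,.h,.d,.c,.f]
def y7 : List Gen := [.i, .h, .d, .e, .f, .g]
def x7 : List Gen := g7.reverse ++ (y7 ++ g7)

theorem x7_l : chkPt (nw x7 false) 0 0 = true := by decide +kernel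
theorem x7_k : chkPt (nw x7 false) 307872 307872 = true := by decide +kernel
theorem x7_b : chkPt (nw x7 false) 193 193 = true := by decide +kernel
theorem x7_t : chkPt (nw x7 false) 25345 25345 = true := by decide +kernel
theorem y7_seven : eqB (y7 ++ (y7 ++ (y7 ++ (y7 ++ (y7 ++ (y7 ++ y7)))))) [] = true := by decide +kernel
theorem y7_ne : (!(chkPt (nw y7 false) 176 176)) = true := by decide +kernel

/-- an element of order 7 -/
noncomputable def z7 : Fi24 := word x7

theorem z7_eq : z7 = (word g7)⁻¹ * word y7 * (word g7)⁻¹⁻¹ := by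
  unfold z7 x7
  rw [word_append, word_append, word_reverse, inv_inv, mul_assoc]

theorem z7_seven : z7 ^ 7 = 1 := by
  have h := eq_of_eqB y7_seven
  simp only [word_append, word_nil] at h
  have h1 : word y7 ^ 7 = 1 := by
    rw [← h]
    simp only [pow_succ, pow_zero, one_mul, mul_assoc]
  rw [z7_eq, conj_pow, h1]
  group

theorem z7_ne : z7 ≠ 1 := by
  intro h
  rw [z7_eq] at h
  have h1 : word y7 = 1 := by
    have h2 := congrArg (fun g => word g7 * g * (word g7)⁻¹) h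
    calc word y7 = word g7 * ((word g7)⁻¹ * word y7 * (word g7)⁻¹⁻¹) * (word g7)⁻¹ := by group
      _ = word g7 * 1 * (word g7)⁻¹ := h2
      _ = 1 := by group
  have h3 := y7_ne
  have h4 : chkPt (nw y7 false) 176 176 = true := chk_iff.2 (by rw [h1]; exact congrFun (congrArg _ (map_one rho)) 176)
  rw [h4] at h3
  exact absurd h3 (by decide)

theorem z7_b : Commute z7 (gen .b) := ((isPt_gen .b).comm_iff _).2 (chk_iff.1 x7_b)
theorem z7_t : Commute z7 (word tpw) := (isPt_tp.comm_iff _).2 (chk_iff.1 x7_t)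

theorem z7_Clk : z7 ∈ Clk := by
  rw [mem_Clk]
  exact ⟨((isPt_gen .l).comm_iff _).2 (chk_iff.1 x7_l), ((isPt_gen .k).comm_iff _).2 (chk_iff.1 x7_k)⟩

theorem z7_c0 : Commute z7 (c0 : Fi24) := by
  show Commute z7 (word (.b :: tpw))
  rw [word_cons]
  exact z7_b.mul_right z7_t

theorem card_z7 : Nat.card (zpowers z7) = 7 ^ (Nat.card Clk).factorization 7 := by
  haveI : Fact (Nat.Prime 7) := ⟨by norm_num⟩
  rw [fac_seven, Nat.card_zpowers, pow_one]
  exact orderOf_eq_prime z7_seven z7_ne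

universe u
variable {H : Type u} [Group H] {p : H →* Spor.Fi24'}

/-- **every element of order 7 of `C(l, k)` commutes with an element paired with `s0`** -/
theorem exists_c (hs : Function.Surjective p) (h : Tri p c0 s0) {x : Fi24} (hx : x ∈ Clk) (h7 : x ^ 7 = 1) :
    ∃ c : Spor.Fi24', Tri p c s0 ∧ Commute (c : Fi24) x := by
  haveI : Fact (Nat.Prime 7) := ⟨by norm_num⟩
  have h1 : ∃ g ∈ Clk, g ∈ commutator Fi24 ∧ g * x * g⁻¹ ∈ zpowers z7 := by
    obtain ⟨g, hg, h2⟩ := conj_into (p := 7) (n := 1) (zpowers_le.2 z7_Clk) card_z7 hx (by rw [pow_one]; exact h7)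
    by_cases hgc : g ∈ commutator Fi24
    · exact ⟨g, hg, hgc, h2⟩
    · refine ⟨dq 0 * g, Clk.mul_mem (dq_Clk 0) hg, ?_, ?_⟩
      · rw [Subgroup.mul_mem_iff_of_index_two comm_index]
        exact iff_of_false odd_b hgc
      · obtain ⟨j, hj⟩ := mem_zpowers_iff.1 h2
        have e : dq 0 * g * x * (dq 0 * g)⁻¹ = dq 0 * (g * x * g⁻¹) * (dq 0)⁻¹ := by group
        have c1 : Commute (dq 0) (z7 ^ j) := by rw [dq_zero]; exact (z7_b.zpow_left j).symm
        rw [e, ← hj, c1.eq, mul_inv_cancel_right]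
        exact ⟨j, rfl⟩
  obtain ⟨g, hg, hgc, h2⟩ := h1
  obtain ⟨j, hj⟩ := mem_zpowers_iff.1 h2
  set k : Spor.Fi24' := ⟨g, hgc⟩ with hk
  have hcs : k⁻¹ * s0 * k⁻¹⁻¹ = s0 := by
    rw [mul_inv_eq_iff_eq_mul]
    apply Subtype.ext
    show g⁻¹ * word [.l, .k] = word [.l, .k] * g⁻¹
    have h3 := mem_Clk.1 (Clk.inv_mem hg)
    have h4 : Commute g⁻¹ (gen .l * gen .k) := (show Commute g⁻¹ (gen .l) from h3.1).mul_right h3.2
    rw [word_cons, word_cons, word_nil, mul_one]
    exact h4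
  refine ⟨k⁻¹ * c0 * k⁻¹⁻¹, ?_, ?_⟩
  · have h3 := h.conj hs k⁻¹
    rwa [hcs] at h3
  · have e : x = g⁻¹ * (z7 ^ j) * g⁻¹⁻¹ := by rw [hj]; group
    rw [e]
    show Commute (g⁻¹ * (c0 : Fi24) * g⁻¹⁻¹) (g⁻¹ * (z7 ^ j) * g⁻¹⁻¹)
    exact (SemiconjBy.conj_iff (a := (c0 : Fi24)) (x := z7 ^ j) (y := z7 ^ j) (b := g⁻¹)).2
      (z7_c0.zpow_left j).symm

end Cfsg.Agent.H834.R4
end

-- part: H834/R4/Main
section
/-!
# `3.Fi24'`: the products of an element of class `3A` and of a commuting 2-element (helper834, for S2491, S2492)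

* `mem_Clk_of_two` : a 2-element commuting with `l k` is in `C(l, k)`;
* `main_comm` : a 2-element of the stabilizer of the eight transpositions is `[x, y]` with `x` of order 7;
* `r4` : **`Good p (s * t)` for `s` of class `3A`, `t` a 2-element commuting with `s`**.
-/

set_option autoImplicit false
set_option maxRecDepth 100000
set_option exponentiation.threshold 30000

namespace Cfsg.Agent.H834.R4

open Cfsg
open Cfsg.Agent.Fischer.Fi24RepDef hiding c0
open Cfsg.Agent.Fischer.Fi24Rep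
open Cfsg.Agent.Fischer.Fi24Spider (word_append word_cons word_nil)
open Cfsg.Agent.H265.TF (wK s0 c0 Tri Good good_comm)
open Cfsg.Agent.H840.Lk
open Cfsg.Agent.H840.NormX
open Cfsg.Spor (Fi24)
open Cfsg.Spor.Fi24 (Gen)
open Subgroup Equiv

theorem mem_Clk_of_two {t : Fi24} (h : Commute t (gen .l * gen .k)) {n : ℕ} (ht : t ^ 2 ^ n = 1) : t ∈ Clk := by
  haveI : Finite Fi24 := Cfsg.Agent.R08.FiTwentyFour.finite_Fi24
  have F := Cfsg.Agent.H830.Con24.fgroup
  have hl := Cfsg.Agent.H840.Lk.gen_mem .l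
  have hk := Cfsg.Agent.H840.Lk.gen_mem .k
  obtain ⟨x, hx, y, hy, e⟩ := cent_mul F hl hk not_comm_lk h
  have hy2 := mem_cent_pair.1 hy
  have hinv : ∀ w ∈ zpowers (gen .l * gen .k), gen .l * w * (gen .l)⁻¹ = w⁻¹ := by
    rintro w hw
    obtain ⟨j, rfl⟩ := mem_zpowers_iff.1 hw
    rw [← conj_zpow, left_inverts (fd F) hl hk, inv_zpow]
  have hxy : Commute x y := by
    obtain ⟨j, rfl⟩ := mem_zpowers_iff.1 hx
    exact (hy2.1.mul_left hy2.2).zpow_left j
  have h1 : x ^ 2 ^ n * y ^ 2 ^ n = 1 := by rw [← hxy.mul_pow, ← e, ht]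
  have h2 : x ^ 2 ^ n = (y ^ 2 ^ n)⁻¹ := eq_inv_of_mul_eq_one_left h1
  have h3 : Commute (gen .l) (x ^ 2 ^ n) := by rw [h2]; exact (hy2.1.pow_right _).inv_right
  have h4 := hinv _ (Subgroup.pow_mem _ hx (2 ^ n))
  rw [h3.eq, mul_inv_cancel_right] at h4
  have h5 : x ^ 2 ^ (n + 1) = 1 := by
    rw [pow_succ, pow_mul, pow_two]
    nth_rewrite 2 [h4]
    exact mul_inv_cancel _
  have h6 : x ^ 3 = 1 := by
    obtain ⟨j, rfl⟩ := mem_zpowers_iff.1 hx
    rw [← zpow_natCast, ← zpow_mul, mul_comm, zpow_mul, zpow_natCast, cube (fd F) hl hk not_comm_lk, one_zpow]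
  have h7 : x = 1 := by
    have h8 : orderOf x ∣ Nat.gcd (2 ^ (n + 1)) 3 := Nat.dvd_gcd (orderOf_dvd_of_pow_eq_one h5) (orderOf_dvd_of_pow_eq_one h6)
    have h9 : Nat.gcd (2 ^ (n + 1)) 3 = 1 := Nat.Coprime.pow_left _ (by norm_num)
    rw [h9, Nat.dvd_one] at h8
    exact orderOf_eq_one_iff.1 h8
  rw [e, h7, one_mul, mem_Clk]
  exact ⟨hy2.1.symm.eq, hy2.2.symm.eq⟩

/-- **a 2-element of the stabilizer** -/
theorem main_comm {n : Fi24} (hn : n ∈ NN) (hnc : n ∈ commutator Fi24) {m : ℕ} (h2 : n ^ 2 ^ m = 1) :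
    ∃ x y : Fi24, x ∈ Clk ∧ x ∈ commutator Fi24 ∧ x ^ 7 = 1 ∧ y ∈ Clk ∧ y ∉ commutator Fi24 ∧
      n = x * y * x⁻¹ * y⁻¹ := by
  obtain ⟨hnC, a, ha⟩ := hn
  have ha2 : a ^ 2 ^ m = 1 := Act.uniq (ha.pow _) (by rw [h2]; exact Act.one)
  obtain ⟨τ, b, hb, hab⟩ := wt_all (even_of_act hnC ha) ha2
  set X : Perm (Fin 8) := τ * c7 * τ⁻¹ with hX
  have hXs : Perm.sign X = 1 := by
    rw [hX, map_mul, map_mul, c7_even, mul_one, map_inv, mul_inv_cancel]
  have hX7 : X ^ 7 = 1 := by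
    rw [hX, conj_pow, c7_pow, mul_one, mul_inv_cancel]
  obtain ⟨x1, x1C, x1c, x1a⟩ := exists_act hXs
  obtain ⟨b1, b1C, b1c, b1a⟩ := exists_act hb
  have hx : Act (x1 ^ 8) X := by
    have h3 := x1a.pow 8
    rwa [show X ^ 8 = X by rw [pow_succ, hX7, one_mul]] at h3
  have hD : x1 ^ 7 ∈ DD := mem_DD_of_act (Clk.pow_mem x1C 7) (by
    have h3 := x1a.pow 7
    rwa [hX7] at h3)
  have h14 : x1 ^ 14 = 1 := by
    have h3 := DD_sq hD
    rwa [← pow_add] at h3
  set x : Fi24 := x1 ^ 8 with hxd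
  have hx7 : x ^ 7 = 1 := by
    rw [hxd, ← pow_mul, show 8 * 7 = 14 * 4 by norm_num, pow_mul, h14, one_pow]
  have hxC : x ∈ Clk := Clk.pow_mem x1C 8
  have hxc : x ∈ commutator Fi24 := pow_mem x1c 8
  set y0 : Fi24 := b1 * dq 7 with hy0
  have hy0a : Act y0 b := by
    have h3 := b1a.mul (act_DD (dq_DD 7))
    rwa [mul_one] at h3
  have hy0C : y0 ∈ Clk := Clk.mul_mem b1C (dq_Clk 7)
  have hnor : (commutator Fi24).Normal := inferInstance
  have hcc : x * y0 * x⁻¹ * y0⁻¹ ∈ commutator Fi24 := by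
    have h3 := (commutator Fi24).mul_mem hxc (hnor.conj_mem _ ((commutator Fi24).inv_mem hxc) y0)
    rwa [show x * (y0 * x⁻¹ * y0⁻¹) = x * y0 * x⁻¹ * y0⁻¹ by group] at h3
  have hccC : x * y0 * x⁻¹ * y0⁻¹ ∈ Clk :=
    Clk.mul_mem (Clk.mul_mem (Clk.mul_mem hxC hy0C) (Clk.inv_mem hxC)) (Clk.inv_mem hy0C)
  set v1 : Fi24 := (x * y0 * x⁻¹ * y0⁻¹)⁻¹ * n with hv1
  have hv1V : v1 ∈ VV := by
    refine ⟨mem_DD_of_act (Clk.mul_mem (Clk.inv_mem hccC) hnC) ?_, (commutator Fi24).mul_mem ((commutator Fi24).inv_mem hcc) hnc⟩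
    have h3 := (hx.comm hy0a).inv.mul ha
    rwa [← hab, inv_mul_cancel] at h3
  have hv2 : y0⁻¹ * v1 * y0⁻¹⁻¹ ∈ VV := VV_conj hy0a.inv hv1V
  obtain ⟨w, hw, e⟩ := exists_comm hx hv2
  refine ⟨x, y0 * w, hxC, hxc, hx7, Clk.mul_mem hy0C (DD_le hw.1), ?_, ?_⟩
  · intro h3
    rw [hy0, mul_assoc, Subgroup.mul_mem_iff_of_index_two comm_index] at h3
    have h4 : dq 7 ∈ commutator Fi24 := ((Subgroup.mul_mem_iff_of_index_two comm_index).1 (h3.1 b1c)).2 hw.2
    exact Cfsg.Agent.R08.FiTwentyFour.odd (dq_mem 7) h4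
  · calc n = (x * y0 * x⁻¹ * y0⁻¹) * v1 := by rw [hv1]; group
      _ = x * y0 * x⁻¹ * (y0⁻¹ * v1 * y0⁻¹⁻¹) * y0⁻¹ := by group
      _ = x * y0 * x⁻¹ * (x * w * x⁻¹ * w⁻¹) * y0⁻¹ := by rw [e]
      _ = x * (y0 * w) * x⁻¹ * (y0 * w)⁻¹ := by group

universe u
variable {H : Type u} [Group H] {p : H →* Spor.Fi24'}

/-- **`s` of class `3A` times a commuting 2-element** -/
theorem r4 (hs : Function.Surjective p) (hc : p.ker ≤ center H) (hk : Nat.card p.ker = 3) (h : Tri p c0 s0)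
    {s t : Spor.Fi24'} (hconj : ∃ g : Spor.Fi24', g * s * g⁻¹ = s0) {n : ℕ} (ht : t ^ 2 ^ n = 1) (hst : Commute s t) :
    Good p (s * t) := by
  obtain ⟨g0, hg0⟩ := hconj
  refine Good.of_conj hs g0 ?_
  rw [show g0 * (s * t) * g0⁻¹ = (g0 * s * g0⁻¹) * (g0 * t * g0⁻¹) by group, hg0]
  have ht1 : (g0 * t * g0⁻¹) ^ 2 ^ n = 1 := by rw [conj_pow, ht]; group
  have hst1 : Commute s0 (g0 * t * g0⁻¹) := by
    rw [← hg0]
    exact (SemiconjBy.conj_iff (a := s) (x := t) (y := t) (b := g0)).2 hst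
  generalize g0 * t * g0⁻¹ = t1 at ht1 hst1 ⊢
  have es : (s0 : Fi24) = gen .l * gen .k := by
    show word [.l, .k] = _
    rw [word_cons, word_cons, word_nil, mul_one]
  have ht2 : (t1 : Fi24) ^ 2 ^ n = 1 := congrArg Subtype.val ht1
  have hst2 : Commute (t1 : Fi24) (gen .l * gen .k) := by
    rw [← es]
    exact congrArg Subtype.val hst1.symm.eq
  obtain ⟨g, hgC, hgc, hgN⟩ := conj_N (mem_Clk_of_two hst2 ht2) ht2
  have hlk : ∀ w ∈ Clk, Commute w (gen .l * gen .k) := fun w hw => by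
    have h3 := mem_Clk.1 hw
    exact (show Commute w (gen .l) from h3.1).mul_right h3.2
  refine Good.of_conj hs ⟨g, hgc⟩ ?_
  have ht3 : (g * (t1 : Fi24) * g⁻¹) ^ 2 ^ n = 1 := by rw [conj_pow, ht2]; group
  have hnc : g * (t1 : Fi24) * g⁻¹ ∈ commutator Fi24 := mul_mem (mul_mem hgc t1.2) (inv_mem hgc)
  obtain ⟨x, y, hxC, hxc, hx7, hyC, hyc, e⟩ := main_comm hgN hnc ht3
  obtain ⟨c, hcT, hcx⟩ := exists_c hs h hxC hx7
  have hcX : Commute c (⟨x, hxc⟩ : Spor.Fi24') := Subtype.ext hcx.eq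
  have T := hcT.inv_right.mul_right hs hc hk hcX (n := 7) (Subtype.ext hx7) (by norm_num)
  have hY : y * gen .l ∈ commutator Fi24 := by
    rw [Subgroup.mul_mem_iff_of_index_two comm_index]
    exact iff_of_false hyc (Cfsg.Agent.R08.FiTwentyFour.odd (Cfsg.Agent.H840.Lk.gen_mem .l))
  have G := good_comm hs hc hk T (⟨y * gen .l, hY⟩ : Spor.Fi24')
  haveI : Finite Fi24 := Cfsg.Agent.R08.FiTwentyFour.finite_Fi24
  have F := Cfsg.Agent.H830.Con24.fgroup
  have hl := Cfsg.Agent.H840.Lk.gen_mem .l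
  have hkk := Cfsg.Agent.H840.Lk.gen_mem .k
  have h3 : (gen .l * gen .k) ^ 3 = 1 := cube (fd F) hl hkk not_comm_lk
  have hli := left_inverts (fd F) hl hkk
  have key : (⟨g, hgc⟩ : Spor.Fi24') * (s0 * t1) * (⟨g, hgc⟩ : Spor.Fi24')⁻¹ =
      (s0⁻¹ * (⟨x, hxc⟩ : Spor.Fi24')) * (⟨y * gen .l, hY⟩ : Spor.Fi24') * (s0⁻¹ * (⟨x, hxc⟩ : Spor.Fi24'))⁻¹ *
        (⟨y * gen .l, hY⟩ : Spor.Fi24')⁻¹ := by
    apply Subtype.ext
    show g * ((s0 : Fi24) * t1) * g⁻¹ = ((s0 : Fi24)⁻¹ * x) * (y * gen .l) * ((s0 : Fi24)⁻¹ * x)⁻¹ * (y * gen .l)⁻¹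
    rw [es]
    have cx := hlk x hxC
    have cy := hlk y hyC
    have cg := hlk g hgC
    have clx : Commute x (gen .l) := (mem_Clk.1 hxC).1
    generalize gen .l * gen .k = σ at *
    generalize gen .l = l at *
    have e1 : g * (σ * t1) * g⁻¹ = σ * (g * t1 * g⁻¹) := by
      calc g * (σ * t1) * g⁻¹ = (g * σ) * t1 * g⁻¹ := by group
        _ = (σ * g) * t1 * g⁻¹ := by rw [cg.eq]
        _ = _ := by group
    have e2 : σ⁻¹ * σ⁻¹ = σ := by
      have : σ * σ * σ = 1 := by rw [← h3]; simp only [pow_succ, pow_zero, one_mul]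
      calc σ⁻¹ * σ⁻¹ = σ⁻¹ * σ⁻¹ * (σ * σ * σ) := by rw [this, mul_one]
        _ = σ := by group
    rw [e1, e]
    symm
    calc σ⁻¹ * x * (y * l) * (σ⁻¹ * x)⁻¹ * (y * l)⁻¹
        = (σ⁻¹ * (x * y)) * (l * (x⁻¹) * l⁻¹) * (l * σ * l⁻¹) * y⁻¹ := by group
      _ = ((x * y) * σ⁻¹) * x⁻¹ * σ⁻¹ * y⁻¹ := by
          rw [((cx.mul_left cy).inv_right).symm.eq, hli, clx.inv_left.symm.eq, mul_inv_cancel_right]
      _ = x * y * (σ⁻¹ * x⁻¹) * σ⁻¹ * y⁻¹ := by group
      _ = x * y * (x⁻¹ * σ⁻¹) * σ⁻¹ * y⁻¹ := by rw [cx.inv_inv.eq]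
      _ = x * y * x⁻¹ * (σ⁻¹ * σ⁻¹) * y⁻¹ := by group
      _ = (x * y * x⁻¹) * σ * y⁻¹ := by rw [e2]
      _ = (x * y * x⁻¹) * (y⁻¹ * σ) := by rw [cy.inv_left.eq]; group
      _ = (x * y * x⁻¹ * y⁻¹) * σ := by group
      _ = σ * (x * y * x⁻¹ * y⁻¹) := (((cx.mul_left cy).mul_left cx.inv_left).mul_left cy.inv_left).eq
  rw [key]
  exact G

end Cfsg.Agent.H834.R4
end

-- part: H611/QF/RowB
section
/-!
# The row `Fi24'` of S2491, S2492: the class `3A` and the elements of order 3 are done (helper611)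

* `rowB` : the row from the degree bounds, the 2-elements, the classes `3C`, `3E` times a 2-element, R5 and R7.
-/

set_option autoImplicit false
set_option maxRecDepth 100000

namespace Cfsg.Agent.H611.QF

open Cfsg Subgroup Cfsg.Agent.H51.Mult Cfsg.Agent.H777.Ore Cfsg.Agent.H265.TF
open Cfsg.Agent.H52.ThreeFi24

/-- class `3A` times a 2-element -/
theorem good_zero {s t : Spor.Fi24'} {n : ℕ} (h : Cls 0 s) (ht : t ^ 2 ^ n = 1) (hst : Commute s t) :
    Good π3 (s * t) :=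
  Cfsg.Agent.H834.R4.r4 pce.surj pce.cen card_ker_L3 tri_lk (conj_s0 h) ht hst

end Cfsg.Agent.H611.QF
end

-- part: H29/TF/TwoA
section
/-!
# `Fi24'`: `|C(z) ∩ C(s)|` for an involution `z` and `s` of order 3 not of class `3A`, `3C` (helper29)

* `fi22` : `s ∈ Fi22` of order 3 is a product of two transpositions or `|C(s)| ≤ 2519424`;
* `two_a` : `|C(z) ∩ C(s)| ≤ 10077696` for `z` of class `2A` and `s` not of class `3A`;
* `r5` : the same for all involutions `z` and `s` not of class `3A`, `3C`.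
-/

set_option autoImplicit false

namespace Cfsg.Agent.H29.TF

open Cfsg Subgroup Cfsg.Agent.R08
open Cfsg.Agent.LThreeFi22 Cfsg.Agent.H836 Cfsg.Agent.R01.FiFusion Cfsg.Agent.R01.FiFacts
open Cfsg.Agent.KFacts.FiTT (TK)
open Cfsg.Agent.H835.ClsThree
open Cfsg.Agent.H759.Ore.Fi22Cent (width_map card_cent_of_conj card_of_width_four card_of_free exists_central card_of_central)

universe v

variable {K : Type v} [Group K]

/-- the elements of order 3 of `Fi22` -/
theorem refined (e : K ≃* Spor.Fi22) {s : K} (hs : orderOf s = 3) :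
    Nat.card ↥(centralizer ({s} : Set K)) ≤ 2519424 ∨
      ∃ x g : K, Is3A (TK e) x ∧ (zpowers s).map (MulAut.conj g).toMonoidHom = zpowers x := by
  have I := inv_of_iso e
  have C := I.ctx
  have hfin := C.finite
  obtain ⟨Y, hY, hYinj, hYall, w0, w1, w2, w3⟩ := three_concl e
  have cl : ∀ y : K, orderOf y = 3 → ∃ i, ∃ g : K, (zpowers y).map (MulAut.conj g).toMonoidHom = Y i := fun y hy =>
    hYall _ (by rw [Nat.card_zpowers, hy])
  have wd : ∀ y : K, orderOf y = 3 → ∀ i, ∀ g : K, (zpowers y).map (MulAut.conj g).toMonoidHom = Y i →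
      Cfsg.commutingWidth (TK e ∩ (centralizer ((zpowers y : Subgroup K) : Set K) : Set K)) =
        Cfsg.commutingWidth (TK e ∩ (centralizer ((Y i : Subgroup K) : Set K) : Set K)) := fun y hy i g h =>
    width_map e (by rw [Nat.card_zpowers, hy]) (hY i) h
  have same' : ∀ x y : K, ∀ i, ∀ g k : K, (zpowers x).map (MulAut.conj g).toMonoidHom = Y i →
      (zpowers y).map (MulAut.conj k).toMonoidHom = Y i →
      (zpowers x).map (MulAut.conj (k⁻¹ * g)).toMonoidHom = zpowers y := by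
    intro x y i g k h1 h2
    rw [← H835.HexMain.map_map_conj, h1, ← h2, H835.HexMain.map_map_conj, inv_mul_cancel, map_one]
    exact Subgroup.map_id _
  -- class 0
  have c0 : ∀ y : K, orderOf y = 3 → ∀ g : K, (zpowers y).map (MulAut.conj g).toMonoidHom = Y 0 →
      ∃ x g : K, Is3A (TK e) x ∧ (zpowers y).map (MulAut.conj g).toMonoidHom = zpowers x ∧
        Nat.card ↥(centralizer ({y} : Set K)) = 19595520 := by
    intro y hy g hg
    obtain ⟨a, ha, b, hb, c, hc, hab, -, -⟩ := C.mupos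
    obtain ⟨m⟩ := Cfsg.Agent.H834.Bridge.model_of_iso e (D := TK e) rfl
    have hx0 : Is3A (TK e) (a * b) := ⟨a, ha, b, hb, hab, rfl⟩
    obtain ⟨p3, p1⟩ := pow_3A I hx0
    have ho : orderOf (a * b) = 3 := by
      have := Fact.mk Nat.prime_three
      exact orderOf_eq_prime p3 p1
    obtain ⟨i, k, hk⟩ := cl _ ho
    have h1 := wd _ ho i k hk
    rw [H836.Main.inter_eq, Cfsg.Agent.H835.Kind.width_three m hx0] at h1
    have hi : i = 0 := by
      fin_cases i
      · rfl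
      · exfalso
        have h2 : (6 : ℕ) = 4 := h1.trans w1
        omega
      · exfalso
        have h2 : (6 : ℕ) = 3 := h1.trans w2
        omega
      · exfalso
        have h2 : (6 : ℕ) = 0 := h1.trans w3
        omega
    rw [hi] at hk
    refine ⟨a * b, k⁻¹ * g, hx0, same' y (a * b) 0 g k hg hk, ?_⟩
    rw [card_cent_of_conj (same' y (a * b) 0 g k hg hk)]
    exact C.card_three ha hb hab
  have c1 : ∀ y : K, orderOf y = 3 → ∀ g : K, (zpowers y).map (MulAut.conj g).toMonoidHom = Y 1 →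
      Nat.card ↥(centralizer ({y} : Set K)) ∣ 279936 := fun y hy g hg =>
    card_of_width_four e hy ((wd y hy 1 g hg).trans w1)
  have c3 : ∀ y : K, orderOf y = 3 → ∀ g : K, (zpowers y).map (MulAut.conj g).toMonoidHom = Y 3 →
      Nat.card ↥(centralizer ({y} : Set K)) = 17496 := by
    intro y hy g hg
    apply card_of_free e hy
    intro t ht hyt
    have h1 := (wd y hy 3 g hg).trans w3
    rw [H836.Main.inter_eq] at h1
    have h2 := Cfsg.Agent.H834.le_commutingWidth (D := Fx (TK e) y) (E := {t}) (by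
      rintro _ rfl
      exact ⟨ht, hyt⟩) (by
      rintro a rfl b hb
      have hb' : b = a := hb
      rw [hb'])
    rw [Set.ncard_singleton, h1] at h2
    omega
  obtain ⟨z, hz, hz9⟩ := exists_central C.card
  have c2 : ∀ y : K, orderOf y = 3 → ∀ g : K, (zpowers y).map (MulAut.conj g).toMonoidHom = Y 2 →
      Nat.card ↥(centralizer ({y} : Set K)) = Nat.card ↥(centralizer ({z} : Set K)) := by
    intro y hy g hg
    obtain ⟨i, k, hk⟩ := cl _ hz
    have hi : i = 2 := by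
      fin_cases i
      · exfalso
        obtain ⟨-, -, -, -, h1⟩ := c0 z hz k hk
        rw [h1] at hz9
        revert hz9
        norm_num
      · exfalso
        have h1 := hz9.trans (c1 z hz k hk)
        revert h1
        norm_num
      · rfl
      · exfalso
        have h1 := c3 z hz k hk
        rw [h1] at hz9
        revert hz9
        norm_num
    rw [hi] at hk
    exact card_cent_of_conj (same' y z 2 g k hg hk)
  obtain ⟨i, g, hg⟩ := cl s hs
  fin_cases i
  · obtain ⟨x, k, h1, h2, -⟩ := c0 s hs g hg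
    exact Or.inr ⟨x, k, h1, h2⟩
  · exact Or.inl ((Nat.le_of_dvd (by norm_num) (c1 s hs g hg)).trans (by norm_num))
  · left
    have h1 := c2 s hs g hg
    rw [h1]
    exact (Nat.le_of_dvd (by norm_num) (card_of_central e hz hz9)).trans (by norm_num)
  · left
    have h1 := c3 s hs g hg
    rw [h1]
    norm_num

theorem conj_T {t : Spor.Fi22} (ht : t ∈ Cfsg.Agent.R01.Fi22Facts.T) (g : Spor.Fi22) :
    g * t * g⁻¹ ∈ Cfsg.Agent.R01.Fi22Facts.T := by
  have h1 : IsConj t (g * t * g⁻¹) := isConj_iff.2 ⟨g, rfl⟩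
  exact IsConj.trans ht h1

theorem sq_T {t : Spor.Fi22} (ht : t ∈ Cfsg.Agent.R01.Fi22Facts.T) : t * t = 1 := by
  have h1 := Cfsg.Agent.R01.Fi22Facts.isThreeTranspositionClass_T.1.1 t ht
  rw [← pow_two, ← h1]
  exact pow_orderOf_eq_one t

/-- **an element of order 3 of `Fi22`** -/
theorem fi22 {s : Spor.Fi22} (hs : orderOf s = 3) : Nat.card ↥(centralizer ({s} : Set Spor.Fi22)) ≤ 2519424 ∨
    ∃ a ∈ Cfsg.Agent.R01.Fi22Facts.T, ∃ b ∈ Cfsg.Agent.R01.Fi22Facts.T, s = a * b := by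
  rcases refined (MulEquiv.refl Spor.Fi22) hs with h | ⟨x, g, ⟨a, ha, b, hb, -, rfl⟩, h⟩
  · exact Or.inl h
  right
  have hT : ∀ t ∈ TK (MulEquiv.refl Spor.Fi22), t ∈ Cfsg.Agent.R01.Fi22Facts.T := by
    rintro _ ⟨u, hu, rfl⟩
    exact hu
  have ha := hT a ha
  have hb := hT b hb
  have hs1 : g * s * g⁻¹ ∈ zpowers (a * b) := by
    rw [← h]
    exact ⟨s, mem_zpowers s, rfl⟩
  have hab : (a * b) ^ 3 = 1 := by
    have h1 : Nat.card ↥(zpowers (a * b)) = 3 := by
      rw [← h, Subgroup.card_map_of_injective (MulAut.conj g).injective, Nat.card_zpowers, hs]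
    rw [Nat.card_zpowers] at h1
    rw [← h1]; exact pow_orderOf_eq_one _
  have qa : a * a = 1 := sq_T ha
  have qb : b * b = 1 := sq_T hb
  have hs2 : g * s * g⁻¹ = 1 ∨ g * s * g⁻¹ = a * b ∨ g * s * g⁻¹ = b * a := by
    obtain ⟨k, hk⟩ := hs1
    have hk' : (a * b) ^ k = g * s * g⁻¹ := hk
    have h1 : (a * b) ^ k = (a * b) ^ (k % 3) := by
      conv_lhs => rw [← Int.emod_add_mul_ediv k 3, zpow_add, zpow_mul]
      rw [show ((a * b) ^ (3 : ℤ)) = 1 from by exact_mod_cast hab, one_zpow, mul_one]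
    rw [← hk', h1]
    have h2 : k % 3 = 0 ∨ k % 3 = 1 ∨ k % 3 = 2 := by omega
    rcases h2 with h2 | h2 | h2
    · left; rw [h2, zpow_zero]
    · right; left; rw [h2, zpow_one]
    · right; right
      rw [h2]
      have h3 : (a * b) ^ (2 : ℤ) * (a * b) = b * a * (a * b) := by
        have e1 : (a * b) ^ (2 : ℤ) * (a * b) = (a * b) ^ 3 := by
          rw [pow_succ]
          rfl
        rw [e1, hab]
        calc (1 : Spor.Fi22) = b * (1 : Spor.Fi22) * b := by rw [mul_one, qb]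
          _ = b * a * (a * b) := by rw [← qa]; group
      exact mul_right_cancel h3
  rcases hs2 with h1 | h1 | h1
  · exfalso
    rw [conj_eq_one_iff] at h1
    rw [h1, orderOf_one] at hs
    omega
  · refine ⟨g⁻¹ * a * g⁻¹⁻¹, conj_T ha _, g⁻¹ * b * g⁻¹⁻¹, conj_T hb _, ?_⟩
    calc s = g⁻¹ * (g * s * g⁻¹) * g := by group
      _ = _ := by rw [h1]; group
  · refine ⟨g⁻¹ * b * g⁻¹⁻¹, conj_T hb _, g⁻¹ * a * g⁻¹⁻¹, conj_T ha _, ?_⟩
    calc s = g⁻¹ * (g * s * g⁻¹) * g := by group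
      _ = _ := by rw [h1]; group

/-! ### The class `2A` -/

open Cfsg.Agent.R08.FiTwentyFour (L)
open Cfsg.Agent.H868.Ore.Fi24A (perm comm_of_three)
open Cfsg.Agent.H611.QF (Cls)

/-- products of noncommuting transpositions are of class `3A` -/
theorem cls0 {s : Spor.Fi24'} {c d : Spor.Fi24} (hc : c ∈ L) (hd : d ∈ L) (hn : ¬ Commute c d)
    (h : (s : Spor.Fi24) = c * d) : Cls 0 s := by
  obtain ⟨g, h1, h2⟩ := Cfsg.Agent.LThreeFi24.Base24.noncomm_trans hc hd
    (Cfsg.Agent.R08.FiTwentyFour.gen_mem_L .l) (Cfsg.Agent.R08.FiTwentyFour.gen_mem_L .k) hn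
    Cfsg.Agent.LThreeFi24.Main24.not_comm_lk
  refine ⟨g, Or.inl ?_⟩
  have h3 : g * (s : Spor.Fi24) * g⁻¹ = (g * c * g⁻¹) * (g * d * g⁻¹) := by rw [h]; group
  exact h3.trans (congrArg₂ (fun x y => x * y) h1 h2)

/-- **the bound for `2A`** -/
theorem two_a {z s : Spor.Fi24'} {a b : Spor.Fi24} (ha : a ∈ L) (hb : b ∈ L) (hne : a ≠ b) (hab : Commute a b)
    (hz : (z : Spor.Fi24) = a * b) (hs : orderOf s = 3) (hzs : Commute z s) (hn : ¬ Cls 0 s) :
    Nat.card (centralizer ({z} : Set Spor.Fi24') ⊓ centralizer ({s} : Set Spor.Fi24') : Subgroup Spor.Fi24') ≤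
      10077696 := by
  classical
  have hfin : Finite Spor.Fi24' := H755.CC.FiTF.finite_G
  have hfin2 : Finite Spor.Fi22 := H868.Ore.Fi23A.finite_fi22
  set D : Subgroup Spor.Fi24' := centralizer {z} ⊓ centralizer {s} with hD
  have hDz : ∀ g : Spor.Fi24', g ∈ D → Commute (g : Spor.Fi24) (a * b) := by
    intro g hg
    rw [← hz]
    exact congrArg Subtype.val (mem_centralizer_singleton_iff.1 hg.1)
  have hDs : ∀ g : Spor.Fi24', g ∈ D → Commute (g : Spor.Fi24) s := fun g hg =>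
    congrArg Subtype.val (mem_centralizer_singleton_iff.1 hg.2)
  have hs3' : s ^ 3 = 1 := by rw [← hs, pow_orderOf_eq_one]
  have hs3 : (s : Spor.Fi24) ^ 3 = 1 := congrArg Subtype.val hs3'
  have hsab := comm_of_three ha hb hne hab hs3 (by rw [← hz]; exact (congrArg Subtype.val hzs.eq).symm)
  let H : Subgroup D :=
    { carrier := {g | Commute ((g : Spor.Fi24') : Spor.Fi24) a}
      one_mem' := Commute.one_left a
      mul_mem' := fun {x y} hx hy => Commute.mul_left hx hy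
      inv_mem' := fun {x} hx => Commute.inv_left hx }
  have hDH : Nat.card D ≤ 2 * Nat.card H := by
    by_cases hex : ∃ g0 : D, g0 ∉ H
    · obtain ⟨g0, hg0⟩ := hex
      have h1 : ∀ g : D, g ∉ H → (g : Spor.Fi24) * a * (g : Spor.Fi24)⁻¹ = b := fun g hg =>
        (perm ha hb hne hab (hDz g g.2)).resolve_left fun h => hg (mul_inv_eq_iff_eq_mul.1 h)
      have h2 : ∀ g : D, g ∉ H → g0⁻¹ * g ∈ H := by
        intro g hg
        have h3 := h1 g hg
        have h4 := h1 g0 hg0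
        show ((g0⁻¹ * g : D) : Spor.Fi24) * a = a * ((g0⁻¹ * g : D) : Spor.Fi24)
        have h5 : ((g0⁻¹ * g : D) : Spor.Fi24) = (g0 : Spor.Fi24)⁻¹ * g := rfl
        rw [h5]
        calc (g0 : Spor.Fi24)⁻¹ * g * a = (g0 : Spor.Fi24)⁻¹ * ((g : Spor.Fi24) * a * (g : Spor.Fi24)⁻¹) * g := by group
          _ = (g0 : Spor.Fi24)⁻¹ * ((g0 : Spor.Fi24) * a * (g0 : Spor.Fi24)⁻¹) * g := by rw [h3, h4]
          _ = a * ((g0 : Spor.Fi24)⁻¹ * g) := by group
      let f : D → H ⊕ H := fun g => if hg : g ∈ H then Sum.inl ⟨g, hg⟩ else Sum.inr ⟨g0⁻¹ * g, h2 g hg⟩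
      have hf : Function.Injective f := by
        intro x y hxy
        by_cases hx : x ∈ H
        · by_cases hy : y ∈ H
          · simp only [f, hx, hy, dif_pos, Sum.inl.injEq, Subtype.mk.injEq] at hxy
            exact hxy
          · simp only [f, hx, hy, dif_pos, dif_neg, not_false_eq_true, reduceCtorEq] at hxy
        · by_cases hy : y ∈ H
          · simp only [f, hx, hy, dif_pos, dif_neg, not_false_eq_true, reduceCtorEq] at hxy
          · simp only [f, hx, hy, dif_neg, not_false_eq_true, Sum.inr.injEq, Subtype.mk.injEq, mul_right_inj] at hxy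
            exact hxy
      have h3 := Nat.card_le_card_of_injective f hf
      rw [Nat.card_sum] at h3
      omega
    · push Not at hex
      have h1 : H = ⊤ := (Subgroup.eq_top_iff' H).2 hex
      rw [h1, Subgroup.card_top]
      omega
  obtain ⟨π, -, hker, -, hT, -⟩ := FiTwentyFour.loc ha hb hne hab
  have hmem : ∀ g : D, g ∈ H → ((g : Spor.Fi24') : Spor.Fi24) ∈ commutator Spor.Fi24 ⊓ centralizer {a, b} := by
    intro g hg
    have hga : Commute ((g : Spor.Fi24') : Spor.Fi24) a := hg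
    have hgz := hDz g g.2
    have hgb : Commute ((g : Spor.Fi24') : Spor.Fi24) b := by
      have h1 : a * ((g : Spor.Fi24) * b) = a * (b * g) := by
        calc a * ((g : Spor.Fi24) * b) = g * (a * b) := by rw [← mul_assoc, ← hga.eq, mul_assoc]
          _ = a * b * g := hgz.eq
          _ = a * (b * g) := mul_assoc _ _ _
      exact mul_left_cancel h1
    refine ⟨(g : Spor.Fi24').2, mem_centralizer_iff.2 ?_⟩
    rintro w (rfl | rfl)
    · exact hga.eq.symm
    · exact hgb.eq.symm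
  let K : Subgroup Spor.Fi24 := commutator Spor.Fi24 ⊓ centralizer {a, b}
  have hsK : (s : Spor.Fi24) ∈ K := ⟨s.2, mem_centralizer_iff.2 (by
    rintro w (rfl | rfl)
    · exact hsab.1.eq.symm
    · exact hsab.2.eq.symm)⟩
  let s' : K := ⟨s, hsK⟩
  have hfinK : Finite K := by
    have h1 : K ≤ commutator Spor.Fi24 := inf_le_left
    exact Finite.of_injective (Subgroup.inclusion h1) (Subgroup.inclusion_injective h1)
  have hzK : (z : Spor.Fi24) ∈ K := ⟨z.2, by
    rw [hz]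
    refine mem_centralizer_iff.2 ?_
    rintro w (rfl | rfl)
    · exact ((Commute.refl w).mul_right hab).eq
    · exact (hab.symm.mul_right (Commute.refl w)).eq⟩
  let z' : K := ⟨z, hzK⟩
  have hker' : ∀ c : K, π c = 1 → c = 1 ∨ c = z' := by
    intro c hc
    rcases (hker c).1 hc with h | h
    · exact Or.inl (Subtype.ext h)
    · exact Or.inr (Subtype.ext (h.trans hz.symm))
  have qa := FiTwentyFour.sq ha
  have qb := FiTwentyFour.sq hb
  have hzz0 : (z : Spor.Fi24) * z = 1 := by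
    rw [hz]
    calc a * b * (a * b) = a * (b * a) * b := by group
      _ = a * (a * b) * b := by rw [hab.eq]
      _ = (a * a) * (b * b) := by group
      _ = 1 := by rw [qa, qb, one_mul]
  have hzz : z' * z' = 1 := Subtype.ext hzz0
  have hs' : orderOf s' = 3 := by
    rw [Subgroup.orderOf_mk, ← hs]
    exact orderOf_coe s
  have hH : Nat.card H ≤ Nat.card (centralizer ({s'} : Set K)) := by
    refine Nat.card_le_card_of_injective (fun g => ⟨⟨((g : D) : Spor.Fi24'), hmem g g.2⟩, ?_⟩) ?_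
    · exact mem_centralizer_singleton_iff.2 (Subtype.ext (hDs g (g : D).2).eq)
    · intro x y hxy
      exact Subtype.ext (Subtype.ext (Subtype.ext
        (congrArg (fun t : centralizer ({s'} : Set K) => ((t : K) : Spor.Fi24)) hxy)))
  have h2 := H868.Ore.Fi23A.card_le_of_ker π hker' s'
  rcases fi22 (H868.Ore.Fi23A.orderOf_three π hzz hker' hs') with h3 | ⟨t1, ht1, t2, ht2, h3⟩
  · have h4 : Nat.card H ≤ 2 * 2519424 := (hH.trans h2).trans (Nat.mul_le_mul_left 2 h3)
    omega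
  · exfalso
    obtain ⟨c, hc, -, -, hca, hcb, x1, hx1, hπ1⟩ := hT t1 ht1
    obtain ⟨d, hd, -, -, hda, hdb, x2, hx2, hπ2⟩ := hT t2 ht2
    have h4 : π (s' * (x1 * x2)⁻¹) = 1 := by
      rw [map_mul, map_inv, map_mul, hπ1, hπ2, h3, mul_inv_cancel]
    have h5 : ((x1 * x2 : K) : Spor.Fi24) = c * d := by
      show (x1 : Spor.Fi24) * (x2 : Spor.Fi24) = c * d
      rw [hx1, hx2]
      calc a * c * (a * d) = a * (c * a) * d := by group
        _ = (a * a) * (c * d) := by rw [hca.eq]; group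
        _ = c * d := by rw [qa, one_mul]
    have qc := FiTwentyFour.sq hc
    have qd := FiTwentyFour.sq hd
    have hcomm : Commute (z : Spor.Fi24) (c * d) := by
      rw [hz]
      exact ((hca.symm.mul_left hcb.symm).mul_right (hda.symm.mul_left hdb.symm))
    have hsne : (s : Spor.Fi24) ≠ 1 := by
      intro h
      have h1 : s = 1 := Subtype.ext h
      rw [h1, orderOf_one] at hs
      omega
    have hzne : (z : Spor.Fi24) ≠ 1 := by
      rw [hz]
      intro h
      apply hne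
      calc a = a * b * b := by rw [mul_assoc, qb, mul_one]
        _ = b := by rw [h, one_mul]
    have h6 : (s : Spor.Fi24) = c * d ∨ (s : Spor.Fi24) = z * (c * d) := by
      rcases hker' _ h4 with h | h
      · left
        have h7 : s' = x1 * x2 := mul_inv_eq_one.1 h
        rw [← h5, ← h7]
      · right
        have h7 : s' = z' * (x1 * x2) := mul_inv_eq_iff_eq_mul.1 h
        rw [← h5]
        exact congrArg Subtype.val h7
    -- `c`, `d` do not commute
    have hcd : ¬ Commute c d := by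
      intro h
      have h7 : (c * d) * (c * d) = 1 := by
        calc (c * d) * (c * d) = c * (d * c) * d := by group
          _ = c * (c * d) * d := by rw [h.eq]
          _ = (c * c) * (d * d) := by group
          _ = 1 := by rw [qc, qd, one_mul]
      have h8 : (s : Spor.Fi24) * s = 1 := by
        rcases h6 with h6 | h6
        · rw [h6, h7]
        · rw [h6]
          calc (z : Spor.Fi24) * (c * d) * (z * (c * d)) = z * ((c * d) * z) * (c * d) := by group
            _ = z * (z * (c * d)) * (c * d) := by rw [hcomm.eq]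
            _ = (z * z) * ((c * d) * (c * d)) := by group
            _ = 1 := by rw [hzz0, h7, one_mul]
      apply hsne
      have h9 : (s : Spor.Fi24) = s ^ 3 := by rw [pow_succ, pow_two, h8, one_mul]
      rw [h9, hs3]
    have hcd3 : (c * d) ^ 3 = 1 := by
      rcases FiTwentyFour.three hc hd with h | h
      · exact absurd h hcd
      · calc (c * d) ^ 3 = (c * d * c) * (d * c * d) := by simp only [pow_succ, pow_zero, one_mul]; group
          _ = (d * c * d) * (d * c * d) := by rw [h]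
          _ = d * (c * (d * d) * c) * d := by group
          _ = 1 := by rw [qd, mul_one, qc, mul_one, qd]
    rcases h6 with h6 | h6
    · exact hn (cls0 hc hd hcd h6)
    · apply hzne
      have h7 : (s : Spor.Fi24) ^ 3 = (z : Spor.Fi24) ^ 3 * (c * d) ^ 3 := by rw [h6, hcomm.mul_pow]
      rw [hs3, hcd3, mul_one, pow_succ, pow_two, hzz0, one_mul] at h7
      exact h7.symm

/-- **R5** -/
theorem r5 (z s : Spor.Fi24') (hz1 : z ≠ 1) (hz2 : z * z = 1) (hs : orderOf s = 3) (hzs : Commute z s)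
    (h0 : ¬ Cls 0 s) (h1 : ¬ Cls 1 s) :
    Nat.card (centralizer ({z} : Set Spor.Fi24') ⊓ centralizer ({s} : Set Spor.Fi24') : Subgroup Spor.Fi24') ≤
      10077696 := by
  rcases Cfsg.Agent.R08.TetFi24C.facts.invol (z : Spor.Fi24) z.2 (congrArg Subtype.val hz2)
    (fun h => hz1 (Subtype.ext h)) with ⟨a, ha, b, hb, hab, hc, he⟩ | ⟨a, b, c, d, hT⟩
  · exact two_a ha hb hab hc he hs hzs h0
  · exact two_b hT hs hzs h1

end Cfsg.Agent.H29.TF
end
end
end
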